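import Cfsg.Agent.Lib.QuadRoot.Parts

/-!
Each part of `quadraticRootSubgroups G` generates a quasisimple group.
* `lift_member`, `normal_part` : a subgroup normalised by a part is all of it or centralises it
* `part_quasisimple`
-/

set_option autoImplicit false
set_option linter.unusedSectionVars false

namespace Cfsg.Agent.QuadRoot

open Cfsg Module
open scoped MatrixGroups commutatorElement

universe u v

variable {k : Type u} [Field k] {M : Type v} [AddCommGroup M] [Module k M] [FiniteDimensional k M]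
  {G : Subgroup (LinearMap.GeneralLinearGroup k M)}
  {A B C D N : Subgroup (LinearMap.GeneralLinearGroup k M)}

local notation "GLM" => LinearMap.GeneralLinearGroup k M
local notation "ΣG" => quadraticRootSubgroups G

theorem nil_sup {U V : Subgroup GLM} (hU : IsUnipotentOn U) (hV : IsUnipotentOn V)
    (hn : V ≤ Subgroup.normalizer (U : Set GLM)) : IsUnipotentOn (U ⊔ V) := by
  obtain ⟨F, hF, h⟩ := S5061.nil_union (S5061.nil_iff_isUnipotentOn.2 hU) (S5061.nil_iff_isUnipotentOn.2 hV)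
    fun z hz d hd => (Subgroup.mem_normalizer_iff.1 (hn hz) d).1 hd
  exact S5061.nil_iff_isUnipotentOn.1
    ⟨F, hF, (sup_le (fun x hx => h (Or.inl hx)) (fun x hx => h (Or.inr hx)) : U ⊔ V ≤ S5061.level F hF 1)⟩

theorem unipotent_mono {U V : Subgroup GLM} (hV : IsUnipotentOn V) (h : U ≤ V) : IsUnipotentOn U := by
  obtain ⟨F, hF, h'⟩ := S5061.nil_iff_isUnipotentOn.2 hV
  exact S5061.nil_iff_isUnipotentOn.1 ⟨F, hF, fun x hx => h' (h hx)⟩

theorem unipotent_conjBy {U : Subgroup GLM} (hU : IsUnipotentOn U) (x : GLM) : IsUnipotentOn (conjBy U x) := by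
  obtain ⟨n, hn⟩ := S5061.nil_iff.1 (S5061.nil_iff_isUnipotentOn.2 hU)
  refine S5061.nil_iff_isUnipotentOn.1 (S5061.nil_iff.2 ⟨n, fun l hl hlen => ?_⟩)
  have key : ∀ l : List GLM, (l.map S5061.dev).prod
      = cj x ((l.map fun g => S5061.dev (x⁻¹ * g * x)).prod) := by
    intro l
    induction l with
    | nil => simp [cj_one]
    | cons g l ih =>
      rw [List.map_cons, List.map_cons, List.prod_cons, List.prod_cons, cj_mul, ← ih]
      congr 1
      show (g : Module.End k M) - 1 = cj x (((x⁻¹ * g * x : GLM) : Module.End k M) - 1)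
      rw [cj_sub, cj_one, cj, ← Units.val_mul, ← Units.val_mul]
      simp [mul_assoc]
  have hzero := hn (l.map fun g => x⁻¹ * g * x) (fun g hg => by
    obtain ⟨y, hy, rfl⟩ := List.mem_map.1 hg
    exact RankOne.mem_conjBy.1 (hl y hy)) (by rw [List.length_map, hlen])
  rw [List.map_map] at hzero
  rw [key, show (l.map fun g => S5061.dev (x⁻¹ * g * x)).prod = 0 from hzero, cj_zero]

variable (hk2 : ringChar k ≠ 2) (hk3 : Nat.card k ≠ 3) (hirr : Reduced G)
include hk2 hk3 hirr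

theorem pair_le_of_meet (hB : B ∈ ΣG) (hD : D ∈ ΣG) (h : IsRankOnePair B D)
    (hN : B ⊔ D ≤ Subgroup.normalizer (N : Set GLM)) {x : GLM} (hxN : x ∈ N) (hx : x ∈ B ⊔ D)
    (hnc : ∃ y ∈ B ⊔ D, x * y ≠ y * x) : B ⊔ D ≤ N := by
  set N' := N ⊓ (B ⊔ D)
  have hnor : B ⊔ D ≤ Subgroup.normalizer (N' : Set GLM) := RankOne.le_normalizer_of_conjBy_le fun g hg => by
    rw [RankOne.conjBy_inf, RankOne.conjBy_of_mem_normalizer (hN hg), RankOne.conjBy_of_mem hg]
  rcases RankOne.sup_eq_or_le_centralizer h inf_le_right hnor with he | hc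
  · have hder : ⁅B ⊔ D, B ⊔ D⁆ ≤ N := by
      rw [Subgroup.commutator_le]
      intro p hp q hq
      have hBN : B ≤ Subgroup.normalizer (N' : Set GLM) := le_sup_left.trans hnor
      rw [← he, ← SetLike.mem_coe, Subgroup.coe_mul_of_right_le_normalizer_left _ _ hBN] at hp hq
      obtain ⟨n, hn, a, ha, rfl⟩ := hp
      obtain ⟨m, hm, a', ha', rfl⟩ := hq
      haveI := member_comm' hB
      have hcom : a * a' = a' * a := congrArg Subtype.val (mul_comm' (⟨a, ha⟩ : B) ⟨a', ha'⟩)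
      have e : ⁅n * a, m * a'⁆ = n * (a * m * a⁻¹) * (a' * n⁻¹ * a'⁻¹) * m⁻¹ := by
        have h2 : a * a' * a⁻¹ = a' := by rw [hcom, mul_inv_cancel_right]
        simp only [commutatorElement_def, mul_inv_rev, mul_assoc]
        congr 3
        rw [← mul_assoc a' a⁻¹, show a' * a⁻¹ = a⁻¹ * a' from congrArg Subtype.val
          (mul_comm' (⟨a', ha'⟩ : B) ⟨a⁻¹, inv_mem ha⟩), mul_assoc]
      show ⁅n * a, m * a'⁆ ∈ N
      rw [e]
      have c1 : a * m * a⁻¹ ∈ N' := (Subgroup.mem_normalizer_iff.1 (hBN ha) m).1 hm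
      have c2 : a' * n⁻¹ * a'⁻¹ ∈ N' := (Subgroup.mem_normalizer_iff.1 (hBN ha') n⁻¹).1 (inv_mem hn)
      exact (mul_mem (mul_mem (mul_mem hn c1) c2) (inv_mem hm)).1
    refine (sup_le ((member_le_derived hk2 hk3 hirr hB hD h).trans hder) ?_)
    refine (member_le_derived hk2 hk3 hirr hD hB (RankOnePair_symm h)).trans ?_
    rwa [sup_comm]
  · obtain ⟨y, hy, hxy⟩ := hnc
    exact absurd (Subgroup.mem_centralizer_iff.1 (hc ⟨hxN, hx⟩) y hy).symm hxy

theorem lift_member (hN : partGroup G A ≤ Subgroup.normalizer (N : Set GLM)) (hB : B ∈ part G A) {x : GLM}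
    (hxN : x ∈ N) (hx : x ∈ B) (hx1 : x ≠ 1) : partGroup G A ≤ N := by
  have step : ∀ {B D}, B ∈ part G A → D ∈ part G A → IsRankOnePair B D → ∀ {y}, y ∈ N → y ∈ B → y ≠ 1 →
      B ⊔ D ≤ N := by
    intro B D hB hD h y hyN hyB hy1
    refine pair_le_of_meet hk2 hk3 hirr hB.1 hD.1 h ((sup_le (le_partGroup hB) (le_partGroup hD)).trans hN) hyN
      (Subgroup.mem_sup_left hyB) ?_
    by_contra! hc
    exact RankOne.not_commute h hyB hy1 fun d hd => hc d (Subgroup.mem_sup_right hd)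
  obtain ⟨D₀, hD₀, hBD₀⟩ := partner_in_part hk2 hk3 hirr hB
  have h0 : B ≤ N := le_sup_left.trans (step hB hD₀ hBD₀ hxN hx hx1)
  suffices hall : ∀ {C}, RankOne.FReach ΣG B C → C ≤ N from
    iSup₂_le fun C hC => hall ((RankOne.fReach_symm hB.2).trans hC.2)
  intro C hC
  induction hC with
  | refl => exact h0
  | @tail P Q hP e ih =>
    obtain ⟨y, hy, hy1⟩ := RankOne.exists_ne_one e.2.2
    exact le_sup_right.trans (step ⟨e.1, hB.2.trans hP⟩ ⟨e.2.1, (hB.2.trans hP).tail e⟩ e.2.2 (ih hy) hy hy1)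

theorem unipotent_of_commuting {B : Subgroup GLM} (hB : B ∈ ΣG) {N : Subgroup GLM} (hNG : N ≤ G)
    (hc : ∀ n ∈ N, ∀ m ∈ N, ⁅conjBy B n, conjBy B m⁆ = ⊥) : IsUnipotentOn (⨆ n ∈ N, conjBy B n) := by
  set W : Set (Subgroup GLM) := {C | ∃ n ∈ N, C = conjBy B n}
  have hW : (⨆ n ∈ N, conjBy B n) = ⨆ C ∈ W, C :=
    le_antisymm (iSup₂_le fun n hn => le_iSup₂_of_le (f := fun C _ => C) _ ⟨n, hn, rfl⟩ le_rfl)
      (iSup₂_le fun C hC => by obtain ⟨n, hn, rfl⟩ := hC; exact le_iSup₂_of_le n hn le_rfl)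
  rw [hW]
  refine (S5061.result (G := ⨆ C ∈ W, C) (fun C hC => le_iSup₂_of_le C hC le_rfl) ?_ ?_).1
  · rintro _ ⟨n, hn, rfl⟩ _ ⟨m, hm, rfl⟩
    obtain ⟨a, ha, ea⟩ := mem_quadraticRootSubgroups.1 (conj_mem hB (hNG hn))
    obtain ⟨b, hb, eb⟩ := mem_quadraticRootSubgroups.1 (conj_mem hB (hNG hm))
    have h0 := hc n hn m hm
    rw [ea, eb] at h0 ⊢
    refine unipotent_sup hk2 hk3 ha hb (not_opp_of_commute hk2 hk3 ha hb (SameClass.refl ha) (SameClass.refl hb) ?_).1
    exact (RankOne.elem_commute h0 (ex_mem_sameActionSubgroup ha (SameClass.refl ha))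
      (ex_mem_sameActionSubgroup hb (SameClass.refl hb))).eq
  · rintro _ ⟨n, hn, rfl⟩ g hg
    refine ⟨n, hn, RankOne.conjBy_of_commute ?_⟩
    have hle : (⨆ C ∈ W, C) ≤ Subgroup.centralizer ((conjBy B n : Subgroup GLM) : Set GLM) :=
      iSup₂_le fun C hC => by
        obtain ⟨m, hm, rfl⟩ := hC
        exact Subgroup.commutator_eq_bot_iff_le_centralizer.1 (hc m hm n hn)
    exact fun a ha => (Subgroup.mem_centralizer_iff.1 (hle hg) a ha).symm

theorem normal_part (hN : N ≤ partGroup G A) (hnor : partGroup G A ≤ Subgroup.normalizer (N : Set GLM)) :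
    N = partGroup G A ∨ ∀ B ∈ part G A, ⁅N, B⁆ = ⊥ := by
  by_cases hmeet : ∃ B ∈ part G A, ∃ x ∈ N, x ∈ B ∧ x ≠ 1
  · obtain ⟨B, hB, x, hxN, hxB, hx1⟩ := hmeet
    exact Or.inl (le_antisymm hN (lift_member hk2 hk3 hirr hnor hB hxN hxB hx1))
  by_cases hfull : partGroup G A ≤ N
  · exact Or.inl (le_antisymm hN hfull)
  right
  push Not at hmeet
  have hNX : N ≤ sigmaJoin G := hN.trans partGroup_le
  -- every conjugate under `N` of a member commutes with it
  have hcomm : ∀ B ∈ part G A, ∀ n ∈ N, ⁅B, conjBy B n⁆ = ⊥ := by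
    intro B hB n hn
    obtain ⟨⟨a, ha⟩, hne'⟩ := Subgroup.ne_bot_iff_exists_ne_one.1 (member_ne_bot hB.1)
    have ha1 : a ≠ 1 := fun e => hne' (Subtype.ext e)
    have hB' : conjBy B n ∈ part G A := part_conj hk2 hk3 hirr hB (hNX hn)
    have ha' : n * a * n⁻¹ ∈ conjBy B n := RankOne.conj_mem_conjBy n ha
    have hxN : n * a * n⁻¹ * a⁻¹ ∈ N := by
      have h1 : a * n⁻¹ * a⁻¹ ∈ N := (Subgroup.mem_normalizer_iff.1 (hnor (le_partGroup hB ha)) _).1 (inv_mem hn)
      have := mul_mem hn h1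
      simpa [mul_assoc] using this
    rcases pair_cases hk2 hk3 hirr hB.1 hB'.1 with h | h | h
    · exact h
    · refine absurd ?_ hfull
      have hsup := pair_le_of_meet hk2 hk3 hirr hB.1 hB'.1 h
        ((sup_le (le_partGroup hB) (le_partGroup hB')).trans hnor) hxN
        (mul_mem (Subgroup.mem_sup_right ha') (Subgroup.mem_sup_left (inv_mem ha))) ?_
      · exact lift_member hk2 hk3 hirr hnor hB (hsup (Subgroup.mem_sup_left ha)) ha ha1
      · refine by_contra fun hc => ?_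
        push Not at hc
        refine RankOne.not_commute (RankOnePair_symm h) ha' (fun e => ha1 ?_) fun b hb => ?_
        · rw [mul_inv_eq_one, mul_eq_left] at e; exact e
        · haveI := member_comm' hB.1
          have e1 := hc b (Subgroup.mem_sup_left hb)
          have e2 : a⁻¹ * b = b * a⁻¹ := congrArg Subtype.val (mul_comm' (⟨a⁻¹, inv_mem ha⟩ : B) ⟨b, hb⟩)
          rw [mul_assoc (n * a * n⁻¹), e2, ← mul_assoc, ← mul_assoc] at e1
          exact mul_right_cancel e1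
    · exfalso
      obtain ⟨h1, -, -, h4⟩ := id h
      have hne := h4 _ ha' fun e => ha1 (by rw [mul_inv_eq_one, mul_eq_left] at e; exact e)
      obtain ⟨e, he, he1⟩ : ∃ e ∈ B, ⁅e, n * a * n⁻¹⁆ ≠ 1 := by
        by_contra! hall
        refine member_ne_bot h1 ?_
        rw [← hne, Subgroup.closure_eq_bot_iff]
        rintro _ ⟨e, he, rfl⟩
        exact hall e he
      have hmem : ⁅e, n * a * n⁻¹⁆ ∈ N := by
        haveI := member_comm' hB.1
        have e2 : e * a⁻¹ = a⁻¹ * e := congrArg Subtype.val (mul_comm' (⟨e, he⟩ : B) ⟨a⁻¹, inv_mem ha⟩)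
        have h2 : ⁅e, n * a * n⁻¹ * a⁻¹⁆ = ⁅e, n * a * n⁻¹⁆ := by
          simp only [commutatorElement_def, mul_inv_rev, inv_inv, mul_assoc]
          congr 4
          rw [← mul_assoc a⁻¹ e⁻¹, show a⁻¹ * e⁻¹ = e⁻¹ * a⁻¹ from congrArg Subtype.val
            (mul_comm' (⟨a⁻¹, inv_mem ha⟩ : B) ⟨e⁻¹, inv_mem he⟩), mul_assoc, inv_mul_cancel_left]
        rw [← h2, commutatorElement_def]
        exact mul_mem ((Subgroup.mem_normalizer_iff.1 (hnor (le_partGroup hB he)) _).1 hxN) (inv_mem hxN)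
      have hC : ⁅B, conjBy B n⁆ ∈ part G A :=
        ⟨h1, hB.2.trans (reach_commutator hk2 hk3 hirr hB.1 hB'.1 h)⟩
      exact hmeet _ hC _ hmem (Subgroup.commutator_mem_commutator he ha') |> he1
  -- so the `⁅N, B⁆` are unipotent and normalised by `N`
  have hNG : N ≤ G := hNX.trans sigmaJoin_le
  have hNB : ∀ B ∈ part G A, IsUnipotentOn ⁅N, B⁆ ∧ ⁅N, B⁆ ≤ N := by
    intro B hB
    have hle : ⁅N, B⁆ ≤ N := by
      rw [Subgroup.commutator_le]
      intro n hn b hb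
      have := mul_mem hn ((Subgroup.mem_normalizer_iff.1 (hnor (le_partGroup hB hb)) _).1 (inv_mem hn))
      simpa [commutatorElement_def, mul_assoc] using this
    refine ⟨unipotent_mono (unipotent_of_commuting hk2 hk3 hirr hB.1 hNG fun n hn m hm => ?_) ?_, hle⟩
    · have := congrArg (fun K => conjBy K n) (hcomm B hB (n⁻¹ * m) (mul_mem (inv_mem hn) hm))
      simp only [RankOne.conjBy_commutator, RankOne.conjBy_conjBy, mul_inv_cancel_left, RankOne.conjBy_bot] at this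
      exact this
    · rw [Subgroup.commutator_le]
      intro n hn b hb
      refine mul_mem ?_ ?_
      · exact le_iSup₂_of_le (f := fun n _ => conjBy B n) n hn le_rfl (RankOne.conj_mem_conjBy n hb)
      · exact le_iSup₂_of_le (f := fun n _ => conjBy B n) 1 (one_mem N) (RankOne.conjBy_one B).ge (inv_mem hb)
  -- their join is normal and unipotent
  set W : Set (Subgroup GLM) := {U | ∃ B ∈ part G A, U = ⁅N, B⁆}
  set U₁ := ⨆ U ∈ W, U
  have hWn : ∀ B ∈ part G A, ∀ g ∈ N, conjBy ⁅N, B⁆ g = ⁅N, B⁆ := fun B _ g hg =>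
    RankOne.conjBy_of_mem_normalizer ((Subgroup.normalizer_commutator_ge_left N B) hg)
  have hU₁ : IsUnipotentOn U₁ := by
    refine (S5061.result (G := N) ?_ ?_ ?_).1
    · rintro _ ⟨B, hB, rfl⟩; exact (hNB B hB).2
    · rintro _ ⟨B, hB, rfl⟩ _ ⟨B', hB', rfl⟩
      exact nil_sup (hNB B hB).1 (hNB B' hB').1 ((hNB B' hB').2.trans ((Subgroup.normalizer_commutator_ge_left N B)))
    · rintro _ ⟨B, hB, rfl⟩ g hg
      exact ⟨B, hB, hWn B hB g hg⟩
  have hU₁N : U₁ ≤ N := iSup₂_le fun U hU => by obtain ⟨B, hB, rfl⟩ := hU; exact (hNB B hB).2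
  have hU₁X : sigmaJoin G ≤ Subgroup.normalizer (U₁ : Set GLM) := by
    refine iSup₂_le fun B hB => ?_
    by_cases hr : RankOne.FReach ΣG A B
    · refine RankOne.le_normalizer_of_conjBy_le fun g hg => ?_
      simp only [U₁, conjBy, Subgroup.map_iSup]
      refine iSup₂_le fun U hU => ?_
      obtain ⟨B', hB', rfl⟩ := hU
      refine le_iSup₂_of_le (f := fun U _ => U) ⁅N, conjBy B' g⁆
        ⟨_, part_conj hk2 hk3 hirr hB' (le_sigmaJoin hB hg), rfl⟩ (le_of_eq ?_)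
      show conjBy ⁅N, B'⁆ g = _
      rw [RankOne.conjBy_commutator, RankOne.conjBy_of_mem_normalizer (hnor (le_partGroup ⟨hB, hr⟩ hg))]
    · refine fun b hb => Subgroup.centralizer_le_normalizer _ ?_
      have hcen : partGroup G A ≤ Subgroup.centralizer (B : Set GLM) := iSup₂_le fun B' hB' =>
        Subgroup.commutator_eq_bot_iff_le_centralizer.1
          (commute_of_not_reach hk2 hk3 hirr hB'.1 hB fun h => hr (hB'.2.trans h))
      exact Subgroup.le_centralizer_iff.1 ((hU₁N.trans hN).trans hcen) hb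
  set W' : Set (Subgroup GLM) := {U | ∃ g ∈ G, U = conjBy U₁ g}
  have hWX : ∀ g ∈ G, conjBy U₁ g ≤ sigmaJoin G ∧ sigmaJoin G ≤ Subgroup.normalizer (conjBy U₁ g : Set GLM) := by
    intro g hg
    refine ⟨(RankOne.conjBy_mono (hU₁N.trans hNX) g).trans (sigmaJoin_conj hg).le, ?_⟩
    rw [← RankOne.conjBy_normalizer]
    exact (sigmaJoin_conj hg).ge.trans (RankOne.conjBy_mono hU₁X g)
  have hres := S5061.result (G := G) (W := W')
    (by rintro _ ⟨g, hg, rfl⟩; exact (hWX g hg).1.trans sigmaJoin_le)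
    (by
      rintro _ ⟨g, hg, rfl⟩ _ ⟨h, hh, rfl⟩
      have hconj : ∀ x : GLM, IsUnipotentOn (conjBy U₁ x) := fun x => unipotent_conjBy hU₁ x
      exact nil_sup (hconj g) (hconj h) ((hWX h hh).1.trans (hWX g hg).2))
    (by
      rintro _ ⟨g, hg, rfl⟩ x hx
      exact ⟨x * g, mul_mem hx hg, by rw [RankOne.conjBy_conjBy]⟩)
  have hbot := hirr _ (iSup₂_le (by rintro _ ⟨g, hg, rfl⟩; exact (hWX g hg).1.trans sigmaJoin_le)) hres.1 hres.2
  intro B hB
  refine le_bot_iff.1 (hbot ▸ ?_)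
  refine le_trans (le_iSup₂_of_le (f := fun U _ => U) ⁅N, B⁆ ⟨B, hB, rfl⟩ le_rfl : ⁅N, B⁆ ≤ U₁) ?_
  exact le_iSup₂_of_le (f := fun U _ => U) U₁ ⟨1, one_mem _, (RankOne.conjBy_one _).symm⟩ le_rfl

theorem part_quasisimple (hA : A ∈ ΣG) : IsQuasisimple ↥(partGroup G A) := by
  set X := partGroup G A
  have hAA : A ∈ part G A := ⟨hA, .refl⟩
  have hperf : ⁅X, X⁆ = X := by
    refine le_antisymm (Subgroup.commutator_le.2 fun x hx y hy =>
      mul_mem (mul_mem (mul_mem hx hy) (inv_mem hx)) (inv_mem hy)) ?_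
    refine iSup₂_le fun B hB => ?_
    obtain ⟨D, hD, h⟩ := partner_in_part hk2 hk3 hirr hB
    exact (member_le_derived hk2 hk3 hirr hB.1 hD.1 h).trans
      (Subgroup.commutator_mono (sup_le (le_partGroup hB) (le_partGroup hD))
        (sup_le (le_partGroup hB) (le_partGroup hD)))
  haveI : Nontrivial ↥X := by
    obtain ⟨⟨a, ha⟩, hne⟩ := Subgroup.ne_bot_iff_exists_ne_one.1 (member_ne_bot hA)
    exact ⟨⟨a, le_partGroup hAA ha⟩, 1, fun e =>
      hne (Subtype.ext (show a = 1 from congrArg Subtype.val e))⟩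
  haveI hP : Group.IsPerfect ↥X := (Subgroup.isPerfect_iff (H := X)).2 hperf
  refine ⟨hP, ?_⟩
  haveI : Nontrivial (↥X ⧸ Subgroup.center ↥X) := by
    rw [← not_subsingleton_iff_nontrivial]
    intro hs
    have htop : Subgroup.center ↥X = ⊤ := QuotientGroup.subgroup_eq_top_of_subsingleton _ hs
    have hb : ⁅X, X⁆ = ⊥ := Subgroup.commutator_eq_bot_iff_le_centralizer.2 fun x hx =>
      Subgroup.mem_centralizer_iff.2 fun y hy => by
        have hx' : (⟨x, hx⟩ : X) ∈ Subgroup.center ↥X := htop ▸ Subgroup.mem_top _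
        exact congrArg Subtype.val (Subgroup.mem_center_iff.1 hx' ⟨y, hy⟩)
    rw [hperf] at hb
    exact member_ne_bot hA (le_bot_iff.1 (hb ▸ le_partGroup hAA))
  constructor
  intro H hH
  set K := H.comap (QuotientGroup.mk' (Subgroup.center ↥X))
  haveI hK : K.Normal := hH.comap _
  set N := K.map X.subtype
  have hNX : N ≤ X := Subgroup.map_subtype_le K
  have hnor : X ≤ Subgroup.normalizer (N : Set GLM) := RankOne.le_normalizer_of_conjBy_le fun g hg => by
    rintro _ ⟨_, ⟨m, hm, rfl⟩, rfl⟩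
    exact ⟨⟨g, hg⟩ * m * ⟨g, hg⟩⁻¹, hK.conj_mem m hm _, rfl⟩
  have hHK : H = K.map (QuotientGroup.mk' (Subgroup.center ↥X)) :=
    (Subgroup.map_comap_eq_self_of_surjective (QuotientGroup.mk'_surjective _) H).symm
  rcases normal_part hk2 hk3 hirr hNX hnor with h | h
  · right
    rw [hHK, show K = ⊤ from Subgroup.map_injective X.subtype_injective
      (h.trans (by rw [← MonoidHom.range_eq_map, Subgroup.range_subtype])),
      Subgroup.map_top_of_surjective _ (QuotientGroup.mk'_surjective _)]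
  · left
    rw [hHK, Subgroup.map_eq_bot_iff, QuotientGroup.ker_mk']
    intro m hm
    have hcen : X ≤ Subgroup.centralizer (N : Set GLM) := iSup₂_le fun B hB =>
      Subgroup.commutator_eq_bot_iff_le_centralizer.1 (Subgroup.commutator_comm B N ▸ h B hB)
    refine Subgroup.mem_center_iff.2 fun y => Subtype.ext ?_
    exact (Subgroup.mem_centralizer_iff.1 (hcen y.2) _ ⟨m, hm, rfl⟩).symm

theorem exists_enumeration : ∃ (r : ℕ) (f : Fin r → Subgroup GLM), (∀ i, f i ∈ ΣG) ∧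
    (∀ B ∈ ΣG, ∃ i, B ∈ part G (f i)) ∧ ∀ i j, RankOne.FReach ΣG (f i) (f j) → i = j := by
  haveI := (finite_parts hk2 hk3 hirr).to_subtype
  obtain ⟨r, ⟨e⟩⟩ := Finite.exists_equiv_fin {P : Set (Subgroup GLM) | ∃ A ∈ ΣG, P = part G A}
  choose f hf hfe using fun i => (e.symm i).2
  refine ⟨r, f, hf, fun B hB => ⟨e ⟨_, B, hB, rfl⟩, ?_⟩, fun i j h => e.symm.injective (Subtype.ext ?_)⟩
  · rw [← hfe, Equiv.symm_apply_apply]
    exact ⟨hB, .refl⟩
  · rw [hfe i, hfe j]
    ext D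
    exact ⟨fun h' => ⟨h'.1, (RankOne.fReach_symm h).trans h'.2⟩, fun h' => ⟨h'.1, h.trans h'.2⟩⟩

theorem parts_commute {A' : Subgroup GLM} (h : ¬ RankOne.FReach ΣG A A') :
    ⁅partGroup G A, partGroup G A'⁆ = ⊥ := by
  refine Subgroup.commutator_eq_bot_iff_le_centralizer.2 (iSup₂_le fun C hC => ?_)
  refine Subgroup.le_centralizer_iff.1 (iSup₂_le fun D hD => ?_)
  refine Subgroup.commutator_eq_bot_iff_le_centralizer.1 ?_
  refine commute_of_not_reach hk2 hk3 hirr hD.1 hC.1 fun hr => ?_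
  exact h (hC.2.trans ((RankOne.fReach_symm hr).trans (RankOne.fReach_symm hD.2)))

theorem part_class (hA : A ∈ ΣG) :
    IsRootSubgroupClass ((fun B : Subgroup GLM => B.subgroupOf (partGroup G A)) '' part G A) := by
  refine ⟨isRootSubgroupSet_sub _ rfl (fun B hB => member_comm' hB.1) (fun B hB => member_ne_bot hB.1)
    (fun B hB g hg => part_conj hk2 hk3 hirr hB (partGroup_le hg)) fun B hB C hC => ?_, ?_, ?_⟩
  · rcases pair_cases hk2 hk3 hirr hB.1 hC.1 with h | h | h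
    · exact Or.inl h
    · exact Or.inr (Or.inl h)
    · exact Or.inr (Or.inr ⟨⟨h.1, hB.2.trans (reach_commutator hk2 hk3 hirr hB.1 hC.1 h)⟩, h.2.1, h.2.2.1,
        h.2.2.2⟩)
  · exact ⟨_, ⟨A, ⟨hA, .refl⟩, rfl⟩⟩
  · rintro _ ⟨B, hB, rfl⟩ _ ⟨C, hC, rfl⟩
    obtain ⟨g, hg, rfl⟩ := exists_part_conj hk2 hk3 hirr hB hC
    exact ⟨⟨g, hg⟩, (sub_conjBy (le_partGroup hB) ⟨g, hg⟩).symm⟩

theorem part_sl2 (hB : B ∈ part G A) (hC : C ∈ ΣG) (h : IsRankOnePair B C) :
    ∃ A₀ B₀ : Subgroup GLM, A₀ ≤ B ∧ B₀ ≤ C ∧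
      ∃ (k₁ : Type u) (_ : Field k₁), 3 < ENat.card k₁ ∧ IsPSL2PairOver k₁ A₀ B₀ := by
  obtain ⟨b, hb, rfl⟩ := mem_quadraticRootSubgroups.1 hB.1
  obtain ⟨c, hc, rfl⟩ := mem_quadraticRootSubgroups.1 hC
  exact exists_sl2_subpair hk2 hk3 hb hc (opp_of_rankOne hk2 hk3 hirr hb hc h)

end Cfsg.Agent.QuadRoot
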