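import Cfsg.Agent.Lib.QuadRoot.Classes

/-!
Surjectivity of the bracket.
* `Reduced G` : no non-trivial normal unipotent subgroup; `reduced_of_irreducible`
* `exists_opp` : in a reduced group every minimal element has an opposite one
* `Low c u` : `u` lowers the three step flag of the first element of the model `c`
* `exists_bracket_eq` : for `z = a b - b a ≠ 0` every member of the class of `z` is `a' b - b a'`, `a'` in the class of `a`
-/

set_option autoImplicit false
set_option linter.unusedSectionVars false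

namespace Cfsg.Agent.QuadRoot

open Cfsg Module
open Cfsg.Agent.QuadPair (upR loR genPairR coe_upR coe_loR)
open scoped MatrixGroups

universe u v

variable {k : Type u} [Field k] {M : Type v} [AddCommGroup M] [Module k M] [FiniteDimensional k M]
  {G : Subgroup (LinearMap.GeneralLinearGroup k M)} {a b : Module.End k M}

theorem Opp.of_cj {g : LinearMap.GeneralLinearGroup k M} (h : Opp (cj g a) b) : Opp a (cj g⁻¹ b) := by
  refine fun ⟨n, hn⟩ => h ⟨n, ?_⟩
  have e : b = cj g (cj g⁻¹ b) := by rw [cj_cj, mul_inv_cancel]; simp [cj]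
  rw [e, ← cj_mul, ← cj_pow, hn, cj_zero]

/-- A normal subgroup acting unipotently on an irreducible space is trivial. -/
theorem eq_bot_of_unipotent_normal (hirr : IsIrreducibleFor G) {U : Subgroup (LinearMap.GeneralLinearGroup k M)} (hu : IsUnipotentOn U)
    (hn : ∀ g ∈ G, conjBy U g = U) : U = ⊥ := by
  obtain ⟨F, hF, hUF⟩ := S5061.nil_iff_isUnipotentOn.2 hu
  obtain ⟨⟨m, hm⟩, hinv⟩ := hirr
  have hne : fixedSubmodule U ≠ ⊥ := by
    classical
    obtain ⟨j, hj⟩ := hF.bot
    have hex : ∃ j, F j = ⊥ := ⟨j, hj⟩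
    have h0 : Nat.find hex ≠ 0 := fun e => hm (by
      have := Nat.find_spec hex
      rw [e, hF.top] at this
      exact (Submodule.eq_bot_iff _).1 this m Submodule.mem_top)
    intro hbot
    refine Nat.find_min hex (Nat.sub_one_lt h0) (le_bot_iff.1 (le_trans ?_ hbot.le))
    refine le_iInf₂ fun g hg v hv => ?_
    have := hUF hg (Nat.find hex - 1) ⟨v, hv, rfl⟩
    rw [Nat.sub_add_cancel (Nat.pos_of_ne_zero h0), Nat.find_spec hex, Submodule.mem_bot] at this
    exact this
  have hstab : ∀ g ∈ G, ∀ w ∈ fixedSubmodule U, (g : Module.End k M) w ∈ fixedSubmodule U := by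
    intro g hg w hw
    simp only [fixedSubmodule, Submodule.mem_iInf, LinearMap.mem_ker, LinearMap.sub_apply, sub_eq_zero] at hw ⊢
    intro x hx
    have hx' : g⁻¹ * x * g ∈ U := by
      rw [← hn g⁻¹ (inv_mem hg)]
      exact ⟨x, hx, by simp⟩
    have := congrArg (fun v => (g : Module.End k M) v) (hw _ hx')
    simpa [← Module.End.mul_apply, ← Units.val_mul, ← mul_assoc] using this
  rcases hinv _ hstab with h | h
  · exact absurd h hne
  · refine (Subgroup.eq_bot_iff_forall U).2 fun g hg => Units.ext ?_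
    have h' : fixedSubmodule U ≤ LinearMap.ker ((g : Module.End k M) - 1) := iInf₂_le g hg
    rw [h, top_le_iff, LinearMap.ker_eq_top, sub_eq_zero] at h'
    exact h'

/-- No non-trivial subgroup of `G` normalised by `G` acts unipotently. -/
def Reduced (G : Subgroup (LinearMap.GeneralLinearGroup k M)) : Prop :=
  ∀ U : Subgroup (LinearMap.GeneralLinearGroup k M), U ≤ G → IsUnipotentOn U → (∀ g ∈ G, conjBy U g = U) → U = ⊥

theorem reduced_of_irreducible (hirr : IsIrreducibleFor G) : Reduced G :=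
  fun _ _ hu hn => eq_bot_of_unipotent_normal hirr hu hn

theorem exists_opp (hk2 : ringChar k ≠ 2) (hk3 : Nat.card k ≠ 3) (hirr : Reduced G) (ha : Dmin G a) :
    ∃ b, Dmin G b ∧ Opp a b := by
  by_contra! hcon
  set W : Set (Subgroup (LinearMap.GeneralLinearGroup k M)) :=
    {A | ∃ g ∈ G, A = sameActionSubgroup G (ex (cj g a))}
  obtain ⟨hu, hn⟩ := S5061.result (G := G) (W := W)
    (by rintro _ ⟨g, hg, rfl⟩; exact sameActionSubgroup_le (ha.conj hg))
    (by
      rintro _ ⟨g, hg, rfl⟩ _ ⟨h, hh, rfl⟩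
      exact unipotent_sup hk2 hk3 (ha.conj hg) (ha.conj hh) fun ho =>
        hcon _ ((ha.conj hh).conj (inv_mem hg)) ho.of_cj)
    (by
      rintro _ ⟨g, hg, rfl⟩ x hx
      exact ⟨x * g, mul_mem hx hg, by rw [conjBy_sameActionSubgroup (ha.conj hg) hx, cj_cj]⟩)
  set N := ⨆ A ∈ W, A
  have hNG : N ≤ G := iSup₂_le (by rintro _ ⟨g, hg, rfl⟩; exact sameActionSubgroup_le (ha.conj hg))
  have hmem : ex a ∈ N := le_iSup₂_of_le (f := fun A _ => A) (sameActionSubgroup G (ex a))
    ⟨1, one_mem _, by rw [show cj 1 a = a by simp [cj]]⟩ le_rfl (ex_mem_sameActionSubgroup ha (SameClass.refl ha))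
  rw [hirr N hNG hu hn, Subgroup.mem_bot, ← ex_zero] at hmem
  exact ha.ne (ex_inj ha.inG.sq (by simp) hmem)

section Graded

variable {z δ : Module.End k M} {L : Type u} [Field L] [Algebra k L] (c : Model G z δ L)

/-- The projection on the range of `z`. -/
def eC : Module.End k M := c.T !![1, 0; 0, 0]

/-- The projection on the range of `δ`. -/
def eD : Module.End k M := c.T !![0, 0; 0, 1]

/-- The projection on the common kernel. -/
def eO : Module.End k M := 1 - c.T 1

/-- `u` lowers the flag `⊤ ⊇ ker z ⊇ range z ⊇ ⊥`. -/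
structure Low (c : Model G z δ L) (u : Module.End k M) : Prop where
  down : eD c * u = 0
  up : u * eC c = 0
  mid : eO c * u * eO c = 0

theorem T_one_split : c.T 1 = eC c + eD c := by
  unfold eC eD; rw [← map_add]; congr 1; ext i j; fin_cases i <;> fin_cases j <;> simp

theorem eC_eC : eC c * eC c = eC c := by
  unfold eC; rw [← c.map_mul]; congr 1; ext i j; fin_cases i <;> fin_cases j <;> simp

theorem eD_eD : eD c * eD c = eD c := by
  unfold eD; rw [← c.map_mul]; congr 1; ext i j; fin_cases i <;> fin_cases j <;> simp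

theorem eC_eD : eC c * eD c = 0 ∧ eD c * eC c = 0 := by
  unfold eC eD; constructor <;> rw [← c.map_mul] <;>
    [rw [show (!![1, 0; 0, 0] * !![0, 0; 0, 1] : Matrix (Fin 2) (Fin 2) L) = 0 by
      ext i j; fin_cases i <;> fin_cases j <;> simp, map_zero];
     rw [show (!![0, 0; 0, 1] * !![1, 0; 0, 0] : Matrix (Fin 2) (Fin 2) L) = 0 by
      ext i j; fin_cases i <;> fin_cases j <;> simp, map_zero]]

theorem T_eO (x : Matrix (Fin 2) (Fin 2) L) : c.T x * eO c = 0 ∧ eO c * c.T x = 0 := by
  unfold eO; rw [mul_sub, sub_mul, mul_one, one_mul, c.T_mul_one, c.one_mul_T, sub_self]; exact ⟨rfl, rfl⟩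

theorem orth : eC c * eO c = 0 ∧ eO c * eC c = 0 ∧ eD c * eO c = 0 ∧ eO c * eD c = 0 :=
  ⟨(T_eO c _).1, (T_eO c _).2, (T_eO c _).1, (T_eO c _).2⟩

theorem eC_T_one : eC c * c.T 1 = eC c := c.T_mul_one _

theorem eO_eO : eO c * eO c = eO c := IsIdempotentElem.one_sub c.idem

theorem sum_eq : eC c + eO c + eD c = 1 := by
  show eC c + (1 - c.T 1) + eD c = 1
  rw [T_one_split c]; abel

theorem z_eC : eC c * z = z ∧ z * eD c = z := by
  have h1 : eC c * c.T !![0, 1; 0, 0] = c.T !![0, 1; 0, 0] := by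
    unfold eC; rw [← c.map_mul]; congr 1; ext i j; fin_cases i <;> fin_cases j <;> simp
  have h2 : c.T !![0, 1; 0, 0] * eD c = c.T !![0, 1; 0, 0] := by
    unfold eD; rw [← c.map_mul]; congr 1; ext i j; fin_cases i <;> fin_cases j <;> simp
  rw [c.map_a'] at h1 h2
  exact ⟨h1, h2⟩

theorem range_eC : LinearMap.range (eC c) = LinearMap.range z := by
  refine le_antisymm ?_ ?_
  · have e : eC c = z * c.T !![0, 0; 1, 0] := by
      dsimp only [eC]; rw [c.a_mul_T]; congr 1; ext i j; fin_cases i <;> fin_cases j <;> simp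
    rw [e]; exact LinearMap.range_comp_le_range _ _
  · conv_lhs => rw [← (z_eC c).1]
    exact LinearMap.range_comp_le_range _ _

theorem range_eD : LinearMap.range (eD c) = LinearMap.range δ := by
  refine le_antisymm ?_ ?_
  · have e : eD c = δ * c.T !![0, c.pb.gen⁻¹; 0, 0] := by
      dsimp only [eD]; rw [c.b_mul_T]; congr 1; ext i j; fin_cases i <;> fin_cases j <;> simp [mul_inv_cancel₀ c.unit.ne_zero]
    rw [e]; exact LinearMap.range_comp_le_range _ _
  · have e : eD c * c.T !![0, 0; c.pb.gen, 0] = c.T !![0, 0; c.pb.gen, 0] := by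
      unfold eD; rw [← c.map_mul]; congr 1; ext i j; fin_cases i <;> fin_cases j <;> simp
    rw [c.map_b'] at e
    conv_lhs => rw [← e]
    exact LinearMap.range_comp_le_range _ _

theorem ker_eD : LinearMap.ker (eD c) = LinearMap.ker z := by
  refine le_antisymm ?_ ?_
  · conv_rhs => rw [← (z_eC c).2]
    exact LinearMap.ker_le_ker_comp _ _
  · have e : eD c = c.T !![0, 0; 1, 0] * z := by
      dsimp only [eD]; rw [c.T_mul_a]; congr 1; ext i j; fin_cases i <;> fin_cases j <;> simp
    rw [e]; exact LinearMap.ker_le_ker_comp _ _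

theorem Low.mk' {u : Module.End k M} (h1 : LinearMap.range u ≤ LinearMap.ker z)
    (h2 : LinearMap.range z ≤ LinearMap.ker u) (h3 : (LinearMap.ker z).map u ≤ LinearMap.range z) : Low c u where
  down := LinearMap.range_le_ker_iff.1 (h1.trans (ker_eD c).ge)
  up := LinearMap.range_le_ker_iff.1 ((range_eC c).le.trans h2)
  mid := by
    refine LinearMap.ext fun v => ?_
    have hv : eO c v ∈ LinearMap.ker z := by
      rw [LinearMap.mem_ker, ← LinearMap.congr_fun (z_eC c).2 (eO c v), Module.End.mul_apply,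
        ← Module.End.mul_apply (eD c), (orth c).2.2.1]
      simp
    obtain ⟨w, hw⟩ := (range_eC c).ge (h3 ⟨_, hv, rfl⟩)
    show eO c (u (eO c v)) = 0
    rw [← hw, ← Module.End.mul_apply (eO c), (orth c).2.1, LinearMap.zero_apply]

theorem low_of_pair (hk2 : ringChar k ≠ 2) (hk3 : Nat.card k ≠ 3) (ha : Dmin G a) (hb : Dmin G b)
    (hno : ¬ Opp a b) (hz : a * b - b * a ≠ 0) (he : SameClass G z (a * b - b * a)) {a' : Module.End k M}
    (ha' : SameClass G a a') : Low c a' := by
  obtain ⟨hab, hba⟩ := unipotent_pair hk2 ha hb hno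
  have f := bracket_facts ha hb hab hba hz
  have hu := unipotent_pair hk2 ha'.dmin hb (not_opp_of_class hk2 hk3 ha hb hno ha' (SameClass.refl hb))
  have hr : LinearMap.range z = _ := he.range.symm.trans f.range
  have hk : LinearMap.ker z = _ := he.ker.symm.trans f.ker
  refine Low.mk' c ?_ ?_ ?_
  · rw [hk, ha'.range]
    exact le_inf le_sup_right (le_sup_of_le_left (range_le_ker ha.inG.sq))
  · rw [hr, ha'.ker]
    exact sup_le (inf_le_left.trans (range_le_ker ha.inG.sq)) inf_le_right
  · rw [hk, hr]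
    refine (Submodule.map_mono inf_le_right).trans ?_
    rw [Submodule.map_sup]
    refine sup_le ?_ (le_sup_of_le_left ?_)
    · rintro _ ⟨v, hv, rfl⟩
      rw [← ha'.ker] at hv
      rw [SetLike.mem_coe, LinearMap.mem_ker] at hv
      rw [hv]
      exact zero_mem _
    · rw [← LinearMap.range_comp, ← Module.End.mul_eq_comp]
      have := range_mul_le hu.2
      rwa [ha'.range] at this

variable {c}

theorem Low.eO_mul {u : Module.End k M} (h : Low c u) : eO c * u * eD c = eO c * u := by
  conv_rhs => rw [← mul_one (eO c * u), ← sum_eq c, mul_add, mul_add, mul_assoc _ u (eC c), h.up, mul_zero,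
    h.mid, zero_add, zero_add]

theorem Low.mul_eO {u : Module.End k M} (h : Low c u) : eC c * u * eO c = u * eO c := by
  conv_rhs => rw [← one_mul (u * eO c), ← sum_eq c, add_mul, add_mul, ← mul_assoc (eO c), h.mid,
    ← mul_assoc (eD c), h.down, zero_mul, add_zero, add_zero, ← mul_assoc]

theorem Low.mul {u v : Module.End k M} (hu : Low c u) (hv : Low c v) : u * v = u * eO c * v := by
  conv_lhs => rw [← mul_one u, ← sum_eq c, mul_add, mul_add, hu.up, zero_add, add_mul, mul_assoc u (eD c),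
    hv.down, mul_zero, add_zero]

theorem Low.mul_eq {u v : Module.End k M} (hu : Low c u) (hv : Low c v) :
    eC c * (u * v) = u * v ∧ u * v * eD c = u * v ∧ u * v * eC c = 0 ∧ u * v * eO c = 0 ∧ eD c * (u * v) = 0 := by
  have e : u * v = (u * eO c) * (eO c * v) := by
    rw [hu.mul hv, mul_assoc u (eO c), mul_assoc u (eO c), ← mul_assoc (eO c) (eO c), eO_eO]
  refine ⟨?_, ?_, by rw [mul_assoc, hv.up, mul_zero], ?_, by rw [← mul_assoc, hu.down, zero_mul]⟩
  · rw [e, ← mul_assoc, ← mul_assoc (eC c) u, hu.mul_eO]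
  · rw [e, mul_assoc, hv.eO_mul]
  · rw [e, mul_assoc, hv.mid, mul_zero]

theorem Low.triple {u v w : Module.End k M} (hu : Low c u) (hv : Low c v) (hw : Low c w) : u * v * w = 0 := by
  rw [← (hu.mul_eq hv).2.1, mul_assoc, hw.down, mul_zero]

theorem Low.sub {u v : Module.End k M} (hu : Low c u) (hv : Low c v) : Low c (u - v) :=
  ⟨by rw [mul_sub, hu.down, hv.down, sub_zero], by rw [sub_mul, hu.up, hv.up, sub_zero],
    by rw [mul_sub (eO c) u v, sub_mul (eO c * u), hu.mid, hv.mid, sub_zero]⟩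

variable (c)

/-- An element between `range δ` and `range z` is trivial or in the class of `z`. -/
theorem eq_zero_or_class (hz : Dmin G z) {x : Module.End k M} (hx : InG G x) (h1 : eC c * x = x)
    (h2 : x * eD c = x) : x = 0 ∨ SameClass G z x := by
  refine or_iff_not_imp_left.2 fun h0 => ?_
  have hr : LinearMap.range x ≤ LinearMap.range z := by
    rw [← range_eC c, ← h1]; exact LinearMap.range_comp_le_range _ _
  have hm := hz.of_rank_le hx h0 (Submodule.finrank_mono hr)
  have hr' := Submodule.eq_of_le_of_finrank_le hr (hm.rank_eq hz).ge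
  refine ⟨hm, (Submodule.eq_of_le_of_finrank_le ?_ ?_).symm, hr'⟩
  · rw [← ker_eD c, ← h2]; exact LinearMap.ker_le_ker_comp _ _
  · have k1 := LinearMap.finrank_range_add_finrank_ker z
    have k2 := LinearMap.finrank_range_add_finrank_ker x
    rw [hr'] at k2
    omega

theorem eC_of_class {w : Module.End k M} (hw : SameClass G z w) (hδ : Dmin G δ) {L' : Type u} [Field L']
    [Algebra k L'] (c' : Model G w δ L') : eC c' = eC c ∧ eD c' = eD c := by
  have hP : c'.T 1 = c.T 1 := c.T_one_of_class hw (SameClass.refl hδ) c'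
  have hr : LinearMap.range (eC c') = LinearMap.range (eC c) := by rw [range_eC, range_eC, hw.range]
  have hk : LinearMap.ker (eD c') = LinearMap.ker (eD c) := by rw [ker_eD, ker_eD, hw.ker]
  have h1 : eC c * eC c' = eC c' := LinearMap.ext fun v => by
    obtain ⟨y, hy⟩ := hr.le (LinearMap.mem_range_self (eC c') v)
    show eC c (eC c' v) = eC c' v
    rw [← hy, ← Module.End.mul_apply, eC_eC]
  have h4 : eC c * eD c' = 0 := by
    have h5 : eD c * eD c' = eD c' := LinearMap.ext fun v => by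
      have hd : LinearMap.range (eD c') = LinearMap.range (eD c) := by rw [range_eD, range_eD]
      obtain ⟨y, hy⟩ := hd.le (LinearMap.mem_range_self (eD c') v)
      show eD c (eD c' v) = eD c' v
      rw [← hy, ← Module.End.mul_apply, eD_eD]
    rw [← h5, ← mul_assoc, (eC_eD c).1, zero_mul]
  have e : eC c' = eC c := by
    calc eC c' = eC c * (eC c' + eD c') := by rw [mul_add, h1, h4, add_zero]
      _ = eC c := by rw [← T_one_split c', hP, eC_T_one]
  refine ⟨e, ?_⟩
  have := T_one_split c'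
  rw [hP, T_one_split c, e] at this
  exact (add_left_cancel this).symm

end Graded

section Move

variable {z δ u v : Module.End k M} {L : Type u} [Field L] [Algebra k L] (c : Model G z δ L)

theorem units_z : z * c.T !![0, 0; 1, 0] = eC c ∧ c.T !![0, 0; 1, 0] * z = eD c ∧
    eD c * c.T !![0, 0; 1, 0] = c.T !![0, 0; 1, 0] ∧ c.T !![0, 0; 1, 0] * eC c = c.T !![0, 0; 1, 0] ∧
    z * eC c = 0 ∧ eD c * z = 0 ∧ z * eO c = 0 ∧ eO c * z = 0 := by
  have h := c.map_a'
  refine ⟨?_, ?_, ?_, ?_, ?_, ?_, ?_, ?_⟩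
  · dsimp only [eC]; rw [c.a_mul_T]; congr 1; ext i j; fin_cases i <;> fin_cases j <;> simp
  · dsimp only [eD]; rw [c.T_mul_a]; congr 1; ext i j; fin_cases i <;> fin_cases j <;> simp
  · dsimp only [eD]; rw [← c.map_mul]; congr 1; ext i j; fin_cases i <;> fin_cases j <;> simp
  · dsimp only [eC]; rw [← c.map_mul]; congr 1; ext i j; fin_cases i <;> fin_cases j <;> simp
  · dsimp only [eC]; rw [c.a_mul_T, show (!![0, 1; 0, 0] * !![1, 0; 0, 0] : Matrix (Fin 2) (Fin 2) L) = 0 by
      ext i j; fin_cases i <;> fin_cases j <;> simp, map_zero]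
  · dsimp only [eD]; rw [c.T_mul_a, show (!![0, 0; 0, 1] * !![0, 1; 0, 0] : Matrix (Fin 2) (Fin 2) L) = 0 by
      ext i j; fin_cases i <;> fin_cases j <;> simp, map_zero]
  · have := (T_eO c !![0, 1; 0, 0]).1; rwa [h] at this
  · have := (T_eO c !![0, 1; 0, 0]).2; rwa [h] at this

theorem rho_swap :
    (c.rho (upR 1 * loR (-1) * upR 1) : Module.End k M) = z - c.T !![0, 0; 1, 0] + eO c ∧
    (c.rho (upR (-1) * loR 1 * upR (-1)) : Module.End k M) = -z + c.T !![0, 0; 1, 0] + eO c := by
  have h1 : (c.rho (upR 1 * loR (-1) * upR 1) : Module.End k M)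
      = c.T !![0, 1; 0, 0] - c.T !![0, 0; 1, 0] + eO c := by
    rw [c.coe_rho, ← map_sub]
    congr 2
    ext i j; fin_cases i <;> fin_cases j <;> simp [Matrix.mul_apply, Fin.sum_univ_two, coe_upR, coe_loR]
  have h2 : (c.rho (upR (-1) * loR 1 * upR (-1)) : Module.End k M)
      = -c.T !![0, 1; 0, 0] + c.T !![0, 0; 1, 0] + eO c := by
    rw [c.coe_rho, ← map_neg, ← map_add]
    congr 2
    ext i j; fin_cases i <;> fin_cases j <;> simp [Matrix.mul_apply, Fin.sum_univ_two, coe_upR, coe_loR]
  rw [c.map_a'] at h1 h2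
  exact ⟨h1, h2⟩

theorem graded_split {u : Module.End k M} (hu : Low c u) (hg : eC c * u * eD c = 0) :
    u = u * eO c + eO c * u := by
  have e : eC c * u = u * eO c := by
    rw [← hu.mul_eO]
    conv_lhs => rw [← mul_one (eC c * u), ← sum_eq c, mul_add, mul_add, mul_assoc _ u (eC c), hu.up, mul_zero,
      hg, zero_add, add_zero]
  conv_lhs => rw [← one_mul u, ← sum_eq c, add_mul, add_mul, hu.down, add_zero, e]

theorem step (hδ : Dmin G δ) {w : Module.End k M} (hw : SameClass G z w) {L' : Type u} [Field L'] [Algebra k L']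
    (c' : Model G w δ L') (hu : Low c u) (hg : eC c * u * eD c = 0) (hv : Low c v) :
    ∃ h ∈ G, cj h u = w * c.T !![0, 0; 1, 0] * (u * eO c) + eO c * u * (c.T !![0, 0; 1, 0] * w) ∧
      Low c (cj h u) ∧ eC c * cj h u * eD c = 0 ∧
      cj h u * v - v * cj h u = w * c.T !![0, 0; 1, 0] * (u * v) - v * u * c.T !![0, 0; 1, 0] * w := by
  obtain ⟨hC, hD⟩ := eC_of_class c hw hδ c'
  have hO : eO c' = eO c := by
    show 1 - c'.T 1 = 1 - c.T 1
    rw [T_one_split, T_one_split, hC, hD]
  obtain ⟨z1, z2, z3, z4, z5, z6, z7, z8⟩ := units_z c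
  obtain ⟨w1, w2, w3, w4, w5, w6, w7, w8⟩ := units_z c'
  obtain ⟨z9, z10⟩ := z_eC c
  obtain ⟨w9, w10⟩ := z_eC c'
  rw [hC] at w1 w4 w5 w9
  rw [hD] at w2 w3 w6 w10
  rw [hO] at w7 w8
  set z' := c.T !![0, 0; 1, 0]
  set w' := c'.T !![0, 0; 1, 0]
  have zO : z' * eO c = 0 ∧ eO c * z' = 0 := T_eO c _
  have wO : w' * eO c = 0 ∧ eO c * w' = 0 := hO ▸ T_eO c' _
  have hOC : eO c * eC c = 0 := (T_eO c _).2
  have hOD : eO c * eD c = 0 := (T_eO c _).2
  have hDO : eD c * eO c = 0 := (T_eO c _).1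
  obtain ⟨hCD, hDC⟩ := eC_eD c
  set hh := c'.rho (upR 1 * loR (-1) * upR 1) * c.rho (upR (-1) * loR 1 * upR (-1))
  have hhG : hh ∈ G := mul_mem (c'.mem _) (c.mem _)
  have a1 : w * z = 0 := by rw [← w10, mul_assoc, z6, mul_zero]
  have a2 : w' * z' = 0 := by rw [← w4, mul_assoc, ← z3, ← mul_assoc (eC c), hCD, zero_mul, mul_zero]
  have a3 : z * w = 0 := by rw [← z10, mul_assoc, w6, mul_zero]
  have a4 : z' * w' = 0 := by rw [← z4, mul_assoc, ← w3, ← mul_assoc (eC c), hCD, zero_mul, mul_zero]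
  have eh : (hh : Module.End k M) = w * z' + w' * z + eO c := by
    rw [Units.val_mul, (rho_swap c').1, (rho_swap c).2, hO, show c.T !![0, 0; 1, 0] = z' from rfl,
      show c'.T !![0, 0; 1, 0] = w' from rfl]
    simp only [sub_mul, mul_add, add_mul, mul_neg, neg_mul, a1, a2, w7, wO.1, z8, zO.2, eO_eO]
    abel
  have eh' : ((hh⁻¹ : LinearMap.GeneralLinearGroup k M) : Module.End k M) = z * w' + z' * w + eO c := by
    have i1 : ∀ {L : Type u} [CommRing L] (t : L), (upR t * loR (-t) * upR t)⁻¹ = upR (-t) * loR t * upR (-t) :=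
      fun t => by simp [mul_inv_rev, QuadPair.upR_inv, QuadPair.loR_inv, mul_assoc]
    have i2 : (upR (-1 : L) * loR 1 * upR (-1))⁻¹ = upR 1 * loR (-1) * upR 1 := by rw [← i1, inv_inv]
    rw [mul_inv_rev, ← map_inv, ← map_inv, i1, i2, Units.val_mul, (rho_swap c').2, (rho_swap c).1, hO,
      show c.T !![0, 0; 1, 0] = z' from rfl, show c'.T !![0, 0; 1, 0] = w' from rfl]
    simp only [sub_mul, mul_add, add_mul, mul_neg, neg_mul, a3, a4, z7, zO.1, w8, wO.2, eO_eO]
    abel
  have hu1 : eC c * (u * eO c) = u * eO c := by rw [← mul_assoc, hu.mul_eO]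
  have hu2 : eO c * u * eD c = eO c * u := hu.eO_mul
  have r1 : (hh : Module.End k M) * u = w * z' * (u * eO c) + eO c * u := by
    have t1 : z * (u * eO c) = 0 := by rw [← hu1, ← mul_assoc, z5, zero_mul]
    have t2 : eO c * (u * eO c) = 0 := by rw [← mul_assoc, hu.mid]
    have t3 : z' * (eO c * u) = 0 := by rw [← mul_assoc, zO.1, zero_mul]
    have t4 : z * (eO c * u) = 0 := by rw [← mul_assoc, z7, zero_mul]
    have t5 : eO c * (eO c * u) = eO c * u := by rw [← mul_assoc, eO_eO]
    conv_lhs => rw [eh, graded_split c hu hg]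
    simp only [mul_add, add_mul, mul_assoc w' z, mul_assoc w z', t1, t2, t3, t4, t5, mul_zero, add_zero, zero_add]
  have r2 : cj hh u = w * z' * (u * eO c) + eO c * u * (z' * w) := by
    have t1 : u * eO c * z = 0 := by rw [mul_assoc, z8, mul_zero]
    have t2 : u * eO c * z' = 0 := by rw [mul_assoc, zO.2, mul_zero]
    have t3 : eO c * u * z = 0 := by
      calc eO c * u * z = eO c * u * (eC c * z) := by rw [z9]
        _ = 0 := by rw [mul_assoc, ← mul_assoc u, hu.up, zero_mul, mul_zero]
    have t4 : u * eO c * eO c = u * eO c := by rw [mul_assoc, eO_eO]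
    rw [cj, r1, eh', add_mul, mul_add, mul_add, mul_add, mul_add, mul_assoc (w * z') (u * eO c),
      mul_assoc (w * z') (u * eO c) (z' * w), mul_assoc (w * z') (u * eO c) (eO c), ← mul_assoc (u * eO c) z,
      t1, ← mul_assoc (u * eO c) z', t2, t4, ← mul_assoc (eO c * u) z, t3, hu.mid]
    simp
  set u' := cj hh u
  have hlow : Low c u' := by
    refine ⟨?_, ?_, ?_⟩
    · rw [r2, mul_add, ← mul_assoc, ← mul_assoc (eD c) w, w6, zero_mul, zero_mul, ← mul_assoc (eD c),
        ← mul_assoc (eD c) (eO c), hDO]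
      simp
    · rw [r2, add_mul, mul_assoc, mul_assoc u, hOC, mul_zero, mul_zero, mul_assoc (eO c * u), mul_assoc z', w5]
      simp
    · rw [r2, mul_add, add_mul, ← mul_assoc (eO c), ← mul_assoc (eO c) w, w8, zero_mul, zero_mul, zero_mul,
        mul_assoc (eO c), mul_assoc (eO c * u), mul_assoc z', w7]
      simp
  refine ⟨hh, hhG, r2, hlow, ?_, ?_⟩
  · show eC c * u' * eD c = 0
    rw [r2, mul_add, add_mul, mul_assoc (eC c) (w * z' * (u * eO c)), mul_assoc (w * z'), mul_assoc u, hOD,
      ← mul_assoc (eC c) (eO c * u), ← mul_assoc (eC c) (eO c), (orth c).1]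
    simp
  · have t1 : u' * eO c = w * z' * (u * eO c) := by
      rw [r2, add_mul, mul_assoc (eO c * u), mul_assoc z', w7, mul_zero, mul_zero, add_zero, mul_assoc,
        mul_assoc u, eO_eO]
    have t2 : eO c * u' = eO c * u * (z' * w) := by
      rw [r2, mul_add, ← mul_assoc, ← mul_assoc (eO c) w, w8, zero_mul, zero_mul, zero_add, ← mul_assoc,
        ← mul_assoc (eO c), eO_eO]
    rw [hlow.mul hv, t1, mul_assoc (w * z') (u * eO c), ← hu.mul hv, hv.mul hlow, mul_assoc v, t2, hv.mul hu]
    simp only [mul_assoc]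

theorem graded_surj (hk2 : ringChar k ≠ 2) (hk3 : Nat.card k ≠ 3) (hz : Dmin G z) (hδ : Dmin G δ)
    (hop : Opp z δ) (hu : Dmin G u) (hv : Dmin G v) (hul : Low c u) (hug : eC c * u * eD c = 0) (hvl : Low c v)
    (hno : ¬ Opp u v) (he : u * v - v * u = z) {w : Module.End k M} (hw : SameClass G z w) :
    ∃ u', SameClass G u u' ∧ Low c u' ∧ eC c * u' * eD c = 0 ∧ u' * v - v * u' = w := by
  obtain ⟨huv, hvu⟩ := unipotent_pair hk2 hu hv hno
  have f := bracket_facts hu hv huv hvu (he ▸ hz.ne)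
  obtain ⟨z1, z2, z3, z4, z5, z6, z7, z8⟩ := units_z c
  set z' := c.T !![0, 0; 1, 0]
  obtain ⟨π, hπ⟩ : ∃ π, π = u * v * z' := ⟨_, rfl⟩
  obtain ⟨π', hπ'⟩ : ∃ π', π' = -(v * u * z') := ⟨_, rfl⟩
  have e1 := hul.mul_eq hvl
  have e2 := hvl.mul_eq hul
  have hπz : π * z = u * v := by rw [hπ, mul_assoc _ z', z2, e1.2.1]
  have hπ'z : π' * z = -(v * u) := by rw [hπ', neg_mul, mul_assoc _ z', z2, e2.2.1]
  have hsum : π + π' = eC c := by rw [hπ, hπ', ← sub_eq_add_neg, ← sub_mul, he, z1]
  have hdis : ∀ x, x ∈ LinearMap.range (u * v) → x ∈ LinearMap.range (v * u) → x = 0 := fun x h1 h2 => by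
    have : x ∈ (LinearMap.range u ⊓ LinearMap.ker v) ⊓ (LinearMap.range v ⊓ LinearMap.ker u) :=
      ⟨range_mul_le hvu h1, range_mul_le huv h2⟩
    rwa [f.disjoint, Submodule.mem_bot] at this
  have rπ : ∀ x, π x ∈ LinearMap.range (u * v) := fun x => hπ ▸ ⟨z' x, rfl⟩
  have rπ' : ∀ x, π' x ∈ LinearMap.range (v * u) := fun x => hπ' ▸ ⟨-z' x, by rw [map_neg]; rfl⟩
  have hCπ : eC c * π = π := by rw [hπ, ← mul_assoc, e1.1]
  have hCπ' : eC c * π' = π' := by rw [hπ', mul_neg, ← mul_assoc, e2.1]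
  have p1 : π' * π = 0 := LinearMap.ext fun x => hdis _ (by
    rw [show π' * π = π - π * π by rw [eq_sub_iff_add_eq', ← add_mul, hsum, hCπ], LinearMap.sub_apply]
    exact sub_mem (rπ x) (rπ _)) (rπ' _)
  have p2 : π * π' = 0 := LinearMap.ext fun x => hdis _ (rπ _) (by
    rw [show π * π' = π' - π' * π' by rw [eq_sub_iff_add_eq, ← add_mul, hsum, hCπ'], LinearMap.sub_apply]
    exact sub_mem (rπ' x) (rπ' _))
  have p3 : π * π = π := by
    conv_rhs => rw [← hCπ, ← hsum, add_mul, p1, add_zero]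
  have p4 : π' * π' = π' := by
    conv_rhs => rw [← hCπ', ← hsum, add_mul, p2, zero_add]
  have πC : π * eC c = π := by rw [hπ, mul_assoc, z4]
  have π'C : π' * eC c = π' := by rw [hπ', neg_mul, mul_assoc, z4]
  -- the conjugates
  have key : ∀ w, SameClass G z w → ∃ u', u' = w * z' * (u * eO c) + eO c * u * (z' * w) ∧ Dmin G u' ∧
      Low c u' ∧ eC c * u' * eD c = 0 ∧ u' * v - v * u' = (w * z' * π + π' * (w * z')) * z ∧
      ((w * z' * π + π' * (w * z')) * z = 0 ∨ SameClass G z ((w * z' * π + π' * (w * z')) * z)) := by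
    intro w hw
    obtain ⟨L', _, _, ⟨c'⟩⟩ := exists_model hk2 hk3 hw.dmin hδ (hop.of_class hk2 hk3 hz hδ hw (SameClass.refl hδ))
    obtain ⟨h, hG, r, hl, hg, hb⟩ := step c hδ hw c' hul hug hvl
    have hwz : w * z' * z = w := by
      obtain ⟨hC, hD⟩ := eC_of_class c hw hδ c'
      rw [mul_assoc, z2, ← hD]; exact (z_eC c').2
    have e : cj h u * v - v * cj h u = (w * z' * π + π' * (w * z')) * z := by
      rw [hb, add_mul, mul_assoc (w * z') π, hπz, mul_assoc π', hwz, hπ', neg_mul, ← sub_eq_add_neg]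
    have hin : InG G (cj h u * v - v * cj h u) :=
      (hu.conj hG).inG.bracket hv.inG (hl.triple hvl hl) (hvl.triple hl hvl)
    refine ⟨cj h u, r, hu.conj hG, hl, hg, e, ?_⟩
    have m1 := hl.mul_eq hvl
    have m2 := hvl.mul_eq hl
    rw [← e]
    exact eq_zero_or_class c hz hin (by rw [mul_sub, m1.1, m2.1]) (by rw [sub_mul, m1.2.1, m2.2.1])
  obtain ⟨θ, hθ⟩ : ∃ θ, θ = w * z' := ⟨_, rfl⟩
  obtain ⟨u', r, hu', hl, hg, eu, hη⟩ := key w hw
  rw [← hθ] at eu hη r
  obtain ⟨η, hηdef⟩ : ∃ η, η = θ * π + π' * θ := ⟨_, rfl⟩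
  rw [← hηdef] at eu hη
  have hwC : eC c * w = w ∧ w * eD c = w := by
    obtain ⟨L', _, _, ⟨c'⟩⟩ := exists_model hk2 hk3 hw.dmin hδ (hop.of_class hk2 hk3 hz hδ hw (SameClass.refl hδ))
    obtain ⟨hC, hD⟩ := eC_of_class c hw hδ c'
    rw [← hC, ← hD]; exact z_eC c'
  have hwz : θ * z = w := by rw [hθ, mul_assoc, z2, hwC.2]
  have hCθ : eC c * θ = θ := by rw [hθ, ← mul_assoc, hwC.1]
  have hθC : θ * eC c = θ := by rw [hθ, mul_assoc, z4]
  have inS : ∀ x, InG G x → eC c * x = x → x * eD c = x → ∀ y, InG G y → eC c * y = y → y * eD c = y →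
      InG G (x - y) ∧ eC c * (x - y) = x - y ∧ (x - y) * eD c = x - y := by
    intro x hx x1 x2 y hy y1 y2
    have hxy : ∀ p q : Module.End k M, p * eD c = p → eC c * q = q → p * q = 0 := fun p q hp hq => by
      rw [← hp, ← hq, mul_assoc, ← mul_assoc (eD c), (eC_eD c).2, zero_mul, mul_zero]
    refine ⟨?_, by rw [mul_sub, x1, y1], by rw [sub_mul, x2, y2]⟩
    rw [sub_eq_add_neg]
    exact hx.add hy.neg (by rw [mul_neg, hxy _ _ x2 y1, neg_zero]) (by rw [neg_mul, hxy _ _ y2 x1, neg_zero])
  have zD := (z_eC c).2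
  have hηC : eC c * η = η ∧ η * eC c = η := by
    refine ⟨by rw [hηdef, mul_add, ← mul_assoc, hCθ, ← mul_assoc, hCπ'], ?_⟩
    rw [hηdef, add_mul, mul_assoc θ, πC, mul_assoc π', hθC]
  have hηin : InG G (η * z) := by
    rcases hη with h | h
    · rw [h]; exact InG.zero
    · exact h.dmin.inG
  have hnot : ∀ x (e f : Module.End k M), InG G (x * z) → eC c * x = x → e * x = x →
      (∀ v, e v ∈ LinearMap.range f) → LinearMap.range f ⊔ LinearMap.range (u * v - v * u) ≠ LinearMap.range f →
      x * z = 0 := by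
    intro x e f hx hC hex hef hne
    rcases eq_zero_or_class c hz hx (by rw [← mul_assoc, hC]) (by rw [mul_assoc, zD]) with h | h
    · exact h
    · refine absurd (sup_eq_left.2 ?_) hne
      rw [he, ← h.range]
      rintro _ ⟨t, rfl⟩
      rw [Module.End.mul_apply, ← hex]
      exact hef _
  have hsplit : ∀ x, (u * v - v * u) x ∈ LinearMap.range (u * v) → x ∈ LinearMap.ker (v * u) := fun x hx => by
    rw [LinearMap.mem_ker]
    refine hdis _ ?_ ⟨x, rfl⟩
    have := sub_mem ((u * v).mem_range_self x) hx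
    rwa [LinearMap.sub_apply, sub_sub_cancel] at this
  -- the off diagonal parts vanish
  have q1 : π' * θ * π = 0 := by
    by_cases huv0 : u * v = 0
    · rw [hπ, huv0, zero_mul, mul_zero]
    suffices h : π' * θ * π * z = 0 by
      calc π' * θ * π = π' * θ * π * eC c := by rw [mul_assoc (π' * θ), πC]
        _ = 0 := by rw [← z1, ← mul_assoc, h, zero_mul]
    refine hnot _ π' (v * u) ?_ (by rw [← mul_assoc, ← mul_assoc, hCπ']) (by rw [← mul_assoc, ← mul_assoc, p4]) rπ' ?_
    · have h2 : InG G ((η * π + π' * η) * z - η * z) := by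
        rcases hη with h0 | hcl
        · have : η = 0 := by rw [← hηC.2, ← z1, ← mul_assoc, h0, zero_mul]
          rw [this]; simpa using InG.zero
        · obtain ⟨u'', -, -, -, -, -, hη'⟩ := key _ hcl
          rw [mul_assoc η z z', z1, hηC.2] at hη'
          refine (inS _ ?_ ?_ ?_ _ hηin (by rw [← mul_assoc, hηC.1]) (by rw [mul_assoc, zD])).1
          · rcases hη' with h | h
            · rw [h]; exact InG.zero
            · exact h.dmin.inG
          · rw [← mul_assoc, mul_add, ← mul_assoc, hηC.1, ← mul_assoc, hCπ']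
          · rw [mul_assoc, zD]
      have e : (η * π + π' * η) * z - η * z = (2 : k) • (π' * θ * π * z) := by
        rw [← sub_mul, two_smul, ← add_mul]
        congr 1
        simp only [hηdef, add_mul, mul_add, ← mul_assoc, p4]
        rw [mul_assoc θ π π, p3]
        abel
      rw [e] at h2
      have := h2.smul (2 : k)⁻¹
      rwa [smul_smul, inv_mul_cancel₀ (Ring.two_ne_zero hk2), one_smul] at this
    · intro hsup
      refine huv0 (LinearMap.ext fun x => hdis _ ⟨x, rfl⟩ ?_)
      have h3 : (u * v - v * u) x ∈ LinearMap.range (v * u) := hsup ▸ Submodule.mem_sup_right (LinearMap.mem_range_self _ x)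
      have := add_mem h3 (LinearMap.mem_range_self (v * u) x)
      rwa [LinearMap.sub_apply, sub_add_cancel] at this
  have q2 : π * θ * π' = 0 := by
    by_cases hvu0 : v * u = 0
    · rw [hπ', hvu0, zero_mul, neg_zero, mul_zero]
    suffices h : π * θ * π' * z = 0 by
      calc π * θ * π' = π * θ * π' * eC c := by rw [mul_assoc (π * θ), π'C]
        _ = 0 := by rw [← z1, ← mul_assoc, h, zero_mul]
    refine hnot _ π (u * v) ?_ (by rw [← mul_assoc, ← mul_assoc, hCπ]) (by rw [← mul_assoc, ← mul_assoc, p3]) rπ ?_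
    · have e : π * θ * π' * z = θ * z - η * z := by
        rw [← sub_mul]
        congr 1
        have eL : θ = θ * π + π * θ * π' + π' * θ * π' := by
          conv_lhs => rw [← hθC, ← hsum, mul_add, ← one_mul (θ * π')]
          rw [add_assoc, ← add_mul, ← add_mul, hsum, ← mul_assoc, hCθ, one_mul]
        have eR : π' * θ = π' * θ * π' := by
          conv_lhs => rw [← hθC, ← hsum, ← mul_assoc, mul_add, q1, zero_add]
        rw [hηdef]
        conv_rhs => enter [1]; rw [eL]
        rw [← eR]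
        abel
      rw [e]
      exact (inS _ (hwz.symm ▸ hw.dmin.inG) (by rw [hwz, hwC.1]) (by rw [hwz, hwC.2]) _ hηin
        (by rw [← mul_assoc, hηC.1]) (by rw [mul_assoc, zD])).1
    · intro hsup
      refine hvu0 (LinearMap.ext fun x => ?_)
      exact hsplit x (hsup ▸ Submodule.mem_sup_right (LinearMap.mem_range_self _ x))
  have hc1 : π' * θ = θ * π' := by
    have l : π' * θ = π' * θ * π' := by
      conv_lhs => rw [← hθC, ← hsum, ← mul_assoc, mul_add, q1, zero_add]
    have r : θ * π' = π' * θ * π' := by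
      conv_lhs => rw [← hCθ, ← hsum, add_mul, add_mul, q2, zero_add]
    rw [l, r]
  have hc2 : π * θ = θ * π := by
    have : (π + π') * θ = θ * (π + π') := by rw [hsum, hCθ, hθC]
    rw [add_mul, mul_add, hc1] at this
    exact add_right_cancel this
  have hηθ : η = θ := by rw [hηdef, hc1, ← mul_add, hsum, hθC]
  refine ⟨u', ⟨hu', ?_, ?_⟩, hl, hg, by rw [eu, hηθ, hwz]⟩
  swap
  -- kernel and range
  all_goals
    have hrk : LinearMap.range (u * eO c) = LinearMap.range (u * v) ∧
        LinearMap.ker (eO c * u) = LinearMap.ker (v * u) := by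
      have e3 : u * v = (u * eO c) * v := hul.mul hvl
      have e4 : v * u = v * (eO c * u) := by rw [← mul_assoc]; exact hvl.mul hul
      have l1 : LinearMap.range (u * v) ≤ LinearMap.range (u * eO c) := by
        rw [e3]; exact LinearMap.range_comp_le_range _ _
      have l2 : LinearMap.ker (eO c * u) ≤ LinearMap.ker (v * u) := by
        rw [e4]; exact LinearMap.ker_le_ker_comp _ _
      have l3 : LinearMap.range (u * eO c) ≤ LinearMap.range u ⊓ LinearMap.ker (eO c) := by
        refine le_inf (LinearMap.range_comp_le_range _ _) ?_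
        rw [LinearMap.range_le_ker_iff, ← Module.End.mul_eq_comp, ← mul_assoc]
        exact hul.mid
      have a1 := finrank_map_add (eO c) (LinearMap.range u)
      rw [← LinearMap.range_comp, ← Module.End.mul_eq_comp] at a1
      have a2 := Submodule.finrank_mono l3
      have a3 := Submodule.finrank_mono l1
      have a4 := Submodule.finrank_mono l2
      have a5 := LinearMap.finrank_range_add_finrank_ker (v * u)
      have a6 := LinearMap.finrank_range_add_finrank_ker (eO c * u)
      have a7 := hz.rank_eq hu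
      have hr : LinearMap.range z ≤ LinearMap.range (u * v) ⊔ LinearMap.range (v * u) := by
        rw [← he]
        rintro _ ⟨x, rfl⟩
        rw [LinearMap.sub_apply]
        exact sub_mem (Submodule.mem_sup_left (LinearMap.mem_range_self _ x))
          (Submodule.mem_sup_right (LinearMap.mem_range_self _ x))
      have a8 := (Submodule.finrank_mono hr).trans (Submodule.finrank_add_le_finrank_add_finrank _ _)
      exact ⟨(Submodule.eq_of_le_of_finrank_le l1 (by omega)).symm,
        Submodule.eq_of_le_of_finrank_le l2 (by omega)⟩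
  · refine Submodule.eq_of_le_of_finrank_le ?_ (hu'.rank_eq hu).ge
    rw [r]
    rintro _ ⟨x, rfl⟩
    rw [LinearMap.add_apply, Module.End.mul_apply]
    refine add_mem ?_ ?_
    · obtain ⟨y, hy⟩ := hrk.1.le (LinearMap.mem_range_self (u * eO c) x)
      have e : θ * (u * v) = u * v * (z' * (θ * z)) := by
        rw [← hπz, ← mul_assoc, ← hc2, mul_assoc π θ z, hπz, hπ, mul_assoc]
      rw [← hy, ← Module.End.mul_apply, e, Module.End.mul_apply, Module.End.mul_apply]
      exact LinearMap.mem_range_self _ _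
    · have e : eO c * u * (z' * w) = u * (z' * w) - (u * eO c) * (z' * w) := by
        rw [← sub_mul]
        congr 1
        rw [eq_sub_iff_add_eq, add_comm]
        exact (graded_split c hul hug).symm
      rw [e, LinearMap.sub_apply, Module.End.mul_apply, Module.End.mul_apply, Module.End.mul_apply]
      exact sub_mem (LinearMap.mem_range_self _ _) (LinearMap.mem_range_self _ _)
  · refine (Submodule.eq_of_le_of_finrank_le ?_ ?_).symm
    · intro x hx
      rw [LinearMap.mem_ker] at hx
      have x1 : (u * eO c) x = 0 := by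
        rw [← hul.mul_eO, ← eq_comm]
        have := LinearMap.congr_fun (graded_split c hul hug) x
        rw [hx, LinearMap.add_apply] at this
        have h2 : (eO c * u) x = 0 := by rw [Module.End.mul_apply, hx, map_zero]
        rw [h2, add_zero] at this
        rw [hul.mul_eO]
        exact this
      have x2 : (eO c * u * (z' * w)) x = 0 := by
        have hk : (z' * w) x ∈ LinearMap.ker (v * u) := by
          have h0 : (v * u) x = 0 := by rw [Module.End.mul_apply, hx, map_zero]
          have e : v * u * (z' * w) = θ * (v * u) := by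
            rw [← hwz, ← mul_assoc (v * u), show v * u * z' = -π' by rw [hπ', neg_neg], neg_mul, ← mul_assoc π',
              hc1, mul_assoc θ, hπ'z, mul_neg, neg_neg]
          rw [LinearMap.mem_ker, ← Module.End.mul_apply, e, Module.End.mul_apply, h0, map_zero]
        rw [← hrk.2, LinearMap.mem_ker] at hk
        exact hk
      rw [LinearMap.mem_ker, r, LinearMap.add_apply, x2, add_zero, Module.End.mul_apply, x1, map_zero]
    · have k1 := LinearMap.finrank_range_add_finrank_ker u
      have k2 := LinearMap.finrank_range_add_finrank_ker u'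
      have := hu.rank_eq hu'
      omega

theorem even_part (hk2 : ringChar k ≠ 2) (hu : Dmin G u) (hul : Low c u) (hz : Dmin G z) :
    InG G (eC c * u * eD c) ∧ InG G (u - eC c * u * eD c) ∧
      finrank k (LinearMap.range (u - eC c * u * eD c)) ≤ finrank k (LinearMap.range u) := by
  have h2 : (2 : k) ≠ 0 := Ring.two_ne_zero hk2
  set u2 := eC c * u * eD c
  have hCD := eC_eD c
  have hmid := hul.mid
  -- the involution of the model
  set i := c.rho (-1)
  have ii : (i : Module.End k M) = eO c - eC c - eD c := by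
    rw [c.coe_rho, Matrix.SpecialLinearGroup.coe_neg, Matrix.SpecialLinearGroup.coe_one, map_neg]
    show _ = 1 - c.T 1 - eC c - eD c
    rw [T_one_split c]; abel
  have ii' : (i⁻¹ : LinearMap.GeneralLinearGroup k M) = i := by
    rw [← map_inv]; congr 1
    exact inv_eq_of_mul_eq_one_right (by simp)
  have hsplit : u = u * eO c + u2 + eO c * u := by
    have e : eC c * u = u * eO c + u2 := by
      conv_lhs => rw [← mul_one (eC c * u), ← sum_eq c, mul_add, mul_add, mul_assoc _ u (eC c), hul.up, mul_zero,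
        zero_add, hul.mul_eO]
    conv_lhs => rw [← one_mul u, ← sum_eq c, add_mul, add_mul, hul.down, add_zero, e]
  have s1 : eC c * (u * eO c) = u * eO c := by rw [← mul_assoc, hul.mul_eO]
  have s2 : eC c * u2 = u2 := by rw [← mul_assoc, ← mul_assoc, eC_eC]
  have s3 : eO c * u2 = 0 ∧ eD c * u2 = 0 := by
    constructor <;> rw [← mul_assoc, ← mul_assoc]
    · rw [show eO c * eC c = 0 from (T_eO c _).2, zero_mul, zero_mul]
    · rw [hCD.2, zero_mul, zero_mul]
  have s4 : u2 * eD c = u2 := by rw [mul_assoc, eD_eD]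
  have ecj : cj i u = u2 - u * eO c - eO c * u := by
    have l1 : (eO c - eC c - eD c) * u = eO c * u - u * eO c - u2 := by
      rw [sub_mul, sub_mul, hul.down, sub_zero]
      have e : eC c * u = u * eO c + u2 := by
        conv_lhs => rw [hsplit, mul_add, mul_add, s1, s2, ← mul_assoc (eC c), (orth c).1, zero_mul, add_zero]
      rw [e]; abel
    rw [cj, ii', ii, l1]
    simp only [sub_mul, mul_sub, mul_assoc u (eO c), eO_eO, (orth c).1, (orth c).2.1, (orth c).2.2.1, (orth c).2.2.2, mul_zero, s4,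
      hul.mid, hul.eO_mul, show eO c * u * eC c = 0 by rw [mul_assoc, hul.up, mul_zero],
      show u2 * eC c = 0 by rw [mul_assoc, hCD.2, mul_zero],
      show u2 * eO c = 0 by rw [mul_assoc, show eD c * eO c = 0 from (T_eO c _).1, mul_zero]]
    abel
  have hsq : u * eO c * u = 0 := by rw [← hul.mul hul, hu.inG.sq]
  have hiG : InG G (cj i u) := hu.inG.conj (c.mem _)
  have hil : Low c (cj i u) := by
    have l2 : Low c u2 := ⟨s3.2, by rw [mul_assoc, hCD.2, mul_zero], by rw [s3.1, zero_mul]⟩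
    have l3 : Low c (u - u2) := hul.sub l2
    have : cj i u = u2 - (u - u2) := by
      rw [ecj]; conv_rhs => enter [2, 1]; rw [hsplit]
      abel
    rw [this]; exact l2.sub l3
  have hp : ∀ x y : Module.End k M, Low c x → Low c y → x * eO c * y = 0 → x * y = 0 :=
    fun x y hx hy h => by rw [hx.mul hy, h]
  have u2O : u2 * eO c = 0 := by rw [mul_assoc, show eD c * eO c = 0 from (T_eO c _).1, mul_zero]
  have ciO : cj i u * eO c = -(u * eO c) := by
    rw [ecj, sub_mul, sub_mul, u2O, hul.mid, mul_assoc u, eO_eO]; abel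
  have Oci : eO c * cj i u = -(eO c * u) := by
    rw [ecj, mul_sub, mul_sub, s3.1, ← mul_assoc, hul.mid, ← mul_assoc, eO_eO]; abel
  have hz1 : u * cj i u = 0 := hp _ _ hul hil (by
    rw [mul_assoc, Oci, mul_neg, ← mul_assoc, hsq, neg_zero])
  have hz2 : cj i u * u = 0 := hp _ _ hil hul (by rw [ciO, neg_mul, hsq, neg_zero])
  have hS : InG G ((2 : k) • u2) := by
    have := hu.inG.add hiG hz1 hz2
    rwa [show u + cj i u = (2 : k) • u2 by
      rw [ecj]; conv_lhs => enter [1]; rw [hsplit]
      rw [two_smul]; abel] at this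
  have h2G : InG G u2 := by
    have := hS.smul (2 : k)⁻¹
    rwa [smul_smul, inv_mul_cancel₀ h2, one_smul] at this
  refine ⟨h2G, ?_, ?_⟩
  · have := (hu.inG.add hiG.neg (by rw [mul_neg, hz1, neg_zero]) (by rw [neg_mul, hz2, neg_zero])).smul (2 : k)⁻¹
    rwa [show u + -cj i u = (2 : k) • (u - u2) by
      rw [ecj, two_smul]; conv_lhs => enter [1]; rw [hsplit]
      conv_rhs => enter [1, 1]; rw [hsplit]
      conv_rhs => enter [2, 1]; rw [hsplit]
      abel, smul_smul, inv_mul_cancel₀ h2, one_smul] at this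
  · have e : u - u2 = u * eO c + eO c * u := by
      conv_lhs => enter [1]; rw [hsplit]
      abel
    have l3 : LinearMap.range (u * eO c) ≤ LinearMap.range u ⊓ LinearMap.ker (eO c) := by
      refine le_inf (LinearMap.range_comp_le_range _ _) ?_
      rw [LinearMap.range_le_ker_iff, ← Module.End.mul_eq_comp, ← mul_assoc]
      exact hul.mid
    have a1 := finrank_map_add (eO c) (LinearMap.range u)
    rw [← LinearMap.range_comp, ← Module.End.mul_eq_comp] at a1
    have a2 := Submodule.finrank_mono l3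
    have hle : LinearMap.range (u - u2) ≤ LinearMap.range (u * eO c) ⊔ LinearMap.range (eO c * u) := by
      rw [e]
      rintro _ ⟨x, rfl⟩
      rw [LinearMap.add_apply]
      exact add_mem (Submodule.mem_sup_left (LinearMap.mem_range_self _ x))
        (Submodule.mem_sup_right (LinearMap.mem_range_self _ x))
    have a3 := (Submodule.finrank_mono hle).trans (Submodule.finrank_add_le_finrank_add_finrank _ _)
    omega

end Move

theorem exists_bracket_eq (hk2 : ringChar k ≠ 2) (hk3 : Nat.card k ≠ 3) (hirr : Reduced G)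
    (ha : Dmin G a) (hb : Dmin G b) (hno : ¬ Opp a b) (hz : a * b - b * a ≠ 0) {w : Module.End k M}
    (hw : SameClass G (a * b - b * a) w) : ∃ a', SameClass G a a' ∧ a' * b - b * a' = w := by
  obtain ⟨hab, hba⟩ := unipotent_pair hk2 ha hb hno
  set z := a * b - b * a with hzdef
  have hzD := (bracket_facts ha hb hab hba hz).dmin
  obtain ⟨δ, hδ, hop⟩ := exists_opp hk2 hk3 hirr hzD
  obtain ⟨L, _, _, ⟨c⟩⟩ := exists_model hk2 hk3 hzD hδ hop
  have la : Low c a := low_of_pair c hk2 hk3 ha hb hno hz (SameClass.refl hzD) (SameClass.refl ha)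
  have hneg : b * a - a * b = (-1 : k) • z := by rw [neg_one_smul, hzdef, neg_sub]
  have lb : Low c b := by
    refine low_of_pair c hk2 hk3 hb ha (fun h => hno h.symm) ?_ ?_ (SameClass.refl hb)
    · rw [hneg]; exact smul_ne_zero (neg_ne_zero.2 one_ne_zero) hz
    · rw [hneg]; exact (SameClass.refl hzD).smul (neg_ne_zero.2 one_ne_zero)
  -- graded representatives
  have hgr : ∀ {x : Module.End k M}, Dmin G x → Low c x → (∃ y, Low c y ∧ x * y - y * x = z) →
      Dmin G (x - eC c * x * eD c) ∧ Low c (x - eC c * x * eD c) ∧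
      eC c * (x - eC c * x * eD c) * eD c = 0 ∧
      (∀ y, Low c y → (x - eC c * x * eD c) * y = x * y ∧ y * (x - eC c * x * eD c) = y * x) ∧
      InG G (eC c * x * eD c) ∧ Low c (eC c * x * eD c) := by
    intro x hx hxl hy
    obtain ⟨h2, h1, hr⟩ := even_part c hk2 hx hxl hzD
    have l2 : Low c (eC c * x * eD c) := ⟨by rw [← mul_assoc, ← mul_assoc, (eC_eD c).2, zero_mul, zero_mul],
      by rw [mul_assoc, (eC_eD c).2, mul_zero],
      by rw [← mul_assoc, ← mul_assoc, show eO c * eC c = 0 from (T_eO c _).2, zero_mul, zero_mul, zero_mul]⟩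
    have hprod : ∀ y, Low c y → (x - eC c * x * eD c) * y = x * y ∧ y * (x - eC c * x * eD c) = y * x := by
      intro y hy
      refine ⟨?_, ?_⟩
      · rw [sub_mul, l2.mul hy, mul_assoc (eC c * x) (eD c), show eD c * eO c = 0 from (T_eO c _).1, mul_zero,
          zero_mul, sub_zero]
      · rw [mul_sub, hy.mul l2, mul_assoc y (eO c), ← mul_assoc (eO c), ← mul_assoc (eO c) (eC c),
          show eO c * eC c = 0 from (T_eO c _).2, zero_mul, zero_mul, mul_zero, sub_zero]
    refine ⟨hx.of_rank_le h1 (fun h0 => hzD.ne ?_) hr, hxl.sub l2, ?_, hprod, h2, l2⟩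
    · obtain ⟨y, hyl, hye⟩ := hy
      obtain ⟨e1, e2⟩ := hprod y hyl
      rw [h0, zero_mul] at e1
      rw [h0, mul_zero] at e2
      show z = 0
      rw [← hye, ← e1, ← e2, sub_zero]
    · rw [mul_sub, sub_mul, ← mul_assoc, ← mul_assoc, eC_eC, mul_assoc (eC c * x) (eD c), eD_eD, sub_self]
  obtain ⟨hA, hAl, hAg, hAp, hA2, hA2l⟩ := hgr ha la ⟨b, lb, hzdef.symm⟩
  obtain ⟨hB, hBl, hBg, hBp, -, -⟩ := hgr hb lb ⟨-a, ⟨by rw [mul_neg, la.down, neg_zero],
    by rw [neg_mul, la.up, neg_zero], by rw [mul_neg, neg_mul, la.mid, neg_zero]⟩,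
    by rw [mul_neg, neg_mul, sub_neg_eq_add, hzdef]; abel⟩
  set a1 := a - eC c * a * eD c
  set b1 := b - eC c * b * eD c
  set a2 := eC c * a * eD c
  have e1 : a1 * b1 - b1 * a1 = z := by
    rw [(hAp _ hBl).1, (hBp a la).2, (hAp _ hBl).2, (hBp a la).1, hzdef]
  have hno1 : ¬ Opp a1 b1 := (not_opp_iff hk2 hA hB).2 (hAl.triple hBl hAl)
  -- the first step
  obtain ⟨u', hu', hu'l, -, hu'e⟩ := graded_surj c hk2 hk3 hzD hδ hop hA hB hAl hAg hBl hno1 e1 hw
  have hu'b : u' * b - b * u' = w := by rw [← hu'e, (hBp u' hu'l).2, (hBp u' hu'l).1]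
  have heq : a = a1 + a2 := (sub_add_cancel a _).symm
  rcases eq_zero_or_class c hzD hA2 (by rw [← mul_assoc, ← mul_assoc, eC_eC]) (by rw [mul_assoc, eD_eD]) with h0 | h2
  · refine ⟨u', ?_, hu'b⟩
    rwa [heq, h0, add_zero]
  -- move the class of `a1` to the class of `a`
  have hmz : SameClass G (b1 * a1 - a1 * b1) a2 := by
    have : b1 * a1 - a1 * b1 = (-1 : k) • z := by rw [← e1, neg_one_smul, neg_sub]
    rw [this]
    refine ⟨h2.dmin, h2.ker.trans ?_, h2.range.trans ?_⟩
    · rw [LinearMap.ker_smul _ _ (neg_ne_zero.2 one_ne_zero)]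
    · rw [LinearMap.range_smul _ _ (neg_ne_zero.2 one_ne_zero)]
  have hcl : SameClass G z (b1 * a1 - a1 * b1) := by
    rw [show b1 * a1 - a1 * b1 = (-1 : k) • z by rw [← e1, neg_one_smul, neg_sub]]
    exact (SameClass.refl hzD).smul (neg_ne_zero.2 one_ne_zero)
  have hzD' := hcl.dmin
  obtain ⟨L', _, _, ⟨c'⟩⟩ := exists_model hk2 hk3 hzD' hδ (hop.of_class hk2 hk3 hzD hδ hcl (SameClass.refl hδ))
  obtain ⟨hC, hD⟩ := eC_of_class c hcl hδ c'
  have tr : ∀ {x}, Low c x → Low c' x := fun {x} hx => by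
    have hO : eO c' = eO c := by
      show 1 - c'.T 1 = 1 - c.T 1
      rw [T_one_split, T_one_split, hC, hD]
    exact ⟨hD ▸ hx.down, hC ▸ hx.up, hO ▸ hx.mid⟩
  obtain ⟨v', hv', hv'l', hv'g', hv'e⟩ := graded_surj c' hk2 hk3 hzD' hδ (hop.of_class hk2 hk3 hzD hδ hcl (SameClass.refl hδ)) hB hA (tr hBl) (by rw [hC, hD]; exact hBg) (tr hAl) (fun h => hno1 h.symm) rfl hmz
  have hv'l : Low c v' := by
    have hO : eO c' = eO c := by
      show 1 - c'.T 1 = 1 - c.T 1
      rw [T_one_split, T_one_split, hC, hD]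
    exact ⟨hD ▸ hv'l'.down, hC ▸ hv'l'.up, hO ▸ hv'l'.mid⟩
  have hvv := hv'.dmin.inG.sq
  have hcj : ∀ x, Low c x → cj (ex v') x = x + (v' * x - x * v') := fun x hx => by
    rw [cj_ex hvv, mul_sub, mul_one, add_mul, one_mul, add_mul, hv'l.triple hx hv'l, add_zero]; abel
  have hga : cj (ex v') a1 = a := by rw [hcj a1 hAl, hv'e, ← heq]
  refine ⟨cj (ex v') u', ⟨hu'.dmin.conj hv'.dmin.inG.ex_mem, ?_, ?_⟩, ?_⟩
  · rw [← hga, ker_cj, ker_cj, hu'.ker]
  · rw [← hga, range_cj, range_cj, hu'.range]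
  · rw [hcj u' hu'l]
    have t1 : (v' * u' - u' * v') * b = 0 := by rw [sub_mul, hv'l.triple hu'l lb, hu'l.triple hv'l lb, sub_zero]
    have t2 : b * (v' * u' - u' * v') = 0 := by
      rw [mul_sub, ← mul_assoc, ← mul_assoc, lb.triple hv'l hu'l, lb.triple hu'l hv'l, sub_zero]
    rw [add_mul, mul_add, t1, t2, add_zero, add_zero, hu'b]

end Cfsg.Agent.QuadRoot
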