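import Cfsg.Agent.Lib.QuadRoot.Flat

/-!
Central decomposition of a group generated by quadratic elements.
* `ex_sum_mem` : a sum of pieces with vanishing products exponentiates to the product
* `cocentral` : `G` is `sigmaJoin G` times its centralizer
* `exists_family` : the quasisimple factors of a reduced group and the pieces of its members
* `exists_factors` : the central product decomposition of a quadratic pair
-/

set_option autoImplicit false
set_option linter.unusedSectionVars false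

namespace Cfsg.Agent.QuadRoot

open Cfsg Module
open scoped MatrixGroups commutatorElement

universe u v

variable {k : Type u} [Field k] {M : Type v} [AddCommGroup M] [Module k M] [FiniteDimensional k M]
  {G : Subgroup (LinearMap.GeneralLinearGroup k M)} {a b q : Module.End k M}

local notation "GLM" => LinearMap.GeneralLinearGroup k M
local notation "ΣG" => quadraticRootSubgroups G

/-- `q` is a piece of `a`: a member lying in both one-sided ideals generated by `a`. -/
def Piece (G : Subgroup GLM) (a q : Module.End k M) : Prop :=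
  InG G q ∧ (∃ E, q = a * E) ∧ ∃ E', q = E' * a

theorem Piece.mul_eq_zero {p : Module.End k M} (ha : a * a = 0) (hp : Piece G a p) (hq : Piece G a q) :
    p * q = 0 := by
  obtain ⟨E, hE⟩ := hp.2.2
  obtain ⟨F, hF⟩ := hq.2.1
  rw [hE, hF, mul_assoc, ← mul_assoc a, ha, zero_mul, mul_zero]

theorem mul_sum_zero {x : Module.End k M} : ∀ l : List (Module.End k M), (∀ q ∈ l, x * q = 0) → x * l.sum = 0
  | [], _ => by simp
  | q :: l, h => by
    rw [List.sum_cons, mul_add, h q (by simp), mul_sum_zero l fun p hp => h p (by simp [hp]), add_zero]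

theorem sum_mul_zero {x : Module.End k M} : ∀ l : List (Module.End k M), (∀ q ∈ l, q * x = 0) → l.sum * x = 0
  | [], _ => by simp
  | q :: l, h => by
    rw [List.sum_cons, add_mul, h q (by simp), sum_mul_zero l fun p hp => h p (by simp [hp]), add_zero]

theorem ex_sum_mem {K : Subgroup GLM} : ∀ l : List (Module.End k M), (∀ p ∈ l, ∀ q ∈ l, p * q = 0) →
    (∀ q ∈ l, ex q ∈ K) → l.sum * l.sum = 0 ∧ ex l.sum ∈ K
  | [], _, _ => by simp [ex_zero, one_mem]
  | q :: l, h0, hK => by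
    obtain ⟨h1, h2⟩ := ex_sum_mem l (fun p hp r hr => h0 p (by simp [hp]) r (by simp [hr]))
      (fun p hp => hK p (by simp [hp]))
    have hq : q * q = 0 := h0 q (by simp) q (by simp)
    have hl : q * l.sum = 0 := mul_sum_zero l fun p hp => h0 q (by simp) p (by simp [hp])
    have hr : l.sum * q = 0 := sum_mul_zero l fun p hp => h0 p (by simp [hp]) q (by simp)
    rw [List.sum_cons]
    exact ⟨add_sq' hq h1 hl hr, ex_add hq h1 hl hr ▸ mul_mem (hK q (by simp)) h2⟩

theorem commute_of_ex {g : GLM} (hb : b * b = 0) (h : Commute g (ex b)) : Commute (g : Module.End k M) b := by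
  have h1 := congrArg (fun u : GLM => (u : Module.End k M)) h.eq
  simp only [Units.val_mul, coe_ex hb, mul_add, add_mul, mul_one, one_mul] at h1
  exact add_left_cancel h1

theorem commute_endo_of_ex (ha : a * a = 0) (hb : b * b = 0) (h : Commute (ex a) (ex b)) : Commute a b := by
  have h1 := commute_of_ex hb h
  rw [coe_ex ha] at h1
  have h2 := h1.sub_left (Commute.one_left b)
  rwa [add_sub_cancel_left] at h2

variable (hk2 : ringChar k ≠ 2) (hk3 : Nat.card k ≠ 3) (hirr : Reduced G)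
include hk2 hk3 hirr

theorem cocentral (hgen : Subgroup.closure (quadraticElements G) = G) :
    sigmaJoin G ⊔ (G ⊓ Subgroup.centralizer (sigmaJoin G : Set GLM)) = G := by
  refine le_antisymm (sup_le sigmaJoin_le inf_le_left) ?_
  conv_lhs => rw [← hgen]
  refine (Subgroup.closure_le _).2 fun σ hσ => ?_
  obtain ⟨a, ha, -, rfl⟩ := quadratic_iff.1 hσ
  obtain ⟨l, rfl, hl⟩ := exists_split hk2 hk3 hirr ha
  refine (ex_sum_mem l (fun p hp q hq => ?_) fun q hq => ?_).2
  · exact Piece.mul_eq_zero ha.sq ⟨(hl p hp).1, (hl p hp).2.1⟩ ⟨(hl q hq).1, (hl q hq).2.1⟩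
  obtain ⟨hqG, -, hd | hc⟩ := hl q hq
  · exact Subgroup.mem_sup_left (le_sigmaJoin (mem_quadraticRootSubgroups.2 ⟨q, hd, rfl⟩)
      (ex_mem_sameActionSubgroup hd (SameClass.refl hd)))
  · exact Subgroup.mem_sup_right ⟨hqG.ex_mem, by simpa using hc 1⟩

omit hk2 hk3 hirr in
theorem part_closure {A : Subgroup GLM} :
    Subgroup.closure (quadraticElements G ∩ (partGroup G A : Set GLM)) = partGroup G A := by
  refine le_antisymm ((Subgroup.closure_le _).2 fun x hx => hx.2) (iSup₂_le fun B hB => ?_)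
  obtain ⟨σ, -, hB'⟩ := hB.1
  have hle := le_partGroup hB
  rw [hB'] at hle ⊢
  exact (Subgroup.closure_le _).2 fun x hx => Subgroup.subset_closure ⟨hx.1.1, hle (Subgroup.subset_closure hx)⟩

omit hk2 hk3 in
theorem reduced_sub {G' : Subgroup GLM} (hle : G' ≤ G) (hn : ∀ g ∈ G, conjBy G' g = G') : Reduced G' := by
  intro U hU hu hUn
  set W : Set (Subgroup GLM) := {V | ∃ g ∈ G, V = conjBy U g}
  have hWG' : ∀ g ∈ G, conjBy U g ≤ G' := fun g hg => (Subgroup.map_mono hU).trans (hn g hg).le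
  have hpair : ∀ g ∈ G, ∀ h ∈ G, conjBy U h ≤ Subgroup.normalizer (conjBy U g : Set GLM) := by
    intro g hg h hh
    refine (hWG' h hh).trans (RankOne.le_normalizer_of_conjBy_le fun x hx => ?_)
    have hx' : g⁻¹ * x * g ∈ G' := by
      have := RankOne.conj_mem_conjBy g⁻¹ hx
      rw [hn _ (inv_mem hg)] at this
      simpa using this
    rw [RankOne.conjBy_conjBy, show x * g = g * (g⁻¹ * x * g) by simp [mul_assoc], ← RankOne.conjBy_conjBy,
      hUn _ hx']
  obtain ⟨hu', hn'⟩ := S5061.result (G := G) (W := W)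
    (by rintro _ ⟨g, hg, rfl⟩; exact (hWG' g hg).trans hle)
    (by
      rintro _ ⟨g, hg, rfl⟩ _ ⟨h, hh, rfl⟩
      exact nil_sup (unipotent_conjBy hu g) (unipotent_conjBy hu h) (hpair g hg h hh))
    (by
      rintro _ ⟨g, hg, rfl⟩ x hx
      exact ⟨x * g, mul_mem hx hg, RankOne.conjBy_conjBy ..⟩)
  have hbot := hirr _ (iSup₂_le (by rintro _ ⟨g, hg, rfl⟩; exact (hWG' g hg).trans hle)) hu' hn'
  exact le_bot_iff.1 (hbot ▸ le_iSup₂_of_le (f := fun V _ => V) U ⟨1, one_mem _, (RankOne.conjBy_one _).symm⟩ le_rfl)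

/-- A family of pairwise commuting quasisimple factors of `G` covering the pieces of all members. -/
structure IsFactors (G : Subgroup GLM) (𝔉 : Set (Subgroup GLM)) : Prop where
  finite : 𝔉.Finite
  le : ∀ F ∈ 𝔉, F ≤ G
  simple : ∀ F ∈ 𝔉, IsQuasisimple ↥F ∧ Subgroup.closure (quadraticElements G ∩ (F : Set GLM)) = F
  comm : ∀ F ∈ 𝔉, ∀ F' ∈ 𝔉, F ≠ F' → ⁅F, F'⁆ = ⊥
  cover : ∀ a, InG G a → ∃ l : List (Module.End k M),
    l.sum = a ∧ ∀ q ∈ l, Piece G a q ∧ ∃ F ∈ 𝔉, ∀ t : k, ex (t • q) ∈ F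

omit hk2 hk3 hirr in
/-- The subgroup generated by the members centralising `sigmaJoin G`. -/
def rest (G : Subgroup GLM) : Subgroup GLM :=
  Subgroup.closure {σ | ∃ q, InG G q ∧ (∀ t : k, ex (t • q) ∈ Subgroup.centralizer (sigmaJoin G : Set GLM)) ∧
    σ = ex q}

omit hk2 hk3 hirr in
theorem rest_le : rest G ≤ G ⊓ Subgroup.centralizer (sigmaJoin G : Set GLM) :=
  (Subgroup.closure_le _).2 (by rintro _ ⟨q, hq, hc, rfl⟩; exact ⟨hq.ex_mem, by simpa using hc 1⟩)

omit hk2 hk3 hirr in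
theorem inG_rest : InG (rest G) q ↔
    InG G q ∧ ∀ t : k, ex (t • q) ∈ Subgroup.centralizer (sigmaJoin G : Set GLM) := by
  refine ⟨fun h => ⟨⟨h.sq, fun t => (rest_le (h.mem t)).1⟩, fun t => (rest_le (h.mem t)).2⟩, fun h => ?_⟩
  refine ⟨h.1.sq, fun t => Subgroup.subset_closure ⟨t • q, h.1.smul t, fun s => ?_, rfl⟩⟩
  rw [smul_smul]
  exact h.2 _

omit hk2 hk3 hirr in
theorem rest_conj : ∀ g ∈ G, conjBy (rest G) g = rest G := by
  have hle : ∀ g ∈ G, conjBy (rest G) g ≤ rest G := by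
    intro g hg
    refine Subgroup.map_le_iff_le_comap.2 ((Subgroup.closure_le _).2 ?_)
    rintro _ ⟨q, hq, hc, rfl⟩
    refine Subgroup.subset_closure ⟨cj g q, hq.conj hg, fun t => ?_, conj_ex _ hq.sq⟩
    rw [← cj_smul, ← conj_ex _ (hq.smul t).sq]
    refine Subgroup.mem_centralizer_iff.2 fun x hx => ?_
    have hx' : g⁻¹ * x * g ∈ sigmaJoin G := by
      have := RankOne.conj_mem_conjBy g⁻¹ hx
      rw [sigmaJoin_conj (inv_mem hg)] at this
      simpa using this
    have h := congrArg (fun y => g * y * g⁻¹) (Subgroup.mem_centralizer_iff.1 (hc t) _ hx')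
    simpa [mul_assoc] using h
  intro g hg
  refine le_antisymm (hle g hg) fun x hx => RankOne.mem_conjBy.2 ?_
  have := hle g⁻¹ (inv_mem hg) (RankOne.conj_mem_conjBy g⁻¹ hx)
  simpa using this

omit hirr in
theorem exists_family : ∀ G : Subgroup GLM, Reduced G → ∃ 𝔉, IsFactors G 𝔉 := by
  intro G
  induction hn : finrank k (Submodule.span k {q : Module.End k M | InG G q}) using Nat.strong_induction_on
    generalizing G with
  | _ n ih =>
  intro hirr
  by_cases h0 : ∀ b, InG G b → b = 0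
  · exact ⟨∅, Set.finite_empty, by simp, by simp, by simp, fun a ha => ⟨[], by simp [h0 a ha], by simp⟩⟩
  push Not at h0
  obtain ⟨b, hb⟩ := Dmin.exists_of_ne_bot h0
  obtain ⟨d, hd, hbd⟩ := exists_opp hk2 hk3 hirr hb
  have hred : Reduced (rest G) := reduced_sub hirr (rest_le.trans inf_le_left) rest_conj
  have hsub : Submodule.span k {q : Module.End k M | InG (rest G) q} <
      Submodule.span k {q : Module.End k M | InG G q} := by
    refine lt_of_le_of_ne (Submodule.span_mono fun q hq => (inG_rest.1 hq).1) fun e => hbd ?_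
    have hbmem : b ∈ Submodule.span k {q : Module.End k M | InG (rest G) q} := e ▸ Submodule.subset_span hb.inG
    have hker : Submodule.span k {q : Module.End k M | InG (rest G) q} ≤
        LinearMap.ker (LinearMap.mulRight k d - LinearMap.mulLeft k d) := by
      refine Submodule.span_le.2 fun q hq => ?_
      have h1 : ex q ∈ Subgroup.centralizer (sigmaJoin G : Set GLM) := by simpa using (inG_rest.1 hq).2 1
      have h2 := Subgroup.mem_centralizer_iff.1 h1 _ (le_sigmaJoin (mem_quadraticRootSubgroups.2 ⟨d, hd, rfl⟩)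
        (ex_mem_sameActionSubgroup hd (SameClass.refl hd)))
      have h3 : Commute q d := commute_endo_of_ex hq.sq hd.inG.sq h2.symm
      simp [h3.eq]
    have hcomm : b * d = d * b := sub_eq_zero.1 (by simpa using hker hbmem)
    exact ⟨2, by rw [sq, mul_assoc, ← mul_assoc d, ← hcomm, mul_assoc b, hd.inG.sq, mul_zero, mul_zero]⟩
  obtain ⟨𝔉', h𝔉⟩ := ih _ (hn ▸ Submodule.finrank_lt_finrank_of_lt hsub) (rest G) rfl hred
  obtain ⟨r, f, hf, hcov, hinj⟩ := exists_enumeration hk2 hk3 hirr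
  refine ⟨Set.range (fun i => partGroup G (f i)) ∪ 𝔉', (Set.finite_range _).union h𝔉.finite, ?_, ?_, ?_, ?_⟩
  · rintro F (⟨i, rfl⟩ | hF)
    · exact partGroup_le.trans sigmaJoin_le
    · exact (h𝔉.le F hF).trans (rest_le.trans inf_le_left)
  · rintro F (⟨i, rfl⟩ | hF)
    · exact ⟨part_quasisimple hk2 hk3 hirr (hf i), part_closure⟩
    · refine ⟨(h𝔉.simple F hF).1, le_antisymm ((Subgroup.closure_le _).2 fun x hx => hx.2) ?_⟩
      conv_lhs => rw [← (h𝔉.simple F hF).2]
      refine Subgroup.closure_mono fun σ hσ => ⟨?_, hσ.2⟩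
      obtain ⟨q, hq, hq0, rfl⟩ := quadratic_iff.1 hσ.1
      exact quadratic_iff.2 ⟨q, (inG_rest.1 hq).1, hq0, rfl⟩
  · have hcross : ∀ i, ∀ F' ∈ 𝔉', ⁅partGroup G (f i), F'⁆ = ⊥ := fun i F' hF' =>
      Subgroup.commutator_eq_bot_iff_le_centralizer.2 (Subgroup.le_centralizer_iff.1
        (((h𝔉.le F' hF').trans (rest_le.trans inf_le_right)).trans
          (Subgroup.centralizer_le (SetLike.coe_subset_coe.2 partGroup_le))))
    rintro F (⟨i, rfl⟩ | hF) F' (⟨j, rfl⟩ | hF') hne
    · exact parts_commute hk2 hk3 hirr fun h => hne (congrArg (fun i => partGroup G (f i)) (hinj i j h))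
    · exact hcross i F' hF'
    · rw [Subgroup.commutator_comm]; exact hcross j F hF
    · exact h𝔉.comm F hF F' hF' hne
  intro a ha
  obtain ⟨l, hla, hl⟩ := exists_split hk2 hk3 hirr ha
  have key : ∀ q ∈ l, ∃ m : List (Module.End k M), m.sum = q ∧ ∀ p ∈ m, Piece G a p ∧
      ∃ F ∈ Set.range (fun i => partGroup G (f i)) ∪ 𝔉', ∀ t : k, ex (t • p) ∈ F := by
    intro q hq
    obtain ⟨hqG, hqa, hd | hc⟩ := hl q hq
    · refine ⟨[q], by simp, fun p hp => ?_⟩
      rw [List.mem_singleton.1 hp]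
      obtain ⟨i, hi⟩ := hcov _ (mem_quadraticRootSubgroups.2 ⟨q, hd, rfl⟩)
      refine ⟨⟨hqG, hqa⟩, _, Or.inl ⟨i, rfl⟩, fun t => ?_⟩
      rcases eq_or_ne t 0 with rfl | ht
      · rw [zero_smul, ex_zero]; exact one_mem _
      · exact le_partGroup hi (ex_mem_sameActionSubgroup hd ((SameClass.refl hd).smul ht))
    · obtain ⟨m, hm, hmp⟩ := h𝔉.cover q (inG_rest.2 ⟨hqG, hc⟩)
      refine ⟨m, hm, fun p hp => ?_⟩
      obtain ⟨⟨hpG, ⟨E, hE⟩, E', hE'⟩, F, hF, hmem⟩ := hmp p hp
      obtain ⟨⟨E₀, hE₀⟩, E₁, hE₁⟩ := hqa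
      exact ⟨⟨(inG_rest.1 hpG).1, ⟨E₀ * E, by rw [hE, hE₀, mul_assoc]⟩,
        E' * E₁, by rw [hE', hE₁, mul_assoc]⟩, F, Or.inr hF, hmem⟩
  choose! m hm hmp using key
  refine ⟨l.flatMap m, ?_, fun p hp => ?_⟩
  · rw [List.flatMap_def, List.sum_flatten, List.map_map, ← hla]
    exact congrArg List.sum ((List.map_congr_left fun x hx => hm x hx).trans (List.map_id _))
  · obtain ⟨x, hx, hpx⟩ := List.mem_flatMap.1 hp
    exact hmp x hx p hpx

omit hirr in
theorem exists_factors (hirr' : IsIrreducibleFor G) (hgen : Subgroup.closure (quadraticElements G) = G) :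
    ∃ 𝔉, IsFactors G 𝔉 ∧ (⨆ F ∈ 𝔉, F) = G ∧ (∀ F ∈ 𝔉, ∀ g ∈ G, conjBy F g = F) ∧
      ∀ σ ∈ quadraticElements G, ∃ F ∈ 𝔉, σ ∈ F := by
  obtain ⟨𝔉, h⟩ := exists_family hk2 hk3 G (reduced_of_irreducible hirr')
  have hjoin : (⨆ F ∈ 𝔉, F) = G := by
    refine le_antisymm (iSup₂_le h.le) ?_
    conv_lhs => rw [← hgen]
    refine (Subgroup.closure_le _).2 fun σ hσ => ?_
    obtain ⟨a, ha, -, rfl⟩ := quadratic_iff.1 hσ
    obtain ⟨l, rfl, hl⟩ := h.cover a ha
    refine (ex_sum_mem l (fun p hp q hq => Piece.mul_eq_zero ha.sq (hl p hp).1 (hl q hq).1) fun q hq => ?_).2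
    obtain ⟨-, F, hF, hmem⟩ := hl q hq
    exact le_iSup₂_of_le (f := fun F (_ : F ∈ 𝔉) => F) F hF le_rfl (by simpa using hmem 1)
  have hnor : ∀ F ∈ 𝔉, ∀ g ∈ G, conjBy F g = F := by
    intro F hF g hg
    refine RankOne.conjBy_of_mem_normalizer ?_
    refine (?_ : (⨆ F' ∈ 𝔉, F') ≤ Subgroup.normalizer (F : Set GLM)) (hjoin.ge hg)
    refine iSup₂_le fun F' hF' => ?_
    rcases eq_or_ne F' F with rfl | hne
    · exact Subgroup.le_normalizer
    · exact (Subgroup.commutator_eq_bot_iff_le_centralizer.1 (h.comm F' hF' F hF hne)).trans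
        (Subgroup.centralizer_le_normalizer _)
  refine ⟨𝔉, h, hjoin, hnor, fun σ hσ => ?_⟩
  obtain ⟨a, ha, ha0, rfl⟩ := quadratic_iff.1 hσ
  obtain ⟨l, rfl, hl⟩ := h.cover a ha
  obtain ⟨q₀, hq₀, hq₀0⟩ : ∃ q ∈ l, q ≠ 0 := by
    by_contra! hc
    exact ha0 (List.sum_eq_zero hc)
  obtain ⟨hp₀, F, hF, hmem₀⟩ := hl q₀ hq₀
  refine ⟨F, hF, (ex_sum_mem l (fun p hp q hq => Piece.mul_eq_zero ha.sq (hl p hp).1 (hl q hq).1) fun q hq => ?_).2⟩
  rcases eq_or_ne q 0 with rfl | hq0
  · rw [ex_zero]; exact one_mem _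
  obtain ⟨hp, F', hF', hmem⟩ := hl q hq
  rcases eq_or_ne F' F with rfl | hne
  · simpa using hmem 1
  exfalso
  have hex : ∀ {P : Module.End k M} {H H' : Subgroup GLM}, H ∈ 𝔉 → H' ∈ 𝔉 → H ≠ H' → P * P = 0 → ex P ∈ H →
      ∀ g ∈ H', Commute (g : Module.End k M) P := fun hH hH' hne hP hmemP g hg =>
    (commute_of_ex hP (RankOne.elem_commute (h.comm _ hH _ hH' hne) hmemP hg).symm)
  set V : Submodule k M := ⨆ g ∈ F, LinearMap.range (cj g q₀)
  have hVG : ∀ x ∈ G, V.map (x : Module.End k M) ≤ V := by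
    intro x hx
    rw [← hjoin, iSup_subtype'] at hx
    refine Subgroup.iSup_induction _ (C := fun x : GLM => V.map (x : Module.End k M) ≤ V) hx ?_ ?_ ?_
    · rintro ⟨H, hH⟩ x hxH
      rw [Submodule.map_iSup]
      refine iSup_le fun g => ?_
      rw [Submodule.map_iSup]
      refine iSup_le fun hg => ?_
      rw [← range_cj, cj_cj]
      rcases eq_or_ne H F with rfl | hHF
      · exact le_iSup₂_of_le (f := fun g _ => LinearMap.range (cj g q₀)) (x * g) (mul_mem hxH hg) le_rfl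
      · have hxq : cj x q₀ = q₀ := by
          rw [cj, (hex hF hH (Ne.symm hHF) hp₀.1.sq (by simpa using hmem₀ 1) x hxH).eq, mul_assoc,
            ← Units.val_mul, mul_inv_cancel, Units.val_one, mul_one]
        rw [(RankOne.elem_commute (h.comm H hH F hF hHF) hxH hg).eq, ← cj_cj, hxq]
        exact le_iSup₂_of_le (f := fun g _ => LinearMap.range (cj g q₀)) g hg le_rfl
    · rw [Units.val_one, Module.End.one_eq_id, Submodule.map_id]
    · intro x y hx hy
      rw [Units.val_mul, Module.End.mul_eq_comp, Submodule.map_comp]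
      exact (Submodule.map_mono hy).trans hx
  have hVq : V ≤ LinearMap.ker q := by
    refine iSup₂_le fun g hg => ?_
    rw [LinearMap.range_le_ker_iff, ← Module.End.mul_eq_comp, cj]
    have hgq : Commute (g : Module.End k M) q := hex hF' hF hne hp.1.sq (by simpa using hmem 1) g hg
    rw [← mul_assoc, ← mul_assoc, ← hgq.eq, mul_assoc (g : Module.End k M) q q₀,
      Piece.mul_eq_zero ha.sq hp hp₀, mul_zero, zero_mul]
  rcases hirr'.2 V (fun g hg w hw => hVG g hg ⟨w, hw, rfl⟩) with hb | htop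
  · refine hq₀0 (LinearMap.range_eq_bot.1 (le_bot_iff.1 (hb ▸ ?_)))
    refine le_iSup₂_of_le (f := fun g _ => LinearMap.range (cj g q₀)) 1 (one_mem _) ?_
    simp [cj]
  · exact hq0 (LinearMap.ker_eq_top.1 (top_le_iff.1 (htop ▸ hVq)))

end Cfsg.Agent.QuadRoot
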