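import Cfsg.Agent.Lib.QuadRoot.Surjective

/-!
The trichotomy for two subgroups `E(1+a)`, `E(1+b)`.
* `commute_case` : bracket zero, then they commute elementwise
* `CommCase` / `bracket_case` : bracket `z ≠ 0`, then the commutator subgroup is `E(1+z)`
* `unipotent_cases`
* `not_opp_of_commute`, `no_normalizer`
-/

set_option autoImplicit false
set_option linter.unusedSectionVars false

namespace Cfsg.Agent.QuadRoot

open Cfsg Module
open Cfsg.Agent.QuadPair (upR loR genPairR coe_upR coe_loR)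
open scoped MatrixGroups commutatorElement

universe u v

variable {k : Type u} [Field k] {M : Type v} [AddCommGroup M] [Module k M] [FiniteDimensional k M]
  {G : Subgroup (LinearMap.GeneralLinearGroup k M)} {a b : Module.End k M}

local notation "E⟨" a "⟩" => sameActionSubgroup G (ex a)

/-- The data of the bracket of two members. -/
theorem commutator_members (hk2 : ringChar k ≠ 2) (hk3 : Nat.card k ≠ 3) (ha : Dmin G a) (hb : Dmin G b)
    (hno : ¬ Opp a b) {p q : Module.End k M} (hp : SameClass G a p) (hq : SameClass G b q) :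
    ⁅ex p, ex q⁆ = ex (p * q - q * p) := by
  obtain ⟨h1, h2⟩ := unipotent_pair hk2 hp.dmin hq.dmin (not_opp_of_class hk2 hk3 ha hb hno hp hq)
  exact commutator_ex hp.dmin.inG.sq hq.dmin.inG.sq h1 h2

theorem bracket_zero_of_zero (hk2 : ringChar k ≠ 2) (hk3 : Nat.card k ≠ 3) (ha : Dmin G a) (hb : Dmin G b)
    (hno : ¬ Opp a b) (hz : a * b - b * a = 0) {p q : Module.End k M} (hp : SameClass G a p)
    (hq : SameClass G b q) : p * q - q * p = 0 := by
  by_contra h
  have hno' := not_opp_of_class hk2 hk3 ha hb hno hp hq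
  obtain ⟨h1, h2⟩ := unipotent_pair hk2 hp.dmin hq.dmin hno'
  obtain ⟨h3, h4⟩ := unipotent_pair hk2 ha hb hno
  exact (bracket_class hp.dmin hq.dmin h1 h2 h ⟨ha, hp.ker.symm, hp.range.symm⟩ ⟨hb, hq.ker.symm, hq.range.symm⟩
    h3 h4).1 hz

theorem commute_case (hk2 : ringChar k ≠ 2) (hk3 : Nat.card k ≠ 3) (ha : Dmin G a) (hb : Dmin G b)
    (hno : ¬ Opp a b) (hz : a * b - b * a = 0) : ⁅E⟨a⟩, E⟨b⟩⁆ = ⊥ := by
  rw [← le_bot_iff, Subgroup.commutator_le]
  intro x hx y hy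
  rw [Subgroup.mem_bot]
  obtain ⟨p, hp, rfl⟩ := (mem_sameActionSubgroup ha).1 hx
  obtain ⟨q, hq, rfl⟩ := (mem_sameActionSubgroup hb).1 hy
  rcases hp with rfl | hp
  · simp [ex_zero]
  rcases hq with rfl | hq
  · simp [ex_zero]
  rw [commutator_members hk2 hk3 ha hb hno hp hq, bracket_zero_of_zero hk2 hk3 ha hb hno hz hp hq, ex_zero]

theorem commutator_sup_le {X : Type*} [Group X] {A B C : Subgroup X} [IsMulCommutative A] [IsMulCommutative B]
    (hAB : ∀ a ∈ A, ∀ b ∈ B, ⁅a, b⁆ ∈ C) (hc : ∀ c ∈ C, ∀ x ∈ A ⊔ B, c * x = x * c) :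
    ⁅A ⊔ B, A ⊔ B⁆ ≤ C := by
  have inv : ∀ x ∈ A ⊔ B, ∀ c ∈ C, x * c * x⁻¹ = c := fun x hx c hcC => by
    rw [← hc c hcC x hx, mul_inv_cancel_right]
  -- for a fixed `y` the first entries form a subgroup
  have S : ∀ y : X, ∀ T : Subgroup X, T ≤ A ⊔ B → (∀ (U : Set X), T = Subgroup.closure U → ∀ x ∈ U, ⁅x, y⁆ ∈ C) →
      ∀ x ∈ T, ⁅x, y⁆ ∈ C := fun y T _ h x hx => h T (Subgroup.closure_eq T).symm x hx
  have left : ∀ y : X, (∀ x ∈ A, ⁅x, y⁆ ∈ C) → (∀ x ∈ B, ⁅x, y⁆ ∈ C) → ∀ x ∈ A ⊔ B, ⁅x, y⁆ ∈ C := by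
    intro y hA hB
    let K : Subgroup X :=
      { carrier := {x | x ∈ A ⊔ B ∧ ⁅x, y⁆ ∈ C}
        one_mem' := ⟨one_mem _, by simp⟩
        mul_mem' := fun {p q} hp hq => by
          refine ⟨mul_mem hp.1 hq.1, ?_⟩
          have e : ⁅p * q, y⁆ = p * ⁅q, y⁆ * p⁻¹ * ⁅p, y⁆ := by simp [commutatorElement_def, mul_assoc]
          rw [e, inv p hp.1 _ hq.2]
          exact mul_mem hq.2 hp.2
        inv_mem' := fun {p} hp => by
          refine ⟨inv_mem hp.1, ?_⟩
          have e : ⁅p⁻¹, y⁆ = p⁻¹ * ⁅p, y⁆⁻¹ * p := by simp [commutatorElement_def, mul_assoc]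
          have := inv p⁻¹ (inv_mem hp.1) _ (inv_mem hp.2)
          rw [inv_inv] at this
          rw [e, this]
          exact inv_mem hp.2 }
    have hle : A ⊔ B ≤ K := sup_le (fun x hx => ⟨Subgroup.mem_sup_left hx, hA x hx⟩)
      (fun x hx => ⟨Subgroup.mem_sup_right hx, hB x hx⟩)
    exact fun x hx => (hle hx).2
  rw [Subgroup.commutator_le]
  intro x hx y hy
  refine left y (fun p hp => ?_) (fun p hp => ?_) x hx
  · rw [← commutatorElement_inv]
    refine inv_mem (left p (fun q hq => ?_) (fun q hq => ?_) y hy)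
    · rw [commutatorElement_eq_one_iff_mul_comm.2 (congrArg Subtype.val
        (mul_comm' (⟨q, hq⟩ : A) ⟨p, hp⟩))]
      exact one_mem _
    · rw [← commutatorElement_inv]; exact inv_mem (hAB p hp q hq)
  · rw [← commutatorElement_inv]
    refine inv_mem (left p (fun q hq => hAB q hq p hp) (fun q hq => ?_) y hy)
    rw [commutatorElement_eq_one_iff_mul_comm.2 (congrArg Subtype.val (mul_comm' (⟨q, hq⟩ : B) ⟨p, hp⟩))]
    exact one_mem _

/-- The conclusions in the commutator case. -/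
structure CommCase (G : Subgroup (LinearMap.GeneralLinearGroup k M))
    (A B : Subgroup (LinearMap.GeneralLinearGroup k M)) (z : Module.End k M) : Prop where
  dmin : Dmin G z
  eq : ⁅A, B⁆ = sameActionSubgroup G (ex z)
  left : ∀ e ∈ A, e ≠ 1 → Subgroup.closure ((fun f : LinearMap.GeneralLinearGroup k M => e * f * e⁻¹ * f⁻¹) ''
    (B : Set (LinearMap.GeneralLinearGroup k M))) = ⁅A, B⁆
  right : ∀ f ∈ B, f ≠ 1 → Subgroup.closure ((fun e : LinearMap.GeneralLinearGroup k M => e * f * e⁻¹ * f⁻¹) ''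
    (A : Set (LinearMap.GeneralLinearGroup k M))) = ⁅A, B⁆
  central : ∀ x ∈ ⁅A, B⁆, ∀ y ∈ A ⊔ B, x * y = y * x
  derived_ne : ⁅A ⊔ B, A ⊔ B⁆ ≠ ⊥
  class_two : ⁅⁅A ⊔ B, A ⊔ B⁆, A ⊔ B⁆ = ⊥
  core : ((A ⊔ B : Subgroup (LinearMap.GeneralLinearGroup k M)) : Set (LinearMap.GeneralLinearGroup k M)) ⊆
    quadraticUnipotentCore G ⁅A, B⁆

theorem bracket_case (hk2 : ringChar k ≠ 2) (hk3 : Nat.card k ≠ 3) (hirr : Reduced G) (ha : Dmin G a)
    (hb : Dmin G b) (hno : ¬ Opp a b) (hz : a * b - b * a ≠ 0) :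
    CommCase G E⟨a⟩ E⟨b⟩ (a * b - b * a) := by
  obtain ⟨hab, hba⟩ := unipotent_pair hk2 ha hb hno
  have f := bracket_facts ha hb hab hba hz
  set z := a * b - b * a with hzdef
  have hzD : Dmin G z := f.dmin
  have hcl : ∀ {p q}, SameClass G a p → SameClass G b q → SameClass G z (p * q - q * p) := fun {p q} hp hq => by
    obtain ⟨h1, h2⟩ := unipotent_pair hk2 hp.dmin hq.dmin (not_opp_of_class hk2 hk3 ha hb hno hp hq)
    exact (bracket_class ha hb hab hba hz hp hq h1 h2).2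
  have hmem : ∀ x ∈ E⟨a⟩, ∀ y ∈ E⟨b⟩, ⁅x, y⁆ ∈ E⟨z⟩ := by
    intro x hx y hy
    obtain ⟨p, hp, rfl⟩ := (mem_sameActionSubgroup ha).1 hx
    obtain ⟨q, hq, rfl⟩ := (mem_sameActionSubgroup hb).1 hy
    rcases hp with rfl | hp
    · simp [ex_zero]
    rcases hq with rfl | hq
    · simp [ex_zero]
    rw [commutator_members hk2 hk3 ha hb hno hp hq]
    exact ex_mem_sameActionSubgroup hzD (hcl hp hq)
  -- surjectivity, from both sides
  have surjR : ∀ q, SameClass G b q → ∀ x ∈ E⟨z⟩, ∃ e ∈ E⟨a⟩, ⁅e, ex q⁆ = x := by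
    intro q hq x hx
    obtain ⟨w, hw, rfl⟩ := (mem_sameActionSubgroup hzD).1 hx
    rcases hw with rfl | hw
    · exact ⟨1, one_mem _, by simp [ex_zero]⟩
    have hzq := hcl (SameClass.refl ha) hq
    obtain ⟨p, hp, he⟩ := exists_bracket_eq hk2 hk3 hirr ha hq.dmin
      (not_opp_of_class hk2 hk3 ha hb hno (SameClass.refl ha) hq) hzq.dmin.ne (w := w)
      ⟨hw.dmin, hw.ker.trans hzq.ker.symm, hw.range.trans hzq.range.symm⟩
    exact ⟨ex p, ex_mem_sameActionSubgroup ha hp, by rw [commutator_members hk2 hk3 ha hb hno hp hq, he]⟩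
  have surjL : ∀ p, SameClass G a p → ∀ x ∈ E⟨z⟩, ∃ f ∈ E⟨b⟩, ⁅ex p, f⁆ = x := by
    intro p hp x hx
    obtain ⟨w, hw, rfl⟩ := (mem_sameActionSubgroup hzD).1 hx
    rcases hw with rfl | hw
    · exact ⟨1, one_mem _, by simp [ex_zero]⟩
    have hzp := hcl hp (SameClass.refl hb)
    have hne : b * p - p * b ≠ 0 := by rw [← neg_sub, neg_ne_zero]; exact hzp.dmin.ne
    obtain ⟨q, hq, he⟩ := exists_bracket_eq hk2 hk3 hirr hb hp.dmin
      (fun h => not_opp_of_class hk2 hk3 ha hb hno hp (SameClass.refl hb) h.symm) hne (w := (-1 : k) • w) (by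
        have := hw.smul (neg_ne_zero.2 (one_ne_zero (α := k)))
        refine ⟨this.dmin, ?_, ?_⟩
        · rw [← neg_sub (p * b), LinearMap.ker_neg, this.ker, hzp.ker]
        · rw [← neg_sub (p * b), LinearMap.range_neg, this.range, hzp.range])
    refine ⟨ex q, ex_mem_sameActionSubgroup hb hq, ?_⟩
    rw [commutator_members hk2 hk3 ha hb hno hp hq, ← neg_sub, he, neg_one_smul, neg_neg]
  have heq : ⁅E⟨a⟩, E⟨b⟩⁆ = E⟨z⟩ := by
    refine le_antisymm (Subgroup.commutator_le.2 hmem) fun x hx => ?_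
    obtain ⟨e, he, rfl⟩ := surjR b (SameClass.refl hb) x hx
    exact Subgroup.commutator_mem_commutator he (ex_mem_sameActionSubgroup hb (SameClass.refl hb))
  -- the flag of `z`
  let F : ℕ → Submodule k M := fun i =>
    match i with
    | 0 => ⊤
    | 1 => LinearMap.ker z
    | 2 => LinearMap.range z
    | _ + 3 => ⊥
  have hF : S5061.IsFlag F := by
    refine ⟨antitone_nat_of_succ_le fun i => ?_, rfl, 3, rfl⟩
    match i with
    | 0 => exact le_top
    | 1 => exact range_le_ker hzD.inG.sq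
    | _ + 2 => exact bot_le
  obtain ⟨δ, hδ, hop⟩ := exists_opp hk2 hk3 hirr hzD
  obtain ⟨L, _, _, ⟨c⟩⟩ := exists_model hk2 hk3 hzD hδ hop
  have hlev : ∀ u, u * u = 0 → Low c u → ex u ∈ S5061.level F hF 1 := by
    intro u hu hl i
    rw [show S5061.dev (ex u) = u from coe_sub_ex hu]
    match i with
    | 0 =>
      rintro _ ⟨v, -, rfl⟩
      show u v ∈ LinearMap.ker z
      rw [← ker_eD c, LinearMap.mem_ker, ← Module.End.mul_apply, hl.down, LinearMap.zero_apply]
    | 1 =>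
      rintro _ ⟨v, hv, rfl⟩
      show u v ∈ LinearMap.range z
      have h0 : eD c v = 0 := by
        rw [← LinearMap.mem_ker, ker_eD c]; exact hv
      have h1 := LinearMap.congr_fun (sum_eq c) v
      rw [LinearMap.add_apply, LinearMap.add_apply, h0, add_zero, Module.End.one_apply] at h1
      have e : u v = eC c (u (eO c v)) := by
        conv_lhs => rw [← h1, map_add, ← Module.End.mul_apply, hl.up, LinearMap.zero_apply, zero_add,
          ← Module.End.mul_apply, ← hl.mul_eO]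
        rfl
      rw [e, ← range_eC c]
      exact LinearMap.mem_range_self _ _
    | 2 =>
      rintro _ ⟨v, hv, rfl⟩
      show u v ∈ (⊥ : Submodule k M)
      obtain ⟨w, rfl⟩ : v ∈ LinearMap.range (eC c) := (range_eC c).symm ▸ hv
      rw [Submodule.mem_bot, ← Module.End.mul_apply, hl.up, LinearMap.zero_apply]
    | i + 3 => show (⊥ : Submodule k M).map u ≤ _; rw [Submodule.map_bot]
  have lowA : ∀ {p}, SameClass G a p → Low c p := fun hp => low_of_pair c hk2 hk3 ha hb hno hz (SameClass.refl hzD) hp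
  have lowB : ∀ {q}, SameClass G b q → Low c q := fun hq => by
    refine low_of_pair c hk2 hk3 hb ha (fun h => hno h.symm) ?_ ?_ hq
    · rw [← neg_sub, neg_ne_zero]; exact hz
    · rw [show b * a - a * b = (-1 : k) • z by rw [neg_one_smul, hzdef, neg_sub]]
      exact (SameClass.refl hzD).smul (neg_ne_zero.2 one_ne_zero)
  have zkill : ∀ u, Low c u → ∀ w, SameClass G z w → Commute u w := by
    intro u hl w hw
    have h1 : u * w = 0 := LinearMap.ext fun v => by
      obtain ⟨y, hy⟩ : w v ∈ LinearMap.range (eC c) := by rw [range_eC c, ← hw.range]; exact ⟨v, rfl⟩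
      rw [Module.End.mul_apply, ← hy, ← Module.End.mul_apply, hl.up]
      simp
    have h2 : w * u = 0 := LinearMap.ext fun v => by
      have : u v ∈ LinearMap.ker w := by
        rw [hw.ker, ← ker_eD c, LinearMap.mem_ker, ← Module.End.mul_apply, hl.down, LinearMap.zero_apply]
      exact this
    show u * w = w * u
    rw [h1, h2]
  have hcent : E⟨a⟩ ⊔ E⟨b⟩ ≤ Subgroup.centralizer (E⟨z⟩ : Set (LinearMap.GeneralLinearGroup k M)) := by
    have key : ∀ u, u * u = 0 → Low c u →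
        ex u ∈ Subgroup.centralizer (E⟨z⟩ : Set (LinearMap.GeneralLinearGroup k M)) := by
      intro u hu hl
      rw [Subgroup.mem_centralizer_iff]
      intro x hx
      obtain ⟨w, hw, rfl⟩ := (mem_sameActionSubgroup hzD).1 hx
      refine Units.ext ?_
      rcases hw with rfl | hw
      · simp [ex_zero]
      rw [Units.val_mul, Units.val_mul, coe_ex hu, coe_ex hw.dmin.inG.sq]
      exact ((Commute.one_left _).add_left ((Commute.one_right w).add_right (zkill u hl w hw).symm)).eq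
    refine sup_le ((Subgroup.closure_le _).2 fun x hx => ?_) ((Subgroup.closure_le _).2 fun x hx => ?_)
    · obtain ⟨p, hp, rfl⟩ := (class_iff ha).1 hx; exact key p hp.dmin.inG.sq (lowA hp)
    · obtain ⟨q, hq, rfl⟩ := (class_iff hb).1 hx; exact key q hq.dmin.inG.sq (lowB hq)
  have hcentral : ∀ x ∈ E⟨z⟩, ∀ y ∈ E⟨a⟩ ⊔ E⟨b⟩, x * y = y * x :=
    fun x hx y hy => Subgroup.mem_centralizer_iff.1 (hcent hy) x hx
  haveI := sameActionSubgroup_comm ha
  haveI := sameActionSubgroup_comm hb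
  have hder : ⁅E⟨a⟩ ⊔ E⟨b⟩, E⟨a⟩ ⊔ E⟨b⟩⁆ ≤ E⟨z⟩ := commutator_sup_le hmem hcentral
  refine ⟨hzD, heq, ?_, ?_, by rw [heq]; exact hcentral, ?_, ?_, ?_⟩
  · intro e he he1
    obtain ⟨p, hp, rfl⟩ := (mem_sameActionSubgroup ha).1 he
    rcases hp with rfl | hp
    · exact absurd ex_zero he1
    refine le_antisymm ((Subgroup.closure_le _).2 ?_) fun x hx => Subgroup.subset_closure ?_
    · rintro _ ⟨y, hy, rfl⟩
      exact Subgroup.commutator_mem_commutator (ex_mem_sameActionSubgroup ha hp) hy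
    · obtain ⟨y, hy, e⟩ := surjL p hp x (heq ▸ hx)
      exact ⟨y, hy, by rw [← e, commutatorElement_def]⟩
  · intro e he he1
    obtain ⟨q, hq, rfl⟩ := (mem_sameActionSubgroup hb).1 he
    rcases hq with rfl | hq
    · exact absurd ex_zero he1
    refine le_antisymm ((Subgroup.closure_le _).2 ?_) fun x hx => Subgroup.subset_closure ?_
    · rintro _ ⟨y, hy, rfl⟩
      exact Subgroup.commutator_mem_commutator hy (ex_mem_sameActionSubgroup hb hq)
    · obtain ⟨y, hy, e⟩ := surjR q hq x (heq ▸ hx)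
      exact ⟨y, hy, by rw [← e, commutatorElement_def]⟩
  · intro h0
    refine sameActionSubgroup_ne_bot hzD (le_bot_iff.1 ?_)
    rw [← heq, ← h0]
    exact Subgroup.commutator_mono le_sup_left le_sup_right
  · rw [← le_bot_iff, Subgroup.commutator_le]
    intro x hx y hy
    rw [Subgroup.mem_bot, commutatorElement_eq_one_iff_mul_comm]
    exact hcentral x (hder hx) y hy
  · intro g hg
    have hG : E⟨a⟩ ⊔ E⟨b⟩ ≤ G := sup_le (sameActionSubgroup_le ha) (sameActionSubgroup_le hb)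
    have hL : E⟨a⟩ ⊔ E⟨b⟩ ≤ S5061.level F hF 1 := by
      refine sup_le ((Subgroup.closure_le _).2 fun x hx => ?_) ((Subgroup.closure_le _).2 fun x hx => ?_)
      · obtain ⟨p, hp, rfl⟩ := (class_iff ha).1 hx; exact hlev p hp.dmin.inG.sq (lowA hp)
      · obtain ⟨q, hq, rfl⟩ := (class_iff hb).1 hx; exact hlev q hq.dmin.inG.sq (lowB hq)
    have e1 : fixedSubmodule ⁅E⟨a⟩, E⟨b⟩⁆ = LinearMap.ker z := by
      rw [heq, ← sup_idem (E⟨z⟩), fixed_sup hzD hzD, inf_idem]
    have e2 : commutatorSubmodule ⁅E⟨a⟩, E⟨b⟩⁆ = LinearMap.range z := by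
      rw [heq, ← sup_idem (E⟨z⟩), commutator_sup hzD hzD, sup_idem]
    refine ⟨hG hg, Subgroup.centralizer_le_normalizer _ ?_, fun m => ?_, fun m hm => ?_, fun m hm => ?_⟩
    · rw [heq]; exact hcent hg
    · rw [e1]
      have := hL hg 0 ⟨m, Submodule.mem_top, rfl⟩
      simpa [S5061.dev, F] using this
    · rw [e2]
      rw [e1] at hm
      have := hL hg 1 ⟨m, hm, rfl⟩
      simpa [S5061.dev, F] using this
    · rw [e2] at hm
      have := hL hg 2 ⟨m, hm, rfl⟩
      simpa [S5061.dev, F, sub_eq_zero] using this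

theorem unipotent_cases (hk2 : ringChar k ≠ 2) (hk3 : Nat.card k ≠ 3) (hirr : Reduced G) (ha : Dmin G a)
    (hb : Dmin G b) (hno : ¬ Opp a b) :
    ⁅E⟨a⟩, E⟨b⟩⁆ = ⊥ ∨ ∃ z, CommCase G E⟨a⟩ E⟨b⟩ z := by
  by_cases hz : a * b - b * a = 0
  · exact Or.inl (commute_case hk2 hk3 ha hb hno hz)
  · exact Or.inr ⟨_, bracket_case hk2 hk3 hirr ha hb hno hz⟩

theorem not_opp_of_commute (hk2 : ringChar k ≠ 2) (hk3 : Nat.card k ≠ 3) (ha : Dmin G a) (hb : Dmin G b)
    {p q : Module.End k M} (hp : SameClass G a p) (hq : SameClass G b q) (h : ex p * ex q = ex q * ex p) :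
    ¬ Opp a b ∧ a * b - b * a = 0 := by
  have e : p * q = q * p := by
    have := congrArg (fun g : LinearMap.GeneralLinearGroup k M => (g : Module.End k M)) h
    simp only [Units.val_mul, coe_ex hp.dmin.inG.sq, coe_ex hq.dmin.inG.sq, mul_add, add_mul, one_mul, mul_one] at this
    have h2 : (1 + p + q) + p * q = (1 + p + q) + q * p := by
      rw [show (1 + p + q) + p * q = 1 + p + (q + p * q) by abel, show (1 + p + q) + q * p = 1 + q + (p + q * p) by abel]
      simpa [add_assoc] using this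
    exact add_left_cancel h2
  have hno : ¬ Opp p q := fun ho => ho ⟨2, by
    rw [pow_two]; conv_lhs => enter [2]; rw [e]
    rw [mul_assoc, ← mul_assoc q, hq.dmin.inG.sq, zero_mul, mul_zero]⟩
  have hno' : ¬ Opp a b := fun ho => hno (ho.of_class hk2 hk3 ha hb hp hq)
  refine ⟨hno', by_contra fun hz => ?_⟩
  obtain ⟨h1, h2⟩ := unipotent_pair hk2 ha hb hno'
  obtain ⟨h3, h4⟩ := unipotent_pair hk2 hp.dmin hq.dmin hno
  exact (bracket_class ha hb h1 h2 hz hp hq h3 h4).1 (sub_eq_zero.2 e)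

theorem no_normalizer (hk2 : ringChar k ≠ 2) (hk3 : Nat.card k ≠ 3) (ha : Dmin G a) (hb : Dmin G b)
    (h : E⟨a⟩ ⊓ Subgroup.normalizer (E⟨b⟩ : Set (LinearMap.GeneralLinearGroup k M)) ≠ ⊥) :
    ¬ Opp a b ∧ a * b - b * a = 0 := by
  obtain ⟨⟨g, hg⟩, hg0⟩ := Subgroup.ne_bot_iff_exists_ne_one.1 h
  obtain ⟨hgA, hgN⟩ := Subgroup.mem_inf.1 hg
  have hg1 : g ≠ 1 := fun e => hg0 (Subtype.ext e)
  have hno : ¬ Opp a b := fun ho => hg1 (by
    have := RankOne.inf_normalizer_eq_bot (rankOne_pair hk2 hk3 ha hb ho)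
    rw [← Subgroup.mem_bot, ← this]
    exact ⟨hgA, hgN⟩)
  refine ⟨hno, by_contra fun hz => ?_⟩
  obtain ⟨p, hp, rfl⟩ := (mem_sameActionSubgroup ha).1 hgA
  rcases hp with rfl | hp
  · exact hg1 ex_zero
  obtain ⟨hab, hba⟩ := unipotent_pair hk2 ha hb hno
  obtain ⟨hpb, hbp⟩ := unipotent_pair hk2 hp.dmin hb (not_opp_of_class hk2 hk3 ha hb hno hp (SameClass.refl hb))
  have hz' := (bracket_class ha hb hab hba hz hp (SameClass.refl hb) hpb hbp)
  set w := p * b - b * p
  have hcj : cj (ex p) b = b + w := by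
    rw [cj_ex hp.dmin.inG.sq, mul_sub, mul_one, add_mul, one_mul, add_mul, hpb, add_zero]
    simp only [w]; abel
  have hmemB : ex (cj (ex p) b) ∈ E⟨b⟩ := by
    rw [← conj_ex _ hb.inG.sq]
    exact (Subgroup.mem_normalizer_iff.1 hgN _).1 (ex_mem_sameActionSubgroup hb (SameClass.refl hb))
  obtain ⟨r, hr, hre⟩ := (mem_sameActionSubgroup hb).1 hmemB
  have hcl : SameClass G b w := by
    rcases hr with rfl | hr
    · exact absurd ((cj_eq_zero _ _).1 (ex_inj (hb.inG.conj hp.dmin.inG.ex_mem).sq (by simp) hre)) hb.ne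
    have e := ex_inj (hb.inG.conj hp.dmin.inG.ex_mem).sq hr.dmin.inG.sq hre
    rw [hcj] at e
    have hw : w = r + (-1 : k) • b := by rw [← e, neg_one_smul]; abel
    rw [hw]
    exact hr.add hb ((SameClass.refl hb).smul (neg_ne_zero.2 one_ne_zero)) (by rw [← hw]; exact hz'.1)
  have f := bracket_facts hp.dmin hb hpb hbp hz'.1
  have hd := f.range
  rw [hcl.range] at hd
  have hk := f.ker
  rw [hcl.ker] at hk
  have hP : LinearMap.range p ⊓ LinearMap.ker b = ⊥ := by
    refine le_bot_iff.1 (f.disjoint ▸ le_inf le_rfl (le_inf ?_ (inf_le_left.trans (range_le_ker hp.dmin.inG.sq))))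
    rw [hd]; exact le_sup_left
  have h1 : LinearMap.range b ≤ LinearMap.ker p := by
    rw [hd, hP, bot_sup_eq]; exact inf_le_right
  have h2 : LinearMap.range p ≤ LinearMap.ker b := by
    rw [hk]; exact le_inf le_sup_right (le_sup_of_le_left (range_le_ker hp.dmin.inG.sq))
  refine hz'.1 ?_
  show p * b - b * p = 0
  rw [show p * b = 0 from LinearMap.range_le_ker_iff.1 h1, show b * p = 0 from LinearMap.range_le_ker_iff.1 h2,
    sub_zero]

theorem der_mono {X : Type*} [Group X] {K K' : Subgroup X} (h : K ≤ K') : ∀ n, der K n ≤ der K' n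
  | 0 => by rw [der_zero, der_zero]; exact h
  | n + 1 => by rw [der_succ, der_succ]; exact Subgroup.commutator_mono (der_mono h n) (der_mono h n)

/-- A nilpotent group of class two contains no opposite pair. -/
theorem not_opp_of_class_two (hk2 : ringChar k ≠ 2) (hk3 : Nat.card k ≠ 3) (ha : Dmin G a) (hb : Dmin G b)
    (h : ⁅⁅E⟨a⟩ ⊔ E⟨b⟩, E⟨a⟩ ⊔ E⟨b⟩⁆, E⟨a⟩ ⊔ E⟨b⟩⁆ = ⊥) : ¬ Opp a b := by
  intro ho
  obtain ⟨L, _, _, ⟨c⟩⟩ := exists_model hk2 hk3 ha hb ho
  have hle : c.rho.range ≤ E⟨a⟩ ⊔ E⟨b⟩ := by rintro _ ⟨g, rfl⟩; exact c.rho_mem_sup ha hb g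
  have h1 := (QuadPair.elem_mem_derived (k := k) hk2 hk3 (X := (⊤ : Subgroup SL(2, L))) (fun _ => trivial)
    (fun _ => trivial) 2 (1 : L)).1
  have h2 : upR (1 : L) ∈ der (⊤ : Subgroup SL(2, L)) 2 := ⟨_, h1, rfl⟩
  have h3 : c.rho (upR 1) ∈ der c.rho.range 2 := by
    rw [MonoidHom.range_eq_map, der_map]; exact Subgroup.mem_map_of_mem _ h2
  have h4 := der_mono hle 2 h3
  rw [show der (E⟨a⟩ ⊔ E⟨b⟩) 2 = der (E⟨a⟩ ⊔ E⟨b⟩) (0 + 1 + 1) from rfl, der_succ, der_succ, der_zero] at h4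
  have h5 : c.rho (upR 1) = 1 := by
    rw [← Subgroup.mem_bot, ← h]
    refine Subgroup.commutator_mono le_rfl ?_ h4
    exact Subgroup.commutator_le_self _
  have h6 := congrArg (fun g : SL(2, L) => g.1 0 1) (c.rho_injective (h5.trans (map_one _).symm))
  simp [coe_upR] at h6

end Cfsg.Agent.QuadRoot
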