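import Mathlib
import Cfsg.Prelude.Def_RootSubgroups
import Cfsg.Agent.EqLemmas

/-!
Square zero endomorphisms and the quadratic elements of a linear group.
* `ex a` : the automorphism `1 + a` for `a * a = 0`
* `InG G a` : `a * a = 0` and all `ex (c • a)` lie in `G`; `Dmin G a` : moreover `a ≠ 0` of least rank
* `quadratic_iff`, `minimal_iff`, `class_iff` : translation of the predicates of the prelude
-/

set_option autoImplicit false
set_option linter.unusedSectionVars false

namespace Cfsg.Agent.QuadRoot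

open Cfsg Module

variable {k : Type*} [Field k] {M : Type*} [AddCommGroup M] [Module k M]

open Classical in
/-- The automorphism `1 + a`, for `a * a = 0`. -/
noncomputable def ex (a : Module.End k M) : LinearMap.GeneralLinearGroup k M :=
  if h : a * a = 0 then
    ⟨1 + a, 1 - a, by simp [mul_sub, add_mul, h], by simp [mul_add, sub_mul, h]⟩
  else 1

theorem coe_ex {a : Module.End k M} (h : a * a = 0) : (ex a : Module.End k M) = 1 + a := by
  rw [ex, dif_pos h]

theorem coe_sub_ex {a : Module.End k M} (h : a * a = 0) : (ex a : Module.End k M) - 1 = a := by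
  rw [coe_ex h, add_sub_cancel_left]

theorem ex_zero : ex (0 : Module.End k M) = 1 := Units.ext (by rw [coe_ex (by simp), add_zero, Units.val_one])

theorem ex_inj {a b : Module.End k M} (ha : a * a = 0) (hb : b * b = 0) (h : ex a = ex b) : a = b := by
  rw [← coe_sub_ex ha, h, coe_sub_ex hb]

theorem smul_sq {a : Module.End k M} (h : a * a = 0) (c d : k) : (c • a) * (d • a) = 0 := by
  rw [smul_mul_smul_comm, h, smul_zero]

theorem neg_sq' {a : Module.End k M} (h : a * a = 0) : (-a) * (-a) = 0 := by simp [h]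

theorem add_sq' {a b : Module.End k M} (ha : a * a = 0) (hb : b * b = 0) (hab : a * b = 0) (hba : b * a = 0) :
    (a + b) * (a + b) = 0 := by simp [add_mul, mul_add, ha, hb, hab, hba]

theorem ex_add {a b : Module.End k M} (ha : a * a = 0) (hb : b * b = 0) (hab : a * b = 0) (hba : b * a = 0) :
    ex (a + b) = ex a * ex b :=
  Units.ext (by
    rw [coe_ex (add_sq' ha hb hab hba), Units.val_mul, coe_ex ha, coe_ex hb]
    simp [add_mul, mul_add, hab]
    abel)

theorem ex_add_smul {a : Module.End k M} (h : a * a = 0) (c d : k) :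
    ex ((c + d) • a) = ex (c • a) * ex (d • a) := by
  rw [add_smul, ex_add (smul_sq h c c) (smul_sq h d d) (smul_sq h c d) (smul_sq h d c)]

theorem ex_inv {a : Module.End k M} (h : a * a = 0) : (ex a)⁻¹ = ex (-a) := by
  refine inv_eq_of_mul_eq_one_right ?_
  rw [← ex_add h (neg_sq' h) (by simp [h]) (by simp [h]), add_neg_cancel, ex_zero]

/-- The conjugate `g a g⁻¹` of an endomorphism. -/
def cj (g : LinearMap.GeneralLinearGroup k M) (a : Module.End k M) : Module.End k M :=
  (g : Module.End k M) * a * ((g⁻¹ : LinearMap.GeneralLinearGroup k M) : Module.End k M)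

variable (g h : LinearMap.GeneralLinearGroup k M) (a b : Module.End k M)

theorem cj_mul : cj g (a * b) = cj g a * cj g b := by
  simp only [cj, mul_assoc]; rw [← mul_assoc _ (g : Module.End k M), ← Units.val_mul, inv_mul_cancel,
    Units.val_one, one_mul]

theorem cj_add : cj g (a + b) = cj g a + cj g b := by simp [cj, mul_add, add_mul]

theorem cj_sub : cj g (a - b) = cj g a - cj g b := by simp [cj, mul_sub, sub_mul]

theorem cj_smul (c : k) : cj g (c • a) = c • cj g a := by simp [cj]

theorem cj_zero : cj g (0 : Module.End k M) = 0 := by simp [cj]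

theorem cj_one : cj g (1 : Module.End k M) = 1 := by simp [cj]

theorem cj_cj : cj g (cj h a) = cj (g * h) a := by simp [cj, mul_assoc, mul_inv_rev]

theorem cj_inv_cj : cj g⁻¹ (cj g a) = a := by rw [cj_cj, inv_mul_cancel]; simp [cj]

theorem cj_pow (n : ℕ) : cj g (a ^ n) = cj g a ^ n := by
  induction n with
  | zero => simp [cj_one]
  | succ n ih => rw [pow_succ, cj_mul, ih, pow_succ]

theorem cj_eq_zero : cj g a = 0 ↔ a = 0 :=
  ⟨fun e => by rw [← cj_inv_cj g a, e, cj_zero], fun e => e ▸ cj_zero g⟩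

theorem range_cj : LinearMap.range (cj g a) = (LinearMap.range a).map (g : Module.End k M) := by
  have hs : LinearMap.range ((g⁻¹ : LinearMap.GeneralLinearGroup k M) : Module.End k M) = ⊤ :=
    LinearMap.range_eq_top.2 (LinearMap.GeneralLinearGroup.toLinearEquiv g⁻¹).surjective
  rw [cj, Module.End.mul_eq_comp, LinearMap.range_comp, hs, Submodule.map_top, Module.End.mul_eq_comp,
    LinearMap.range_comp]

theorem ker_cj : LinearMap.ker (cj g a) =
    (LinearMap.ker a).comap ((g⁻¹ : LinearMap.GeneralLinearGroup k M) : Module.End k M) := by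
  ext v
  simp only [cj, LinearMap.mem_ker, Module.End.mul_apply, Submodule.mem_comap]
  exact (LinearMap.GeneralLinearGroup.toLinearEquiv g).map_eq_zero_iff

theorem finrank_range_cj : finrank k (LinearMap.range (cj g a)) = finrank k (LinearMap.range a) := by
  rw [range_cj]
  exact (Submodule.equivMapOfInjective (g : Module.End k M)
    (LinearMap.GeneralLinearGroup.toLinearEquiv g).injective (LinearMap.range a)).finrank_eq.symm

theorem conj_ex {a : Module.End k M} (h : a * a = 0) : g * ex a * g⁻¹ = ex (cj g a) := by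
  refine Units.ext ?_
  rw [Units.val_mul, Units.val_mul, coe_ex h, coe_ex (by rw [← cj_mul, h, cj_zero]), mul_add, add_mul, mul_one,
    ← Units.val_mul, mul_inv_cancel, Units.val_one, cj]

section Group

variable {G : Subgroup (LinearMap.GeneralLinearGroup k M)} {g}

/-- `a * a = 0` and all the `1 + c a` lie in `G`. -/
structure InG (G : Subgroup (LinearMap.GeneralLinearGroup k M)) (a : Module.End k M) : Prop where
  sq : a * a = 0
  mem : ∀ c : k, ex (c • a) ∈ G

theorem InG.ex_mem {a : Module.End k M} (h : InG G a) : ex a ∈ G := by simpa using h.mem 1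

theorem InG.zero : InG G (0 : Module.End k M) := ⟨by simp, fun c => by rw [smul_zero, ex_zero]; exact one_mem _⟩

theorem InG.smul {a : Module.End k M} (h : InG G a) (c : k) : InG G (c • a) :=
  ⟨smul_sq h.sq c c, fun d => by rw [smul_smul]; exact h.mem _⟩

theorem InG.neg {a : Module.End k M} (h : InG G a) : InG G (-a) := neg_one_smul k a ▸ h.smul (-1)

theorem InG.conj {a : Module.End k M} (h : InG G a) (hg : g ∈ G) : InG G (cj g a) :=
  ⟨by rw [← cj_mul, h.sq, cj_zero], fun c => by
    rw [← cj_smul, ← conj_ex g (smul_sq h.sq c c)]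
    exact mul_mem (mul_mem hg (h.mem c)) (inv_mem hg)⟩

theorem InG.add {a b : Module.End k M} (ha : InG G a) (hb : InG G b) (hab : a * b = 0) (hba : b * a = 0) :
    InG G (a + b) :=
  ⟨add_sq' ha.sq hb.sq hab hba, fun c => by
    rw [smul_add, ex_add (smul_sq ha.sq c c) (smul_sq hb.sq c c)
      (by rw [smul_mul_smul_comm, hab, smul_zero]) (by rw [smul_mul_smul_comm, hba, smul_zero])]
    exact mul_mem (ha.mem c) (hb.mem c)⟩

/-- A non-zero member of least rank. -/
structure Dmin (G : Subgroup (LinearMap.GeneralLinearGroup k M)) (a : Module.End k M) : Prop where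
  inG : InG G a
  ne : a ≠ 0
  min : ∀ b, InG G b → b ≠ 0 → finrank k (LinearMap.range a) ≤ finrank k (LinearMap.range b)

theorem Dmin.conj {a : Module.End k M} (h : Dmin G a) (hg : g ∈ G) : Dmin G (cj g a) :=
  ⟨h.inG.conj hg, fun e => h.ne ((cj_eq_zero g a).1 e), fun b hb hb0 => by
    rw [finrank_range_cj]; exact h.min b hb hb0⟩

theorem Dmin.smul {a : Module.End k M} (h : Dmin G a) {c : k} (hc : c ≠ 0) : Dmin G (c • a) :=
  ⟨h.inG.smul c, smul_ne_zero hc h.ne, fun b hb hb0 => by
    rw [LinearMap.range_smul _ _ hc]; exact h.min b hb hb0⟩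

theorem Dmin.rank_eq {a b : Module.End k M} (ha : Dmin G a) (hb : Dmin G b) :
    finrank k (LinearMap.range a) = finrank k (LinearMap.range b) :=
  le_antisymm (ha.min b hb.inG hb.ne) (hb.min a ha.inG ha.ne)

theorem Dmin.of_rank_le [FiniteDimensional k M] {a b : Module.End k M} (ha : Dmin G a) (hb : InG G b)
    (hb0 : b ≠ 0) (h : finrank k (LinearMap.range b) ≤ finrank k (LinearMap.range a)) : Dmin G b :=
  ⟨hb, hb0, fun c hc hc0 => h.trans (ha.min c hc hc0)⟩

theorem quadratic_iff {σ : LinearMap.GeneralLinearGroup k M} :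
    σ ∈ quadraticElements G ↔ ∃ a, InG G a ∧ a ≠ 0 ∧ σ = ex a := by
  constructor
  · rintro ⟨-, ⟨hsq, hne⟩, hfam⟩
    refine ⟨(σ : Module.End k M) - 1, ⟨hsq, fun c => hfam ⟨c, coe_ex (smul_sq hsq c c)⟩⟩, hne, ?_⟩
    exact Units.ext (by rw [coe_ex hsq, add_sub_cancel])
  · rintro ⟨a, ha, ha0, rfl⟩
    refine ⟨ha.ex_mem, ⟨?_, ?_⟩, ?_⟩
    · rw [coe_sub_ex ha.sq]; exact ha.sq
    · rw [coe_sub_ex ha.sq]; exact ha0
    · rintro τ ⟨c, hc⟩
      rw [coe_sub_ex ha.sq] at hc
      rw [show τ = ex (c • a) from Units.ext (hc.trans (coe_ex (smul_sq ha.sq c c)).symm)]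
      exact ha.mem c

theorem commutatorRank_ex {a : Module.End k M} (h : a * a = 0) :
    commutatorRank (ex a) = finrank k (LinearMap.range a) := by
  rw [commutatorRank, coe_sub_ex h]

theorem minimal_iff {σ : LinearMap.GeneralLinearGroup k M} :
    σ ∈ minimalQuadraticElements G ↔ ∃ a, Dmin G a ∧ σ = ex a := by
  constructor
  · rintro ⟨hq, hmin⟩
    obtain ⟨a, ha, ha0, rfl⟩ := quadratic_iff.1 hq
    refine ⟨a, ⟨ha, ha0, fun b hb hb0 => ?_⟩, rfl⟩
    have := hmin (ex b) (quadratic_iff.2 ⟨b, hb, hb0, rfl⟩)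
    rwa [commutatorRank_ex ha.sq, commutatorRank_ex hb.sq] at this
  · rintro ⟨a, ha, rfl⟩
    refine ⟨quadratic_iff.2 ⟨a, ha.inG, ha.ne, rfl⟩, fun τ hτ => ?_⟩
    obtain ⟨b, hb, hb0, rfl⟩ := quadratic_iff.1 hτ
    rw [commutatorRank_ex ha.inG.sq, commutatorRank_ex hb.sq]
    exact ha.min b hb hb0

/-- `b` is of least rank with the kernel and range of `a`. -/
structure SameClass (G : Subgroup (LinearMap.GeneralLinearGroup k M)) (a b : Module.End k M) : Prop where
  dmin : Dmin G b
  ker : LinearMap.ker b = LinearMap.ker a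
  range : LinearMap.range b = LinearMap.range a

theorem SameClass.refl {a : Module.End k M} (h : Dmin G a) : SameClass G a a := ⟨h, rfl, rfl⟩

theorem class_iff {a : Module.End k M} (ha : Dmin G a) {τ : LinearMap.GeneralLinearGroup k M} :
    τ ∈ sameActionClass G (ex a) ↔ ∃ b, SameClass G a b ∧ τ = ex b := by
  constructor
  · rintro ⟨hm, hk, hr⟩
    obtain ⟨b, hb, rfl⟩ := minimal_iff.1 hm
    rw [coe_sub_ex ha.inG.sq, coe_sub_ex hb.inG.sq] at hk hr
    exact ⟨b, ⟨hb, hk, hr⟩, rfl⟩
  · rintro ⟨b, ⟨hb, hk, hr⟩, rfl⟩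
    refine ⟨minimal_iff.2 ⟨b, hb, rfl⟩, ?_, ?_⟩
    · rw [coe_sub_ex ha.inG.sq, coe_sub_ex hb.inG.sq]; exact hk
    · rw [coe_sub_ex ha.inG.sq, coe_sub_ex hb.inG.sq]; exact hr

theorem SameClass.smul {a b : Module.End k M} (h : SameClass G a b) {c : k} (hc : c ≠ 0) :
    SameClass G a (c • b) :=
  ⟨h.dmin.smul hc, by rw [LinearMap.ker_smul _ _ hc]; exact h.ker, by
    rw [LinearMap.range_smul _ _ hc]; exact h.range⟩

theorem SameClass.mul_eq_zero {a b c : Module.End k M} (ha : a * a = 0) (hb : SameClass G a b)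
    (hc : SameClass G a c) : b * c = 0 := by
  refine LinearMap.ext fun v => ?_
  have hv : c v ∈ LinearMap.range a := hc.range ▸ LinearMap.mem_range_self c v
  obtain ⟨w, hw⟩ := hv
  show b (c v) = 0
  rw [← LinearMap.mem_ker, hb.ker, ← hw, LinearMap.mem_ker]
  exact LinearMap.congr_fun ha w

theorem SameClass.add [FiniteDimensional k M] {a b c : Module.End k M} (ha : Dmin G a) (hb : SameClass G a b)
    (hc : SameClass G a c) (h0 : b + c ≠ 0) : SameClass G a (b + c) := by
  have hd : InG G (b + c) := hb.dmin.inG.add hc.dmin.inG (SameClass.mul_eq_zero ha.inG.sq hb hc)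
    (SameClass.mul_eq_zero ha.inG.sq hc hb)
  have hr : LinearMap.range (b + c) ≤ LinearMap.range a := by
    rintro _ ⟨v, rfl⟩
    rw [LinearMap.add_apply]
    exact add_mem (hb.range ▸ LinearMap.mem_range_self b v) (hc.range ▸ LinearMap.mem_range_self c v)
  have hm := ha.of_rank_le hd h0 (Submodule.finrank_mono hr)
  have hr' : LinearMap.range (b + c) = LinearMap.range a :=
    Submodule.eq_of_le_of_finrank_le hr (hm.rank_eq ha).ge
  refine ⟨hm, ?_, hr'⟩
  refine (Submodule.eq_of_le_of_finrank_eq ?_ ?_).symm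
  · intro v hv
    have h1 : v ∈ LinearMap.ker b := hb.ker ▸ hv
    have h2 : v ∈ LinearMap.ker c := hc.ker ▸ hv
    rw [LinearMap.mem_ker] at h1 h2 ⊢
    rw [LinearMap.add_apply, h1, h2, add_zero]
  · have e1 := LinearMap.finrank_range_add_finrank_ker (b + c)
    have e2 := LinearMap.finrank_range_add_finrank_ker a
    rw [hr'] at e1
    omega

/-- The subgroup `E(1 + a)` is `{1 + b : b = 0` or in the class of `a}`. -/
theorem mem_sameActionSubgroup [FiniteDimensional k M] {a : Module.End k M} (ha : Dmin G a)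
    {τ : LinearMap.GeneralLinearGroup k M} :
    τ ∈ sameActionSubgroup G (ex a) ↔ ∃ b, (b = 0 ∨ SameClass G a b) ∧ τ = ex b := by
  have hsq : ∀ b, (b = 0 ∨ SameClass G a b) → b * b = 0 := by
    rintro b (rfl | hb)
    · simp
    · exact hb.dmin.inG.sq
  let E : Subgroup (LinearMap.GeneralLinearGroup k M) :=
    { carrier := {τ | ∃ b, (b = 0 ∨ SameClass G a b) ∧ τ = ex b}
      one_mem' := ⟨0, Or.inl rfl, ex_zero.symm⟩
      mul_mem' := by
        rintro _ _ ⟨b, hb, rfl⟩ ⟨c, hc, rfl⟩
        rcases hb with rfl | hb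
        · exact ⟨c, hc, by rw [ex_zero, one_mul]⟩
        rcases hc with rfl | hc
        · exact ⟨b, Or.inr hb, by rw [ex_zero, mul_one]⟩
        refine ⟨b + c, ?_, (ex_add hb.dmin.inG.sq hc.dmin.inG.sq (SameClass.mul_eq_zero ha.inG.sq hb hc)
          (SameClass.mul_eq_zero ha.inG.sq hc hb)).symm⟩
        exact or_iff_not_imp_left.2 fun h0 => hb.add ha hc h0
      inv_mem' := by
        rintro _ ⟨b, hb, rfl⟩
        refine ⟨-b, ?_, ex_inv (hsq b hb)⟩
        rcases hb with rfl | hb
        · exact Or.inl neg_zero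
        · exact Or.inr (neg_one_smul k b ▸ hb.smul (neg_ne_zero.2 one_ne_zero)) }
  have he : sameActionSubgroup G (ex a) = E := by
    refine le_antisymm ((Subgroup.closure_le _).2 fun x hx => ?_) ?_
    · obtain ⟨b, hb, rfl⟩ := (class_iff ha).1 hx
      exact ⟨b, Or.inr hb, rfl⟩
    · rintro _ ⟨b, hb, rfl⟩
      rcases hb with rfl | hb
      · rw [ex_zero]; exact one_mem _
      · exact Subgroup.subset_closure ((class_iff ha).2 ⟨b, hb, rfl⟩)
  rw [he]
  exact Iff.rfl

theorem ex_mem_sameActionSubgroup {a b : Module.End k M} (ha : Dmin G a) (hb : SameClass G a b) :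
    ex b ∈ sameActionSubgroup G (ex a) :=
  Subgroup.subset_closure ((class_iff ha).2 ⟨b, hb, rfl⟩)

theorem sameActionSubgroup_congr {a b : Module.End k M} (ha : Dmin G a) (hb : SameClass G a b) :
    sameActionSubgroup G (ex b) = sameActionSubgroup G (ex a) := by
  unfold sameActionSubgroup; congr 1
  ext τ
  rw [class_iff hb.dmin, class_iff ha]
  exact exists_congr fun c => and_congr_left' ⟨fun h => ⟨h.dmin, h.ker.trans hb.ker, h.range.trans hb.range⟩,
    fun h => ⟨h.dmin, h.ker.trans hb.ker.symm, h.range.trans hb.range.symm⟩⟩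

theorem mem_quadraticRootSubgroups {A : Subgroup (LinearMap.GeneralLinearGroup k M)} :
    A ∈ quadraticRootSubgroups G ↔ ∃ a, Dmin G a ∧ A = sameActionSubgroup G (ex a) := by
  constructor
  · rintro ⟨σ, hσ, rfl⟩
    obtain ⟨a, ha, rfl⟩ := minimal_iff.1 hσ
    exact ⟨a, ha, rfl⟩
  · rintro ⟨a, ha, rfl⟩
    exact ⟨_, minimal_iff.2 ⟨a, ha, rfl⟩, rfl⟩

theorem conjBy_sameActionSubgroup [FiniteDimensional k M] {a : Module.End k M} (ha : Dmin G a)
    {g : LinearMap.GeneralLinearGroup k M} (hg : g ∈ G) :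
    conjBy (sameActionSubgroup G (ex a)) g = sameActionSubgroup G (ex (cj g a)) := by
  have key : ∀ (g : LinearMap.GeneralLinearGroup k M), g ∈ G → ∀ a, Dmin G a →
      conjBy (sameActionSubgroup G (ex a)) g ≤ sameActionSubgroup G (ex (cj g a)) := by
    intro g hg a ha
    rintro _ ⟨τ, hτ, rfl⟩
    obtain ⟨b, hb, rfl⟩ := (mem_sameActionSubgroup ha).1 hτ
    show g * ex b * g⁻¹ ∈ _
    rcases hb with rfl | hb
    · rw [ex_zero, mul_one, mul_inv_cancel]; exact one_mem _
    · rw [conj_ex g hb.dmin.inG.sq]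
      exact ex_mem_sameActionSubgroup (ha.conj hg) ⟨hb.dmin.conj hg,
        by rw [ker_cj, ker_cj, hb.ker], by rw [range_cj, range_cj, hb.range]⟩
  refine le_antisymm (key g hg a ha) ?_
  have h := Subgroup.map_mono (f := (MulAut.conj g).toMonoidHom) (key g⁻¹ (inv_mem hg) _ (ha.conj hg))
  rw [cj_inv_cj] at h
  refine le_trans ?_ h
  intro x hx
  exact ⟨g⁻¹ * x * g, ⟨x, hx, by simp⟩, by simp [mul_assoc]⟩

theorem Dmin.exists_of_ne_bot [FiniteDimensional k M] (h : ∃ b, InG G b ∧ b ≠ 0) : ∃ a, Dmin G a := by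
  classical
  obtain ⟨b, hb, hb0⟩ := h
  have hex : ∃ n, ∃ a, InG G a ∧ a ≠ 0 ∧ finrank k (LinearMap.range a) = n := ⟨_, b, hb, hb0, rfl⟩
  obtain ⟨a, ha, ha0, hn⟩ := Nat.find_spec hex
  exact ⟨a, ha, ha0, fun c hc hc0 => hn ▸ Nat.find_min' hex ⟨c, hc, hc0, rfl⟩⟩

end Group

end Cfsg.Agent.QuadRoot
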