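import Cfsg.Agent.Lib.QuadRoot.Model
import Cfsg.Agent.Lib.RankOne.Basic

/-!
The subgroups `E(1 + a) = sameActionSubgroup G (ex a)` for minimal `a`.
* `Model.up_class`, `Model.lo_class`, `Model.T_one_of_class` : one projection for all pairs from two classes
* `unipotent_sup` / `not_unipotent_sup` : `E(1+a) ⊔ E(1+b)` is unipotent iff `¬ Opp a b`
* `special_pair` : an opposite pair is a special rank one pair
* `fixed_sup`, `commutator_sup`, `exists_involution`
-/

set_option autoImplicit false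
set_option linter.unusedSectionVars false

namespace Cfsg.Agent.QuadRoot

open Cfsg Module
open Cfsg.Agent.QuadPair (upR loR genPairR coe_upR coe_loR)
open scoped MatrixGroups

universe u v

variable {k : Type u} [Field k] {M : Type v} [AddCommGroup M] [Module k M] [FiniteDimensional k M]
  {G : Subgroup (LinearMap.GeneralLinearGroup k M)} {a b : Module.End k M}

local notation "E⟨" a "⟩" => sameActionSubgroup G (ex a)

theorem range_le_ker (h : a * a = 0) : LinearMap.range a ≤ LinearMap.ker a := LinearMap.range_le_ker_iff.2 h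

theorem sameActionSubgroup_le (ha : Dmin G a) : E⟨a⟩ ≤ G :=
  (Subgroup.closure_le _).2 fun _ hx => by obtain ⟨c, hc, rfl⟩ := (class_iff ha).1 hx; exact hc.dmin.inG.ex_mem

theorem sameActionSubgroup_ne_bot (ha : Dmin G a) : E⟨a⟩ ≠ ⊥ := fun h => ha.ne (by
  have := ex_mem_sameActionSubgroup ha (SameClass.refl ha)
  rw [h, Subgroup.mem_bot, ← ex_zero] at this
  exact ex_inj ha.inG.sq (by simp) this)

theorem sameActionSubgroup_comm (ha : Dmin G a) : IsMulCommutative E⟨a⟩ := by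
  refine ⟨⟨fun ⟨x, hx⟩ ⟨y, hy⟩ => Subtype.ext ?_⟩⟩
  show x * y = y * x
  obtain ⟨p, hp, rfl⟩ := (mem_sameActionSubgroup ha).1 hx
  obtain ⟨q, hq, rfl⟩ := (mem_sameActionSubgroup ha).1 hy
  rcases hp with rfl | hp
  · simp [ex_zero]
  rcases hq with rfl | hq
  · simp [ex_zero]
  have h1 := SameClass.mul_eq_zero ha.inG.sq hp hq
  have h2 := SameClass.mul_eq_zero ha.inG.sq hq hp
  rw [← ex_add hp.dmin.inG.sq hq.dmin.inG.sq h1 h2, ← ex_add hq.dmin.inG.sq hp.dmin.inG.sq h2 h1, add_comm]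

/-- Members of one subgroup: the kernel and range are those of `a`, or the member is trivial. -/
theorem mem_class_le (ha : Dmin G a) {g : LinearMap.GeneralLinearGroup k M} (hg : g ∈ E⟨a⟩) :
    LinearMap.range ((g : Module.End k M) - 1) ≤ LinearMap.range a ∧
      LinearMap.ker a ≤ LinearMap.ker ((g : Module.End k M) - 1) := by
  obtain ⟨p, hp, rfl⟩ := (mem_sameActionSubgroup ha).1 hg
  rcases hp with rfl | hp
  · simp [ex_zero]
  · rw [coe_sub_ex hp.dmin.inG.sq]; exact ⟨hp.range.le, hp.ker.ge⟩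

theorem commutator_sup (ha : Dmin G a) (hb : Dmin G b) :
    commutatorSubmodule (E⟨a⟩ ⊔ E⟨b⟩) = LinearMap.range a ⊔ LinearMap.range b := by
  refine le_antisymm ?_ (sup_le ?_ ?_)
  · let S : Subgroup (LinearMap.GeneralLinearGroup k M) :=
      { carrier := {g | LinearMap.range ((g : Module.End k M) - 1) ≤ LinearMap.range a ⊔ LinearMap.range b}
        one_mem' := by simp
        mul_mem' := fun {g h} hg hh => by
          rintro _ ⟨v, rfl⟩
          have e : (((g * h : LinearMap.GeneralLinearGroup k M)) : Module.End k M) - 1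
              = ((g : Module.End k M) - 1) * h + ((h : Module.End k M) - 1) := by simp [sub_mul]
          rw [e, LinearMap.add_apply]
          exact add_mem (hg ⟨_, rfl⟩) (hh ⟨v, rfl⟩)
        inv_mem' := fun {g} hg => by
          rintro _ ⟨v, rfl⟩
          have e : ((g⁻¹ : LinearMap.GeneralLinearGroup k M) : Module.End k M) - 1
              = - (((g : Module.End k M) - 1) * ((g⁻¹ : LinearMap.GeneralLinearGroup k M) : Module.End k M)) := by
            simp [sub_mul]
          rw [e, LinearMap.neg_apply]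
          exact neg_mem (hg ⟨_, rfl⟩) }
    have hle : E⟨a⟩ ⊔ E⟨b⟩ ≤ S := sup_le (fun g hg => (mem_class_le ha hg).1.trans le_sup_left)
      (fun g hg => (mem_class_le hb hg).1.trans le_sup_right)
    exact iSup₂_le fun g hg => hle hg
  · exact le_iSup₂_of_le (ex a) (Subgroup.mem_sup_left (ex_mem_sameActionSubgroup ha (SameClass.refl ha)))
      (by rw [coe_sub_ex ha.inG.sq])
  · exact le_iSup₂_of_le (ex b) (Subgroup.mem_sup_right (ex_mem_sameActionSubgroup hb (SameClass.refl hb)))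
      (by rw [coe_sub_ex hb.inG.sq])

theorem fixed_sup (ha : Dmin G a) (hb : Dmin G b) :
    fixedSubmodule (E⟨a⟩ ⊔ E⟨b⟩) = LinearMap.ker a ⊓ LinearMap.ker b := by
  refine le_antisymm (le_inf ?_ ?_) ?_
  · exact iInf₂_le_of_le (ex a) (Subgroup.mem_sup_left (ex_mem_sameActionSubgroup ha (SameClass.refl ha)))
      (by rw [coe_sub_ex ha.inG.sq])
  · exact iInf₂_le_of_le (ex b) (Subgroup.mem_sup_right (ex_mem_sameActionSubgroup hb (SameClass.refl hb)))
      (by rw [coe_sub_ex hb.inG.sq])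
  let S : Subgroup (LinearMap.GeneralLinearGroup k M) :=
    { carrier := {g | ∀ v ∈ LinearMap.ker a ⊓ LinearMap.ker b, (g : Module.End k M) v = v}
      one_mem' := fun v _ => by simp
      mul_mem' := fun {g h} hg hh v hv => by rw [Units.val_mul, Module.End.mul_apply, hh v hv, hg v hv]
      inv_mem' := fun {g} hg v hv => by
        conv_lhs => rw [← hg v hv, ← Module.End.mul_apply, ← Units.val_mul, inv_mul_cancel, Units.val_one]
        rfl }
  have hle : E⟨a⟩ ⊔ E⟨b⟩ ≤ S := by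
    refine sup_le (fun g hg v hv => ?_) (fun g hg v hv => ?_)
    · have := (mem_class_le ha hg).2 hv.1
      rwa [LinearMap.mem_ker, LinearMap.sub_apply, sub_eq_zero] at this
    · have := (mem_class_le hb hg).2 hv.2
      rwa [LinearMap.mem_ker, LinearMap.sub_apply, sub_eq_zero] at this
  exact le_iInf₂ fun g hg v hv => by
    rw [LinearMap.mem_ker, LinearMap.sub_apply, sub_eq_zero]; exact hle hg v hv

theorem unipotent_sup (hk2 : ringChar k ≠ 2) (hk3 : Nat.card k ≠ 3) (ha : Dmin G a) (hb : Dmin G b)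
    (h : ¬ Opp a b) : IsUnipotentOn (E⟨a⟩ ⊔ E⟨b⟩) := by
  set P := LinearMap.range a ⊓ LinearMap.ker b
  set Q := LinearMap.range b ⊓ LinearMap.ker a
  let F : ℕ → Submodule k M := fun i =>
    match i with
    | 0 => ⊤
    | 1 => LinearMap.range a ⊔ LinearMap.range b
    | 2 => P ⊔ Q
    | _ + 3 => ⊥
  have hF : S5061.IsFlag F := by
    refine ⟨antitone_nat_of_succ_le fun i => ?_, rfl, 3, rfl⟩
    match i with
    | 0 => exact le_top
    | 1 => exact sup_le_sup inf_le_left inf_le_left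
    | _ + 2 => exact bot_le
  have key : ∀ p : Module.End k M, p * p = 0 → LinearMap.range p ≤ LinearMap.range a ⊔ LinearMap.range b →
      (LinearMap.range a ⊔ LinearMap.range b).map p ≤ P ⊔ Q → (P ⊔ Q).map p = ⊥ →
      ex p ∈ S5061.level F hF 1 := by
    intro p hp h1 h2 h3 i
    rw [show S5061.dev (ex p) = p from coe_sub_ex hp]
    match i with
    | 0 => show (⊤ : Submodule k M).map p ≤ _; rw [Submodule.map_top]; exact h1
    | 1 => exact h2
    | 2 => exact h3.le
    | i + 3 => show (⊥ : Submodule k M).map p ≤ _; rw [Submodule.map_bot]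
  refine S5061.nil_iff_isUnipotentOn.1 ⟨F, hF, (sup_le ?_ ?_ : E⟨a⟩ ⊔ E⟨b⟩ ≤ S5061.level F hF 1)⟩
  · refine (Subgroup.closure_le _).2 fun x hx => ?_
    obtain ⟨p, hp, rfl⟩ := (class_iff ha).1 hx
    have hu := unipotent_pair hk2 hp.dmin hb (not_opp_of_class hk2 hk3 ha hb h hp (SameClass.refl hb))
    refine key p hp.dmin.inG.sq (hp.range.le.trans le_sup_left) ?_ ?_
    · rw [Submodule.map_sup]
      refine sup_le ?_ (le_sup_of_le_left ?_)
      · rw [← hp.range, ← LinearMap.range_comp, ← Module.End.mul_eq_comp, hp.dmin.inG.sq, LinearMap.range_zero]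
        exact bot_le
      · rw [← LinearMap.range_comp, ← Module.End.mul_eq_comp]
        have := range_mul_le hu.2; rwa [hp.range] at this
    · rw [← le_bot_iff, Submodule.map_le_iff_le_comap, Submodule.comap_bot, hp.ker]
      exact sup_le (inf_le_left.trans (range_le_ker ha.inG.sq)) inf_le_right
  · refine (Subgroup.closure_le _).2 fun x hx => ?_
    obtain ⟨p, hp, rfl⟩ := (class_iff hb).1 hx
    have hu := unipotent_pair hk2 ha hp.dmin (not_opp_of_class hk2 hk3 ha hb h (SameClass.refl ha) hp)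
    refine key p hp.dmin.inG.sq (hp.range.le.trans le_sup_right) ?_ ?_
    · rw [Submodule.map_sup]
      refine sup_le (le_sup_of_le_right ?_) ?_
      · rw [← LinearMap.range_comp, ← Module.End.mul_eq_comp]
        have := range_mul_le hu.1; rwa [hp.range] at this
      · rw [← hp.range, ← LinearMap.range_comp, ← Module.End.mul_eq_comp, hp.dmin.inG.sq, LinearMap.range_zero]
        exact bot_le
    · rw [← le_bot_iff, Submodule.map_le_iff_le_comap, Submodule.comap_bot, hp.ker]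
      exact sup_le inf_le_right (inf_le_left.trans (range_le_ker hb.inG.sq))

theorem not_unipotent_sup (ha : Dmin G a) (hb : Dmin G b) (h : Opp a b) : ¬ IsUnipotentOn (E⟨a⟩ ⊔ E⟨b⟩) := by
  intro hu
  obtain ⟨n, hn⟩ := S5061.nil_iff.1 (S5061.nil_iff_isUnipotentOn.2 hu)
  refine h ⟨n, ?_⟩
  have e : ∀ m : ℕ, ∃ l : List (LinearMap.GeneralLinearGroup k M),
      (∀ g ∈ l, g ∈ E⟨a⟩ ⊔ E⟨b⟩) ∧ l.length = 2 * m ∧ (l.map S5061.dev).prod = (a * b) ^ m := by
    intro m
    induction m with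
    | zero => exact ⟨[], by simp, rfl, by simp⟩
    | succ m ih =>
      obtain ⟨l, hl, hlen, hp⟩ := ih
      refine ⟨ex a :: ex b :: l, ?_, by simp [hlen]; omega, ?_⟩
      · intro g hg
        rcases List.mem_cons.1 hg with rfl | hg
        · exact Subgroup.mem_sup_left (ex_mem_sameActionSubgroup ha (SameClass.refl ha))
        rcases List.mem_cons.1 hg with rfl | hg
        · exact Subgroup.mem_sup_right (ex_mem_sameActionSubgroup hb (SameClass.refl hb))
        · exact hl g hg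
      · rw [List.map_cons, List.map_cons, List.prod_cons, List.prod_cons, hp,
          show S5061.dev (ex a) = a from coe_sub_ex ha.inG.sq, show S5061.dev (ex b) = b from coe_sub_ex hb.inG.sq,
          pow_succ', mul_assoc]
  obtain ⟨l, hl, hlen, hp⟩ := e n
  have h1 := hn (l.take n) (fun g hg => hl g (List.mem_of_mem_take hg)) (by simp [hlen]; omega)
  rw [← hp, ← List.take_append_drop n l, List.map_append, List.prod_append]
  rw [show ((l.take n).map S5061.dev).prod = 0 from h1, zero_mul]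

namespace Model

variable {L : Type u} [Field L] [Algebra k L] (c : Model G a b L)

theorem range_T_one : LinearMap.range (c.T 1) = LinearMap.range a ⊔ LinearMap.range b := by
  refine le_antisymm ?_ (sup_le ?_ ?_)
  · have e : c.T 1 = a * c.T !![0, 0; 1, 0] + b * c.T !![0, c.pb.gen⁻¹; 0, 0] := by
      conv_rhs => rw [c.a_mul_T, c.b_mul_T, ← map_add]
      congr 1
      ext i j; fin_cases i <;> fin_cases j <;> simp [mul_inv_cancel₀ c.unit.ne_zero]
    rintro _ ⟨v, rfl⟩
    rw [e, LinearMap.add_apply]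
    exact add_mem (Submodule.mem_sup_left (LinearMap.mem_range_self a _))
      (Submodule.mem_sup_right (LinearMap.mem_range_self b _))
  · conv_lhs => rw [← c.whole_a, c.comm_a.eq]
    exact LinearMap.range_comp_le_range _ _
  · conv_lhs => rw [← c.whole_b, c.comm_b.eq]
    exact LinearMap.range_comp_le_range _ _

theorem ker_T_one : LinearMap.ker (c.T 1) = LinearMap.ker a ⊓ LinearMap.ker b := by
  refine le_antisymm (le_inf ?_ ?_) ?_
  · conv_rhs => rw [← c.whole_a]
    exact LinearMap.ker_le_ker_comp _ _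
  · conv_rhs => rw [← c.whole_b]
    exact LinearMap.ker_le_ker_comp _ _
  · have e : c.T 1 = c.T !![0, 0; 1, 0] * a + c.T !![0, c.pb.gen⁻¹; 0, 0] * b := by
      conv_rhs => rw [c.T_mul_a, c.T_mul_b, ← map_add]
      congr 1
      ext i j; fin_cases i <;> fin_cases j <;> simp [inv_mul_cancel₀ c.unit.ne_zero]
    rintro v ⟨h1, h2⟩
    rw [SetLike.mem_coe, LinearMap.mem_ker] at h1 h2
    rw [LinearMap.mem_ker, e, LinearMap.add_apply, Module.End.mul_apply, Module.End.mul_apply, h1, h2]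
    simp

include c in
theorem isCompl : IsCompl (LinearMap.ker a ⊓ LinearMap.ker b) (LinearMap.range a ⊔ LinearMap.range b) := by
  rw [← c.range_T_one, ← c.ker_T_one]
  refine IsCompl.of_eq ((Submodule.eq_bot_iff _).2 ?_) ((Submodule.eq_top_iff').2 fun v => ?_)
  · rintro _ ⟨h1, w, rfl⟩
    rw [SetLike.mem_coe, LinearMap.mem_ker] at h1
    rw [← c.idem, Module.End.mul_apply, h1]
  · refine Submodule.mem_sup.2 ⟨v - c.T 1 v, ?_, _, LinearMap.mem_range_self _ v, sub_add_cancel _ _⟩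
    rw [LinearMap.mem_ker, map_sub, ← Module.End.mul_apply, c.idem, sub_self]

theorem eq_T_one {e : Module.End k M} (h1 : e * e = e) (h2 : LinearMap.range e = LinearMap.range a ⊔ LinearMap.range b)
    (h3 : LinearMap.ker e = LinearMap.ker a ⊓ LinearMap.ker b) : e = c.T 1 := by
  refine LinearMap.ext fun v => ?_
  obtain ⟨w, hw⟩ : c.T 1 v ∈ LinearMap.range e := by rw [h2, ← c.range_T_one]; exact ⟨v, rfl⟩
  have hk : v - c.T 1 v ∈ LinearMap.ker e := by
    rw [h3, ← c.ker_T_one, LinearMap.mem_ker, map_sub, ← Module.End.mul_apply, c.idem, sub_self]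
  rw [LinearMap.mem_ker, map_sub, sub_eq_zero, ← hw, ← Module.End.mul_apply, h1] at hk
  rw [hk, hw]

theorem T_one_of_class {a' b' : Module.End k M} (ha' : SameClass G a a') (hb' : SameClass G b b') {L' : Type u}
    [Field L'] [Algebra k L'] (c' : Model G a' b' L') : c'.T 1 = c.T 1 :=
  c.eq_T_one c'.idem (by rw [c'.range_T_one, ha'.range, hb'.range]) (by rw [c'.ker_T_one, ha'.ker, hb'.ker])

theorem up_class (ha : Dmin G a) {x : L} (hx : x ≠ 0) : SameClass G a (c.T !![0, x; 0, 0]) := by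
  have hsq : c.T !![0, x; 0, 0] * c.T !![0, x; 0, 0] = 0 := by
    rw [← c.map_mul, show (!![0, x; 0, 0] * !![0, x; 0, 0] : Matrix (Fin 2) (Fin 2) L) = 0 by
      ext i j; fin_cases i <;> fin_cases j <;> simp, map_zero]
  have hG : InG G (c.T !![0, x; 0, 0]) := ⟨hsq, fun t => by
    rw [show ex (t • c.T !![0, x; 0, 0]) = c.rho (upR (t • x)) from Units.ext (by
      rw [coe_ex (smul_sq hsq t t), c.coe_rho_upR, ← map_smul, add_right_inj]; congr 1
      ext i j; fin_cases i <;> fin_cases j <;> simp)]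
    exact c.mem _⟩
  have hne : c.T !![0, x; 0, 0] ≠ 0 := fun h => hx (by simpa using congrFun (congrFun (c.inj _ h) 0) 1)
  have e1 : c.T !![0, x; 0, 0] = a * c.T !![x, 0; 0, x] := by
    rw [c.a_mul_T]; congr 1; ext i j; fin_cases i <;> fin_cases j <;> simp
  have e2 : a = c.T !![x⁻¹, 0; 0, x⁻¹] * c.T !![0, x; 0, 0] := by
    conv_lhs => rw [← c.map_a']
    rw [← c.map_mul]; congr 1; ext i j; fin_cases i <;> fin_cases j <;> simp [inv_mul_cancel₀ hx]
  have hr : LinearMap.range (c.T !![0, x; 0, 0]) ≤ LinearMap.range a := by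
    rw [e1]; exact LinearMap.range_comp_le_range _ _
  have hm := ha.of_rank_le hG hne (Submodule.finrank_mono hr)
  have hr' := Submodule.eq_of_le_of_finrank_le hr (hm.rank_eq ha).ge
  refine ⟨hm, (Submodule.eq_of_le_of_finrank_le ?_ ?_), hr'⟩
  · conv_rhs => rw [e2]
    exact LinearMap.ker_le_ker_comp _ _
  · have k1 := LinearMap.finrank_range_add_finrank_ker a
    have k2 := LinearMap.finrank_range_add_finrank_ker (c.T !![0, x; 0, 0])
    rw [hr'] at k2
    omega

theorem lo_class (hb : Dmin G b) {x : L} (hx : x ≠ 0) : SameClass G b (c.T !![0, 0; x, 0]) := by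
  have hsq : c.T !![0, 0; x, 0] * c.T !![0, 0; x, 0] = 0 := by
    rw [← c.map_mul, show (!![0, 0; x, 0] * !![0, 0; x, 0] : Matrix (Fin 2) (Fin 2) L) = 0 by
      ext i j; fin_cases i <;> fin_cases j <;> simp, map_zero]
  have hG : InG G (c.T !![0, 0; x, 0]) := ⟨hsq, fun t => by
    rw [show ex (t • c.T !![0, 0; x, 0]) = c.rho (loR (t • x)) from Units.ext (by
      rw [coe_ex (smul_sq hsq t t), c.coe_rho_loR, ← map_smul, add_right_inj]; congr 1
      ext i j; fin_cases i <;> fin_cases j <;> simp)]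
    exact c.mem _⟩
  have hne : c.T !![0, 0; x, 0] ≠ 0 := fun h => hx (by simpa using congrFun (congrFun (c.inj _ h) 1) 0)
  have hα := c.unit.ne_zero
  have e1 : c.T !![0, 0; x, 0] = b * c.T !![x * c.pb.gen⁻¹, 0; 0, x * c.pb.gen⁻¹] := by
    rw [c.b_mul_T]; congr 1; ext i j; fin_cases i <;> fin_cases j <;> simp [mul_left_comm, mul_inv_cancel₀ hα]
  have e2 : b = c.T !![c.pb.gen * x⁻¹, 0; 0, c.pb.gen * x⁻¹] * c.T !![0, 0; x, 0] := by
    conv_lhs => rw [← c.map_b']
    rw [← c.map_mul]; congr 1; ext i j; fin_cases i <;> fin_cases j <;> simp [mul_assoc, inv_mul_cancel₀ hx]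
  have hr : LinearMap.range (c.T !![0, 0; x, 0]) ≤ LinearMap.range b := by
    rw [e1]; exact LinearMap.range_comp_le_range _ _
  have hm := hb.of_rank_le hG hne (Submodule.finrank_mono hr)
  have hr' := Submodule.eq_of_le_of_finrank_le hr (hm.rank_eq hb).ge
  refine ⟨hm, (Submodule.eq_of_le_of_finrank_le ?_ ?_), hr'⟩
  · conv_rhs => rw [e2]
    exact LinearMap.ker_le_ker_comp _ _
  · have k1 := LinearMap.finrank_range_add_finrank_ker b
    have k2 := LinearMap.finrank_range_add_finrank_ker (c.T !![0, 0; x, 0])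
    rw [hr'] at k2
    omega

theorem rho_upR_mem (ha : Dmin G a) (x : L) : c.rho (upR x) ∈ E⟨a⟩ := by
  rcases eq_or_ne x 0 with rfl | hx
  · rw [QuadPair.upR_zero, map_one]; exact one_mem _
  · rw [show c.rho (upR x) = ex (c.T !![0, x; 0, 0]) from Units.ext (by
      rw [c.coe_rho_upR, coe_ex (c.up_class ha hx).dmin.inG.sq])]
    exact ex_mem_sameActionSubgroup ha (c.up_class ha hx)

theorem rho_loR_mem (hb : Dmin G b) (x : L) : c.rho (loR x) ∈ E⟨b⟩ := by
  rcases eq_or_ne x 0 with rfl | hx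
  · rw [QuadPair.loR_zero, map_one]; exact one_mem _
  · rw [show c.rho (loR x) = ex (c.T !![0, 0; x, 0]) from Units.ext (by
      rw [c.coe_rho_loR, coe_ex (c.lo_class hb hx).dmin.inG.sq])]
    exact ex_mem_sameActionSubgroup hb (c.lo_class hb hx)

theorem rho_mem_sup (ha : Dmin G a) (hb : Dmin G b) (g : SL(2, L)) : c.rho g ∈ E⟨a⟩ ⊔ E⟨b⟩ := by
  have htop : (⊤ : Subgroup SL(2, L)) ≤ (E⟨a⟩ ⊔ E⟨b⟩).comap c.rho := by
    rw [← RankOne.lower_sup_upper]
    refine sup_le (fun y hy => ?_) fun y hy => ?_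
    · obtain ⟨t, rfl⟩ := RankOne.mem_lowerUnipotentSL2.1 hy
      exact Subgroup.mem_sup_right (c.rho_loR_mem hb t)
    · obtain ⟨t, rfl⟩ := RankOne.mem_upperUnipotentSL2.1 hy
      exact Subgroup.mem_sup_left (c.rho_upR_mem ha t)
  exact htop (Subgroup.mem_top g)

end Model

theorem rankOne_condition (hk2 : ringChar k ≠ 2) (hk3 : Nat.card k ≠ 3) (ha : Dmin G a) (hb : Dmin G b)
    (h : Opp a b) : ∀ σ ∈ E⟨a⟩, σ ≠ 1 → ∃ τ ∈ E⟨b⟩, τ ≠ 1 ∧ τ⁻¹ * σ * τ = σ⁻¹ * τ⁻¹ * σ ∧
      conjBy E⟨a⟩ τ⁻¹ = conjBy E⟨b⟩ σ⁻¹ := by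
  intro σ hσ hσ1
  obtain ⟨p, hp, rfl⟩ := (mem_sameActionSubgroup ha).1 hσ
  rcases hp with rfl | hp
  · exact absurd ex_zero hσ1
  obtain ⟨L, _, _, ⟨c⟩⟩ := exists_model hk2 hk3 hp.dmin hb (h.of_class hk2 hk3 ha hb hp (SameClass.refl hb))
  have hA := sameActionSubgroup_congr ha hp
  have hU : c.rho (upR 1) = ex p := Units.ext (by rw [c.coe_rho_upR, c.map_a', coe_ex hp.dmin.inG.sq])
  have hq := c.lo_class hb (one_ne_zero : (1 : L) ≠ 0)
  have hL : c.rho (loR 1) = ex (c.T !![0, 0; 1, 0]) :=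
    Units.ext (by rw [c.coe_rho_loR, coe_ex hq.dmin.inG.sq])
  have hbr : (loR (1 : L))⁻¹ * upR 1 * loR 1 = (upR 1)⁻¹ * (loR 1)⁻¹ * upR 1 := by
    rw [QuadPair.upR_inv, QuadPair.loR_inv]
    ext i j
    fin_cases i <;> fin_cases j <;> simp [coe_upR, coe_loR, Matrix.mul_apply, Fin.sum_univ_two] <;> norm_num
  set τ := ex (c.T !![0, 0; 1, 0])
  have hτ : τ ∈ E⟨b⟩ := ex_mem_sameActionSubgroup hb hq
  have hbr' : τ⁻¹ * ex p * τ = (ex p)⁻¹ * τ⁻¹ * ex p := by
    rw [← hU, ← hL, ← map_inv, ← map_inv, ← map_mul, ← map_mul, ← map_mul, ← map_mul, hbr]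
  refine ⟨τ, hτ, fun e => hq.dmin.ne (ex_inj hq.dmin.inG.sq (by simp) (e.trans ex_zero.symm)), hbr', ?_⟩
  have hτG : τ⁻¹ ∈ G := inv_mem (sameActionSubgroup_le hb hτ)
  have hσG : (ex p)⁻¹ ∈ G := inv_mem hp.dmin.inG.ex_mem
  rw [← hA, ← sameActionSubgroup_congr hb hq, conjBy_sameActionSubgroup hp.dmin hτG,
    conjBy_sameActionSubgroup hq.dmin hσG]
  have hn : cj (ex p)⁻¹ (-(c.T !![0, 0; 1, 0])) = cj τ⁻¹ p := by
    refine ex_inj (hq.dmin.inG.neg.conj hσG).sq (hp.dmin.conj hτG).inG.sq ?_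
    rw [← conj_ex _ hp.dmin.inG.sq, inv_inv, hbr', ← conj_ex _ hq.dmin.inG.neg.sq, inv_inv,
      ← ex_inv hq.dmin.inG.sq]
  refine (sameActionSubgroup_congr (hq.dmin.conj hσG) (?_ : SameClass G _ (cj τ⁻¹ p)))
  rw [← hn]
  refine ⟨hn ▸ hp.dmin.conj hτG, ?_, ?_⟩
  · rw [ker_cj, ker_cj, LinearMap.ker_neg]
  · rw [range_cj, range_cj, LinearMap.range_neg]

theorem rankOne_pair (hk2 : ringChar k ≠ 2) (hk3 : Nat.card k ≠ 3) (ha : Dmin G a) (hb : Dmin G b)
    (h : Opp a b) : IsRankOnePair E⟨a⟩ E⟨b⟩ where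
  ne := by
    intro e
    obtain ⟨p, hp, hpe⟩ := (mem_sameActionSubgroup hb).1 (e ▸ ex_mem_sameActionSubgroup ha (SameClass.refl ha))
    rcases hp with rfl | hp
    · exact ha.ne (ex_inj ha.inG.sq (by simp) hpe)
    · obtain rfl := ex_inj ha.inG.sq hp.dmin.inG.sq hpe
      have hbot := h.inf_eq_bot hk2 hk3 ha hb
      rw [← hp.ker, inf_eq_left.2 (range_le_ker ha.inG.sq)] at hbot
      exact ha.ne (LinearMap.range_eq_bot.1 hbot)
  nilpotent_left := by
    haveI := sameActionSubgroup_comm ha; exact RankOne.isNilpotent_of_isMulCommutative _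
  nilpotent_right := by
    haveI := sameActionSubgroup_comm hb; exact RankOne.isNilpotent_of_isMulCommutative _
  cond_left := fun σ hσ h1 => by
    obtain ⟨τ, hτ, hτ1, -, e⟩ := rankOne_condition hk2 hk3 ha hb h σ hσ h1
    exact ⟨τ, hτ, hτ1, e⟩
  cond_right := fun σ hσ h1 => by
    obtain ⟨τ, hτ, hτ1, -, e⟩ := rankOne_condition hk2 hk3 hb ha h.symm σ hσ h1
    exact ⟨τ, hτ, hτ1, e⟩

theorem special_pair (hk2 : ringChar k ≠ 2) (hk3 : Nat.card k ≠ 3) (ha : Dmin G a) (hb : Dmin G b)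
    (h : Opp a b) : IsSpecialRankOnePair E⟨a⟩ E⟨b⟩ := by
  refine ⟨rankOne_pair hk2 hk3 ha hb h, fun σ hσ hσ1 τ hτ hτ1 he => ?_⟩
  obtain ⟨τ', hτ', -, hbr, he'⟩ := rankOne_condition hk2 hk3 ha hb h σ hσ hσ1
  rw [RankOne.partner_unique_right (rankOne_pair hk2 hk3 ha hb h) hτ hτ' he he']
  exact hbr

theorem exists_involution (hk2 : ringChar k ≠ 2) (hk3 : Nat.card k ≠ 3) (ha : Dmin G a) (hb : Dmin G b)
    (h : Opp a b) : ∃ i : LinearMap.GeneralLinearGroup k M, i ∈ E⟨a⟩ ⊔ E⟨b⟩ ∧ i ≠ 1 ∧ i * i = 1 ∧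
      (∀ x ∈ E⟨a⟩ ⊔ E⟨b⟩, i * x = x * i) ∧
      (∀ m ∈ LinearMap.range a ⊔ LinearMap.range b, (i : Module.End k M) m = -m) ∧
      ∀ m ∈ LinearMap.ker a ⊓ LinearMap.ker b, (i : Module.End k M) m = m := by
  obtain ⟨L, _, _, ⟨c⟩⟩ := exists_model hk2 hk3 ha hb h
  have hi : (c.rho (-1) : Module.End k M) = 1 - (c.T 1 + c.T 1) := by
    rw [c.coe_rho, Matrix.SpecialLinearGroup.coe_neg, Matrix.SpecialLinearGroup.coe_one, map_neg]; abel
  refine ⟨c.rho (-1), c.rho_mem_sup ha hb _, fun e => ?_, by rw [← map_mul, neg_mul_neg, one_mul, map_one],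
    fun x hx => ?_, fun m hm => ?_, fun m hm => ?_⟩
  · have h2 : c.T 1 + c.T 1 = 0 := by rw [e, Units.val_one] at hi; rwa [eq_comm, sub_eq_self] at hi
    rw [← two_smul k, smul_eq_zero, or_iff_right (Ring.two_ne_zero hk2)] at h2
    exact one_ne_zero (c.inj _ h2)
  · suffices hle : E⟨a⟩ ⊔ E⟨b⟩ ≤ Subgroup.centralizer {c.rho (-1)} from
      (Subgroup.mem_centralizer_singleton_iff.1 (hle hx)).symm
    have key : ∀ p : Module.End k M, p * p = 0 → Commute p (c.T 1) → ex p ∈ Subgroup.centralizer {c.rho (-1)} := by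
      intro p hp hc
      refine Subgroup.mem_centralizer_singleton_iff.2 (Units.ext ?_)
      rw [Units.val_mul, Units.val_mul, coe_ex hp, hi]
      exact (Commute.one_left _).add_left ((Commute.one_right p).sub_right (hc.add_right hc))
    refine sup_le ((Subgroup.closure_le _).2 fun y hy => ?_) ((Subgroup.closure_le _).2 fun y hy => ?_)
    · obtain ⟨p, hp, rfl⟩ := (class_iff ha).1 hy
      obtain ⟨L', _, _, ⟨c'⟩⟩ := exists_model hk2 hk3 hp.dmin hb (h.of_class hk2 hk3 ha hb hp (SameClass.refl hb))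
      exact key p hp.dmin.inG.sq (c.T_one_of_class hp (SameClass.refl hb) c' ▸ c'.comm_a)
    · obtain ⟨p, hp, rfl⟩ := (class_iff hb).1 hy
      obtain ⟨L', _, _, ⟨c'⟩⟩ := exists_model hk2 hk3 ha hp.dmin (h.of_class hk2 hk3 ha hb (SameClass.refl ha) hp)
      exact key p hp.dmin.inG.sq (c.T_one_of_class (SameClass.refl ha) hp c' ▸ c'.comm_b)
  · rw [← c.range_T_one] at hm
    obtain ⟨w, rfl⟩ := hm
    rw [hi, LinearMap.sub_apply, LinearMap.add_apply, Module.End.one_apply, ← Module.End.mul_apply, c.idem]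
    abel
  · rw [← c.ker_T_one, LinearMap.mem_ker] at hm
    rw [hi, LinearMap.sub_apply, LinearMap.add_apply, hm, add_zero, sub_zero, Module.End.one_apply]

end Cfsg.Agent.QuadRoot
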