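import Cfsg.Agent.Lib.QuadRoot.Pair
import Cfsg.Agent.Lib.QuadPair.SLRing
import Cfsg.Agent.S5061

/-!
The part of the space where the sum `a b + b a` of two square zero maps is invertible.
* `Corner a b L` : `T : Mat₂(L) → End M` multiplicative, with `T 1` the projection to this part, `L = k[α]`,
  `a T 1` and `b T 1` the images of `!![0,1;0,0]` and `!![0,0;α,0]`; `exists_corner`
* `rho` : the homomorphism `g ↦ T g + (1 - T 1)` on `SL₂(L)`
* `exists_level` : some derived term of `genPairR k α` is mapped into any group containing both scalar families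
* `exists_flag` : square zero maps with nilpotent product lower a flag
-/

set_option autoImplicit false
set_option linter.unusedSectionVars false

namespace Cfsg.Agent.QuadRoot

open Cfsg Module Polynomial
open Cfsg.Agent.QuadPair (upR loR genPairR coe_upR coe_loR)
open scoped MatrixGroups

universe u v

variable {k : Type u} [Field k] {M : Type v} [AddCommGroup M] [Module k M]

theorem commute_aeval {R : Type*} [Ring R] [Algebra k R] {x y : R} (h : Commute x y) (p : k[X]) :
    Commute x (aeval y p) := by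
  induction p using Polynomial.induction_on' with
  | add p q hp hq => rw [map_add]; exact hp.add_right hq
  | monomial n c => rw [aeval_monomial]; exact (Algebra.commute_algebraMap_right c x).mul_right (h.pow_right n)

/-- A system of matrix units over `L` attached to `a` and `b`. -/
structure Corner (a b : Module.End k M) (L : Type u) [CommRing L] [Algebra k L] where
  /-- the representation of the matrices -/
  T : Matrix (Fin 2) (Fin 2) L →ₗ[k] Module.End k M
  map_mul : ∀ x y, T (x * y) = T x * T y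
  inj : ∀ x, T x = 0 → x = 0
  /-- the generator is `α` -/
  pb : PowerBasis k L
  unit : IsUnit pb.gen
  map_a : T !![0, 1; 0, 0] = a * T 1
  map_b : T !![0, 0; pb.gen, 0] = b * T 1
  comm_a : Commute a (T 1)
  comm_b : Commute b (T 1)
  nil : IsNilpotent (a * b * (1 - T 1))

theorem units_map_mul {L : Type*} [CommRing L] [Algebra k L] (ψ : L →ₗ[k] Module.End k M)
    (hψ : ∀ x y, ψ (x * y) = ψ x * ψ y) {a q : Module.End k M} (ha : ∀ x, Commute a (ψ x))
    (hq : ∀ x, Commute q (ψ x)) (haa : a * a = 0) (hqq : q * q = 0) (haqa : a * q * a = a)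
    (hqaq : q * a * q = q) (x y : Matrix (Fin 2) (Fin 2) L) :
    ψ ((x * y) 0 0) * (a * q) + ψ ((x * y) 0 1) * a + ψ ((x * y) 1 0) * q + ψ ((x * y) 1 1) * (q * a) =
      (ψ (x 0 0) * (a * q) + ψ (x 0 1) * a + ψ (x 1 0) * q + ψ (x 1 1) * (q * a)) *
      (ψ (y 0 0) * (a * q) + ψ (y 0 1) * a + ψ (y 1 0) * q + ψ (y 1 1) * (q * a)) := by
  have hm : ∀ (x y : L) (u v : Module.End k M), Commute u (ψ y) →
      (ψ x * u) * (ψ y * v) = ψ (x * y) * (u * v) := fun x y u v hu => by
    rw [hψ, mul_assoc, ← mul_assoc u, hu.eq]; simp [mul_assoc]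
  have h1 : ∀ z, Commute (a * q) (ψ z) := fun z => (ha z).mul_left (hq z)
  have h2 : ∀ z, Commute (q * a) (ψ z) := fun z => (hq z).mul_left (ha z)
  have z1 : ∀ w, a * (a * w) = 0 := fun w => by rw [← mul_assoc, haa, zero_mul]
  have z2 : ∀ w, q * (q * w) = 0 := fun w => by rw [← mul_assoc, hqq, zero_mul]
  have i1 : a * (q * a) = a := by rw [← mul_assoc, haqa]
  have i2 : q * (a * q) = q := by rw [← mul_assoc, hqaq]
  simp only [Matrix.mul_apply, Fin.sum_univ_two, map_add, add_mul, mul_add, hm _ _ _ _ (ha _),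
    hm _ _ _ _ (hq _), hm _ _ _ _ (h1 _), hm _ _ _ _ (h2 _), mul_assoc a q, mul_assoc q a, haa, hqq, z1, z2,
    i1, i2, mul_zero, zero_add, add_zero]
  abel

theorem exists_corner [FiniteDimensional k M] {a b : Module.End k M} (ha : a * a = 0) (hb : b * b = 0)
    (h : Opp a b) : ∃ (L : Type u) (_ : CommRing L) (_ : Algebra k L) (_ : Nontrivial L),
      Nonempty (Corner a b L) := by
  set R : Module.End k M := a * b + b * a with hR
  have hint : IsIntegral k R := Algebra.IsIntegral.isIntegral R
  obtain ⟨m, hpm, hnd⟩ := exists_eq_pow_rootMultiplicity_mul_and_not_dvd (minpoly k R) (minpoly.ne_zero hint) 0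
  set e := rootMultiplicity 0 (minpoly k R)
  rw [C_0, sub_zero] at hpm hnd
  have hmon : m.Monic := (monic_X_pow e).of_mul_monic_left (hpm ▸ minpoly.monic hint)
  obtain ⟨u, v, huv⟩ : IsCoprime (X ^ e) m := (irreducible_X.coprime_iff_not_dvd.2 hnd).pow_left
  set P := aeval R (u * X ^ e) with hPdef
  have hP1 : 1 - P = aeval R (v * m) := by
    rw [sub_eq_iff_eq_add, hPdef, ← map_add, add_comm (v * m), huv, map_one]
  have hmin : ∀ p, minpoly k R ∣ p → aeval R p = 0 := fun p => fun ⟨q, hq⟩ => by
    rw [hq, map_mul, minpoly.aeval, zero_mul]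
  have hRe : R ^ e * (1 - P) = 0 := by
    rw [hP1, ← aeval_X_pow (R := k) R, ← map_mul]
    exact hmin _ ⟨v, by rw [hpm]; ring⟩
  have hPP : P * P = P := by
    have : P * (1 - P) = 0 := by
      rw [hP1, hPdef, ← map_mul]; exact hmin _ ⟨u * v, by rw [hpm]; ring⟩
    rwa [mul_sub, mul_one, sub_eq_zero, eq_comm] at this
  have hmP : aeval R m * P = 0 := by
    rw [hPdef, ← map_mul]; exact hmin _ ⟨u, by rw [hpm]; ring⟩
  have haR : Commute a R := by
    show a * R = R * a
    simp [hR, mul_add, add_mul, ← mul_assoc, ha, mul_assoc (_ : Module.End k M) a a]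
  have hbR : Commute b R := by
    show b * R = R * b
    simp [hR, mul_add, add_mul, ← mul_assoc, hb, mul_assoc (_ : Module.End k M) b b]
  have hne1 : m ≠ 1 := by
    intro h1
    rw [h1, mul_one] at hpm
    have h0 : R ^ e = 0 := by rw [← aeval_X_pow (R := k) R, ← hpm, minpoly.aeval]
    refine h ⟨e + 1, ?_⟩
    have hpow : ∀ n : ℕ, (a * b) ^ (n + 1) = R ^ n * (a * b) := by
      intro n
      induction n with
      | zero => simp
      | succ n ih =>
        rw [pow_succ, ih, pow_succ R n, mul_assoc (R ^ n), mul_assoc (R ^ n)]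
        simp [hR, add_mul, ← mul_assoc, mul_assoc b a a, ha]
    rw [hpow, h0, zero_mul]
  haveI : Nontrivial (AdjoinRoot m) := AdjoinRoot.nontrivial m fun hd =>
    hne1 (hmon.natDegree_eq_zero.1 (natDegree_eq_zero_iff_degree_le_zero.2 hd.le))
  -- the linear map from `k[α]`
  let ψ : AdjoinRoot m →ₗ[k] Module.End k M :=
    ((LinearMap.mulRight k P).comp (aeval R).toLinearMap).comp (AdjoinRoot.modByMonicHom hmon)
  have hψ : ∀ p, ψ (AdjoinRoot.mk m p) = aeval R p * P := fun p => by
    show aeval R (AdjoinRoot.modByMonicHom hmon (AdjoinRoot.mk m p)) * P = _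
    rw [AdjoinRoot.modByMonicHom_mk]
    conv_rhs => rw [← modByMonic_add_div p m, map_add, map_mul, add_mul, (Commute.all m (p /ₘ m)).map (aeval R) |>.eq,
      mul_assoc, hmP, mul_zero, add_zero]
  have hcommP : ∀ p, Commute P (aeval R p) := fun p => (Commute.all _ p).map (aeval R)
  have hψmul : ∀ x y, ψ (x * y) = ψ x * ψ y := by
    intro x y
    induction x using AdjoinRoot.induction_on with | ih p =>
    induction y using AdjoinRoot.induction_on with | ih q =>
    rw [← map_mul, hψ, hψ, hψ, map_mul, mul_assoc (aeval R p) P, ← mul_assoc P, (hcommP q).eq,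
      mul_assoc (aeval R q) P, hPP, mul_assoc]
  have hψc : ∀ w, Commute w R → ∀ x, Commute w (ψ x) := by
    intro w hw x
    induction x using AdjoinRoot.induction_on with | ih p =>
    rw [hψ]
    exact (commute_aeval hw p).mul_right (commute_aeval hw _)
  have hψ1 : ψ 1 = P := by rw [← map_one (AdjoinRoot.mk m), hψ, map_one, one_mul]
  have hψinj : ∀ x, ψ x = 0 → x = 0 := by
    intro x hx
    induction x using AdjoinRoot.induction_on with | ih p =>
    rw [hψ, hPdef, ← map_mul] at hx
    have hd := minpoly.dvd k R hx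
    rw [hpm] at hd
    have : m ∣ p * (u * X ^ e) := dvd_trans (dvd_mul_left _ _) hd
    have hco : IsCoprime m (u * X ^ e) := ⟨v, 1, by rw [one_mul, add_comm, huv]⟩
    exact AdjoinRoot.mk_eq_zero.2 (hco.dvd_of_dvd_mul_right this)
  let pb := AdjoinRoot.powerBasis' hmon
  have hroot : pb.gen = AdjoinRoot.root m := rfl
  have hunit : IsUnit pb.gen := by
    rw [hroot]
    refine isUnit_of_dvd_one ?_
    have h0 : m.coeff 0 ≠ 0 := fun h0 => hnd (X_dvd_iff.2 h0)
    refine ⟨AdjoinRoot.mk m (-C (m.coeff 0)⁻¹ * m.divX), ?_⟩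
    rw [← AdjoinRoot.mk_X, ← map_mul, ← map_one (AdjoinRoot.mk m), AdjoinRoot.mk_eq_mk]
    refine ⟨C (m.coeff 0)⁻¹, ?_⟩
    calc (1 : k[X]) - X * (-C (m.coeff 0)⁻¹ * m.divX)
        = C (m.coeff 0)⁻¹ * (X * m.divX + C (m.coeff 0)) := by
          rw [mul_add, ← map_mul, inv_mul_cancel₀ h0, map_one]; ring
      _ = m * C (m.coeff 0)⁻¹ := by rw [X_mul_divX_add, mul_comm]
  obtain ⟨β, hβ⟩ := hunit.exists_right_inv
  rw [mul_comm] at hβ
  set a' := a * P
  set q := b * ψ β
  have hPψ : ∀ x, P * ψ x = ψ x := fun x => by rw [← hψ1, ← hψmul, one_mul]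
  have hψP : ∀ x, ψ x * P = ψ x := fun x => by rw [← hψ1, ← hψmul, mul_one]
  have hca : ∀ x, Commute a' (ψ x) := fun x => (hψc a haR x).mul_left (by
    show P * ψ x = ψ x * P
    rw [hPψ, hψP])
  have hcq : ∀ x, Commute q (ψ x) := fun x => (hψc b hbR x).mul_left (by
    show ψ β * ψ x = ψ x * ψ β
    rw [← hψmul, ← hψmul, mul_comm])
  have haP : Commute a P := hψ1 ▸ hψc a haR 1
  have hbP : Commute b P := hψ1 ▸ hψc b hbR 1
  have hsum : a' * q + q * a' = P := by
    have hα : ψ pb.gen = R * P := by rw [hroot, ← AdjoinRoot.mk_X, hψ, aeval_X]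
    calc a' * q + q * a' = (a * b + b * a) * P * ψ β := by
          rw [show a' * q = a * b * (P * ψ β) by
            show a * P * (b * ψ β) = _
            rw [mul_assoc, ← mul_assoc P, ← hbP.eq]; simp [mul_assoc],
            show q * a' = b * a * (P * ψ β) by
            show b * ψ β * (a * P) = _
            rw [mul_assoc, ← mul_assoc (ψ β), ← (hψc a haR β).eq, mul_assoc a, hψP, hPψ, mul_assoc],
            ← add_mul, mul_assoc]
      _ = P := by rw [← hR, ← hα, ← hψmul, mul_comm, hβ, hψ1]
  have haa : a' * a' = 0 := by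
    show a * P * (a * P) = 0
    rw [mul_assoc, ← mul_assoc P, ← haP.eq, ← mul_assoc, ← mul_assoc, ha, zero_mul, zero_mul]
  have hqq : q * q = 0 := by
    show b * ψ β * (b * ψ β) = 0
    rw [mul_assoc, ← mul_assoc (ψ β), ← (hψc b hbR β).eq, ← mul_assoc, ← mul_assoc, hb, zero_mul, zero_mul]
  have haqa : a' * q * a' = a' := by
    have : a' * (a' * q + q * a') = a' := by rw [hsum, show a' = a * P from rfl, mul_assoc, hPP]
    rwa [mul_add, ← mul_assoc, haa, zero_mul, zero_add, ← mul_assoc] at this
  have hqaq : q * a' * q = q := by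
    have : q * (a' * q + q * a') = q := by rw [hsum, show q = b * ψ β from rfl, mul_assoc, hψP]
    rwa [mul_add, ← mul_assoc, ← mul_assoc q q, hqq, zero_mul, add_zero] at this
  let T : Matrix (Fin 2) (Fin 2) (AdjoinRoot m) →ₗ[k] Module.End k M :=
    { toFun := fun x => ψ (x 0 0) * (a' * q) + ψ (x 0 1) * a' + ψ (x 1 0) * q + ψ (x 1 1) * (q * a')
      map_add' := fun x y => by simp [add_mul]; abel
      map_smul' := fun c x => by simp [smul_mul_assoc, smul_add] }
  have hTdef : ∀ x, T x = ψ (x 0 0) * (a' * q) + ψ (x 0 1) * a' + ψ (x 1 0) * q + ψ (x 1 1) * (q * a') :=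
    fun x => rfl
  have hTmul : ∀ x y, T (x * y) = T x * T y := fun x y => units_map_mul ψ hψmul hca hcq haa hqq haqa hqaq x y
  have hTscalar : ∀ z, T !![z, 0; 0, z] = ψ z := fun z => by
    rw [hTdef]; simp
    rw [← mul_add, hsum, hψP]
  have hT1 : T 1 = P := by rw [Matrix.one_fin_two, hTscalar, hψ1]
  refine ⟨AdjoinRoot m, inferInstance, inferInstance, inferInstance, ⟨⟨T, hTmul, ?_, pb, hunit, ?_, ?_,
    by rw [hT1]; exact haP, by rw [hT1]; exact hbP, ?_⟩⟩⟩
  · intro x hx
    ext i j
    refine hψinj _ ?_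
    rw [← hTscalar, show (!![x i j, 0; 0, x i j] : Matrix (Fin 2) (Fin 2) (AdjoinRoot m)) =
      Matrix.single 0 i 1 * x * Matrix.single j 0 1 + Matrix.single 1 i 1 * x * Matrix.single j 1 1 by
        ext r s; fin_cases i <;> fin_cases j <;> fin_cases r <;> fin_cases s <;>
          simp [Matrix.mul_apply, Fin.sum_univ_two, Matrix.single], map_add, hTmul, hTmul, hTmul, hTmul, hx]
    simp
  · rw [hT1, hTdef]; simp [hψ1]
    rw [← hψ1]; exact (hca 1).eq.symm.trans (by rw [hψ1]; show a * P * P = a * P; rw [mul_assoc, hPP])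
  · rw [hT1, hTdef]; simp
    show ψ pb.gen * (b * ψ β) = b * P
    rw [← mul_assoc, ← (hψc b hbR _).eq, mul_assoc, ← hψmul, mul_comm pb.gen, hβ, hψ1]
  · refine ⟨e + 1, ?_⟩
    rw [hT1]
    have hc : Commute (a * b) (1 - P) :=
      ((Commute.one_right a).sub_right haP).mul_left ((Commute.one_right b).sub_right hbP)
    have hpow : ∀ n : ℕ, (a * b) ^ (n + 1) = a * b * R ^ n := by
      intro n
      induction n with
      | zero => simp
      | succ n ih =>
        rw [pow_succ', ih, pow_succ' R n, ← mul_assoc (a * b) R, ← mul_assoc]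
        congr 1
        simp [hR, mul_add, ← mul_assoc, mul_assoc a b b, hb]
    have hQ : ∀ n : ℕ, (1 - P) ^ (n + 1) = 1 - P :=
      fun n => IsIdempotentElem.pow_succ_eq n (IsIdempotentElem.one_sub hPP)
    rw [hc.mul_pow, hpow, hQ, mul_assoc, hRe, mul_zero]

theorem exists_flag [FiniteDimensional k M] {x y : Module.End k M} (hx : x * x = 0) (hy : y * y = 0)
    (h : IsNilpotent (x * y)) : ∃ (F : ℕ → Submodule k M) (hF : S5061.IsFlag F),
      ∀ c : k, ex (c • x) ∈ S5061.level F hF 1 ∧ ex (c • y) ∈ S5061.level F hF 1 := by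
  let w : ℕ → Module.End k M × Module.End k M := fun m =>
    Nat.rec (1, 1) (fun _ p => (x * p.2, y * p.1)) m
  have w0 : w 0 = (1, 1) := rfl
  have w1 : ∀ m, w (m + 1) = (x * (w m).2, y * (w m).1) := fun m => rfl
  let F : ℕ → Submodule k M := fun m => LinearMap.range (w m).1 ⊔ LinearMap.range (w m).2
  have hdvd : ∀ m, (∃ s, (w (m + 1)).1 = (w m).1 * s) ∧ ∃ s, (w (m + 1)).2 = (w m).2 * s := by
    intro m
    induction m with
    | zero => exact ⟨⟨x, by simp [w1, w0]⟩, ⟨y, by simp [w1, w0]⟩⟩
    | succ m ih =>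
      obtain ⟨⟨s, hs⟩, t, ht⟩ := ih
      exact ⟨⟨t, by rw [w1 (m + 1), ht, w1 m, mul_assoc]⟩, ⟨s, by rw [w1 (m + 1), hs, w1 m, mul_assoc]⟩⟩
  have hanti : Antitone F := antitone_nat_of_succ_le fun m => by
    obtain ⟨⟨s, hs⟩, t, ht⟩ := hdvd m
    refine sup_le_sup ?_ ?_
    · rw [hs, Module.End.mul_eq_comp]; exact LinearMap.range_comp_le_range _ _
    · rw [ht, Module.End.mul_eq_comp]; exact LinearMap.range_comp_le_range _ _
  have heven : ∀ j : ℕ, (w (2 * j)).1 = (x * y) ^ j ∧ (w (2 * j)).2 = (y * x) ^ j := by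
    intro j
    induction j with
    | zero => simp [w0]
    | succ j ih =>
      rw [show 2 * (j + 1) = (2 * j + 1) + 1 by omega]
      simp only [w1]
      simp [ih, pow_succ', mul_assoc]
  obtain ⟨n, hn⟩ := id h
  obtain ⟨m, hm⟩ := isNilpotent_mul_comm h
  have hF : S5061.IsFlag F := by
    refine ⟨hanti, ?_, 2 * (n + m), ?_⟩
    · show LinearMap.range (1 : Module.End k M) ⊔ _ = ⊤
      simp [Module.End.one_eq_id]
    · show LinearMap.range _ ⊔ LinearMap.range _ = ⊥
      rw [(heven _).1, (heven _).2, pow_add, pow_add, hn, hm]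
      simp
  have step : ∀ (z : Module.End k M) (c : k) (hz : z * z = 0),
      (∀ i, (LinearMap.range (w i).1).map z ≤ F (i + 1) ∧ (LinearMap.range (w i).2).map z ≤ F (i + 1)) →
      ex (c • z) ∈ S5061.level F hF 1 := by
    intro z c hz hi i
    rw [show S5061.dev (ex (c • z)) = c • z from coe_sub_ex (smul_sq hz c c)]
    rintro _ ⟨v, hv, rfl⟩
    exact Submodule.smul_mem _ c (sup_le (Submodule.map_le_iff_le_comap.1 (hi i).1)
      (Submodule.map_le_iff_le_comap.1 (hi i).2) hv)
  refine ⟨F, hF, fun c => ⟨step x c hx fun i => ⟨?_, ?_⟩, step y c hy fun i => ⟨?_, ?_⟩⟩⟩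
  · rcases i with _ | i
    · rw [← LinearMap.range_comp, ← Module.End.mul_eq_comp]
      exact le_sup_of_le_left (le_of_eq (by simp [w0, w1]))
    · rw [← LinearMap.range_comp, ← Module.End.mul_eq_comp, w1, ← mul_assoc, hx, zero_mul]
      simp
  · rw [← LinearMap.range_comp, ← Module.End.mul_eq_comp]
    exact le_sup_of_le_left (le_of_eq (by rw [w1]))
  · rw [← LinearMap.range_comp, ← Module.End.mul_eq_comp]
    exact le_sup_of_le_right (le_of_eq (by rw [w1]))
  · rcases i with _ | i
    · rw [← LinearMap.range_comp, ← Module.End.mul_eq_comp]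
      exact le_sup_of_le_right (le_of_eq (by simp [w0, w1]))
    · rw [← LinearMap.range_comp, ← Module.End.mul_eq_comp, w1, ← mul_assoc, hy, zero_mul]
      simp

/-- A derived term, as a subgroup of the ambient group. -/
abbrev der {X : Type*} [Group X] (K : Subgroup X) (n : ℕ) : Subgroup X := (derivedSeries K n).map K.subtype

theorem der_zero {X : Type*} [Group X] (K : Subgroup X) : der K 0 = K := by
  rw [der, derivedSeries_zero, ← MonoidHom.range_eq_map, Subgroup.range_subtype]

theorem der_succ {X : Type*} [Group X] (K : Subgroup X) (n : ℕ) : der K (n + 1) = ⁅der K n, der K n⁆ := by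
  rw [der, derivedSeries_succ, Subgroup.map_commutator]

theorem der_map {X Y : Type*} [Group X] [Group Y] (f : X →* Y) (K : Subgroup X) :
    ∀ n, der (K.map f) n = (der K n).map f
  | 0 => by rw [der_zero, der_zero]
  | n + 1 => by rw [der_succ, der_succ, der_map f K n, Subgroup.map_commutator]

theorem der_le {X : Type*} [Group X] (K : Subgroup X) (n : ℕ) : der K n ≤ K := Subgroup.map_subtype_le _

theorem der_le_level [FiniteDimensional k M] {F : ℕ → Submodule k M} {hF : S5061.IsFlag F}
    {K : Subgroup (LinearMap.GeneralLinearGroup k M)} (hK : K ≤ S5061.level F hF 1) :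
    ∀ n, der K n ≤ S5061.level F hF (2 ^ n)
  | 0 => by rw [der_zero, pow_zero]; exact hK
  | n + 1 => by
    rw [der_succ, Subgroup.commutator_le]
    intro g hg h hh
    rw [show 2 ^ (n + 1) = 2 ^ n + 2 ^ n by ring]
    exact S5061.commutator_level hF (der_le_level hK n hg) (der_le_level hK n hh)

/-- The automorphisms commuting with `P`. -/
def commSub (P : Module.End k M) : Subgroup (LinearMap.GeneralLinearGroup k M) where
  carrier := {g | Commute (g : Module.End k M) P}
  one_mem' := Commute.one_left _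
  mul_mem' hg hh := by
    show Commute ((_ * _ : LinearMap.GeneralLinearGroup k M) : Module.End k M) P
    rw [Units.val_mul]; exact hg.mul_left hh
  inv_mem' hg := hg.units_inv_left

/-- `g ↦ g E + (1 - E)` on automorphisms commuting with the idempotent `E`. -/
def cutHom {P : Module.End k M} (E : Module.End k M) (hE : E * E = E)
    (hc : ∀ g : commSub P, Commute ((g : LinearMap.GeneralLinearGroup k M) : Module.End k M) E) :
    commSub P →* LinearMap.GeneralLinearGroup k M :=
  MonoidHom.toHomUnits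
    { toFun := fun g => ((g : LinearMap.GeneralLinearGroup k M) : Module.End k M) * E + (1 - E)
      map_one' := by simp
      map_mul' := fun g h => by
        have h1 : E * (1 - E) = 0 := by rw [mul_sub, mul_one, hE, sub_self]
        have h2 : (1 - E) * (1 - E) = 1 - E := IsIdempotentElem.one_sub hE
        set x := ((g : LinearMap.GeneralLinearGroup k M) : Module.End k M)
        set y := ((h : LinearMap.GeneralLinearGroup k M) : Module.End k M)
        have h3 : E * y = y * E := (hc h).eq.symm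
        have h4 : (1 - E) * y = y * (1 - E) := by rw [sub_mul, mul_sub, one_mul, mul_one, h3]
        show x * y * E + (1 - E) = _
        rw [add_mul, mul_add, mul_add, mul_assoc x E, ← mul_assoc E y, h3, mul_assoc y E, hE, mul_assoc x E, h1,
          mul_zero, add_zero, ← mul_assoc (1 - E) y, h4, mul_assoc y, sub_mul, one_mul, hE, sub_self, mul_zero,
          zero_add, h2, mul_assoc] }

theorem coe_cutHom {P : Module.End k M} (E : Module.End k M) (hE : E * E = E)
    (hc : ∀ g : commSub P, Commute ((g : LinearMap.GeneralLinearGroup k M) : Module.End k M) E) (g : commSub P) :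
    (cutHom E hE hc g : Module.End k M)
      = ((g : LinearMap.GeneralLinearGroup k M) : Module.End k M) * E + (1 - E) := rfl

namespace Corner

variable {L : Type u} [CommRing L] [Algebra k L] {a b : Module.End k M} (c : Corner a b L)

theorem one_mul_T (x : Matrix (Fin 2) (Fin 2) L) : c.T 1 * c.T x = c.T x := by rw [← c.map_mul, one_mul]

theorem T_mul_one (x : Matrix (Fin 2) (Fin 2) L) : c.T x * c.T 1 = c.T x := by rw [← c.map_mul, mul_one]

theorem idem : c.T 1 * c.T 1 = c.T 1 := c.one_mul_T 1

theorem T_mul_a (x : Matrix (Fin 2) (Fin 2) L) : c.T x * a = c.T (x * !![0, 1; 0, 0]) := by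
  rw [c.map_mul, c.map_a, c.comm_a.eq, ← mul_assoc, c.T_mul_one]

theorem a_mul_T (x : Matrix (Fin 2) (Fin 2) L) : a * c.T x = c.T (!![0, 1; 0, 0] * x) := by
  rw [c.map_mul, c.map_a, mul_assoc, c.one_mul_T]

theorem T_mul_b (x : Matrix (Fin 2) (Fin 2) L) : c.T x * b = c.T (x * !![0, 0; c.pb.gen, 0]) := by
  rw [c.map_mul, c.map_b, c.comm_b.eq, ← mul_assoc, c.T_mul_one]

theorem b_mul_T (x : Matrix (Fin 2) (Fin 2) L) : b * c.T x = c.T (!![0, 0; c.pb.gen, 0] * x) := by
  rw [c.map_mul, c.map_b, mul_assoc, c.one_mul_T]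

/-- The representation of `SL₂(L)`: `g` on the image of `T 1`, the identity on its kernel. -/
def rho : SL(2, L) →* LinearMap.GeneralLinearGroup k M :=
  MonoidHom.toHomUnits
    { toFun := fun g => c.T (g : Matrix (Fin 2) (Fin 2) L) + (1 - c.T 1)
      map_one' := by simp
      map_mul' := fun g h => by
        rw [Matrix.SpecialLinearGroup.coe_mul, c.map_mul, add_mul, mul_add, mul_add, mul_sub, mul_one,
          c.T_mul_one, sub_self, add_zero, sub_mul, one_mul, c.one_mul_T, sub_self, zero_add,
          show (1 - c.T 1) * (1 - c.T 1) = 1 - c.T 1 from IsIdempotentElem.one_sub c.idem] }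

theorem coe_rho (g : SL(2, L)) :
    (c.rho g : Module.End k M) = c.T (g : Matrix (Fin 2) (Fin 2) L) + (1 - c.T 1) := rfl

theorem sub_one_rho (g : SL(2, L)) :
    (c.rho g : Module.End k M) - 1 = c.T ((g : Matrix (Fin 2) (Fin 2) L) - 1) := by
  rw [c.coe_rho, map_sub]; abel

theorem coe_rho_upR (x : L) : (c.rho (upR x) : Module.End k M) = 1 + c.T !![0, x; 0, 0] := by
  rw [← sub_eq_iff_eq_add', c.sub_one_rho, coe_upR]
  congr 1
  ext i j; fin_cases i <;> fin_cases j <;> simp

theorem coe_rho_loR (x : L) : (c.rho (loR x) : Module.End k M) = 1 + c.T !![0, 0; x, 0] := by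
  rw [← sub_eq_iff_eq_add', c.sub_one_rho, coe_loR]
  congr 1
  ext i j; fin_cases i <;> fin_cases j <;> simp

theorem T_up_scalar (t : k) : c.T !![0, algebraMap k L t; 0, 0] = t • (a * c.T 1) := by
  rw [← c.map_a, ← map_smul]
  congr 1
  ext i j; fin_cases i <;> fin_cases j <;> simp [Algebra.algebraMap_eq_smul_one]

theorem T_lo_scalar (t : k) : c.T !![0, 0; algebraMap k L t * c.pb.gen, 0] = t • (b * c.T 1) := by
  rw [← c.map_b, ← map_smul]
  congr 1
  ext i j; fin_cases i <;> fin_cases j <;> simp [Algebra.smul_def]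

theorem exists_level [FiniteDimensional k M] {G : Subgroup (LinearMap.GeneralLinearGroup k M)} (ha : InG G a)
    (hb : InG G b) : ∃ N, ∀ g ∈ der (genPairR k c.pb.gen) N, c.rho g ∈ G := by
  set P := c.T 1
  have hQ : (1 - P) * (1 - P) = 1 - P := IsIdempotentElem.one_sub c.idem
  have hca : ∀ t : k, ex (t • a) ∈ commSub P := fun t => by
    show Commute ((ex (t • a) : LinearMap.GeneralLinearGroup k M) : Module.End k M) P
    rw [coe_ex (smul_sq ha.sq t t)]
    exact (Commute.one_left P).add_left (c.comm_a.smul_left t)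
  have hcb : ∀ t : k, ex (t • b) ∈ commSub P := fun t => by
    show Commute ((ex (t • b) : LinearMap.GeneralLinearGroup k M) : Module.End k M) P
    rw [coe_ex (smul_sq hb.sq t t)]
    exact (Commute.one_left P).add_left (c.comm_b.smul_left t)
  let H : Subgroup (commSub P) := Subgroup.closure
    (Set.range (fun t : k => (⟨ex (t • a), hca t⟩ : commSub P)) ∪
      Set.range (fun t : k => (⟨ex (t • b), hcb t⟩ : commSub P)))
  have hHG : ∀ g ∈ H, (g : LinearMap.GeneralLinearGroup k M) ∈ G := by
    intro g hg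
    refine (Subgroup.closure_le (K := G.comap (commSub P).subtype)).2 ?_ hg
    rintro _ (⟨t, rfl⟩ | ⟨t, rfl⟩)
    · exact ha.mem t
    · exact hb.mem t
  have hcP : ∀ g : commSub P, Commute ((g : LinearMap.GeneralLinearGroup k M) : Module.End k M) P := fun g => g.2
  have hcQ : ∀ g : commSub P, Commute ((g : LinearMap.GeneralLinearGroup k M) : Module.End k M) (1 - P) :=
    fun g => (Commute.one_right _).sub_right g.2
  let π1 := cutHom P c.idem hcP
  let π0 := cutHom (1 - P) hQ hcQ
  -- the two images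
  have h1 : H.map π1 = (genPairR k c.pb.gen).map c.rho := by
    rw [genPairR, MonoidHom.map_closure, MonoidHom.map_closure, Set.image_union, Set.image_union, ← Set.range_comp,
      ← Set.range_comp, ← Set.range_comp, ← Set.range_comp]
    congr 3 <;> funext t <;> apply Units.ext <;> simp only [Function.comp_apply, π1, coe_cutHom]
    · rw [c.coe_rho_upR, c.T_up_scalar, coe_ex (smul_sq ha.sq t t), add_mul, one_mul, smul_mul_assoc]; abel
    · rw [c.coe_rho_loR, c.T_lo_scalar, coe_ex (smul_sq hb.sq t t), add_mul, one_mul, smul_mul_assoc]; abel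
  have haQ : Commute a (1 - P) := (Commute.one_right a).sub_right c.comm_a
  have hbQ : Commute b (1 - P) := (Commute.one_right b).sub_right c.comm_b
  have sqQ : ∀ {z : Module.End k M}, z * z = 0 → Commute z (1 - P) → z * (1 - P) * (z * (1 - P)) = 0 := by
    intro z hz hzc
    rw [mul_assoc, ← mul_assoc (1 - P), ← hzc.eq, ← mul_assoc, ← mul_assoc, hz, zero_mul, zero_mul]
  obtain ⟨F, hF, hlev⟩ := exists_flag (sqQ ha.sq haQ) (sqQ hb.sq hbQ) (by
    rw [mul_assoc, ← mul_assoc (1 - P), ← hbQ.eq, mul_assoc b, hQ, ← mul_assoc]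
    exact c.nil)
  have h0 : H.map π0 ≤ S5061.level F hF 1 := by
    rw [MonoidHom.map_closure, Subgroup.closure_le]
    rintro _ ⟨_, ⟨t, rfl⟩ | ⟨t, rfl⟩, rfl⟩
    · rw [show π0 ⟨ex (t • a), hca t⟩ = ex (t • (a * (1 - P))) from Units.ext (by
        rw [coe_cutHom, coe_ex (smul_sq (sqQ ha.sq haQ) t t), coe_ex (smul_sq ha.sq t t), add_mul, one_mul,
          smul_mul_assoc]
        abel)]
      exact (hlev t).1
    · rw [show π0 ⟨ex (t • b), hcb t⟩ = ex (t • (b * (1 - P))) from Units.ext (by
        rw [coe_cutHom, coe_ex (smul_sq (sqQ hb.sq hbQ) t t), coe_ex (smul_sq hb.sq t t), add_mul, one_mul,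
          smul_mul_assoc]
        abel)]
      exact (hlev t).2
  obtain ⟨n, hn⟩ := hF.bot
  refine ⟨n, fun g hg => ?_⟩
  have hmem : c.rho g ∈ der (H.map π1) n := by rw [h1, der_map]; exact Subgroup.mem_map_of_mem _ hg
  rw [der_map] at hmem
  obtain ⟨x, hx, hxe⟩ := hmem
  have hone : π0 x = 1 := by
    have := der_le_level h0 n (der_map π0 H n ▸ Subgroup.mem_map_of_mem π0 hx)
    rwa [S5061.level_bot hF (le_bot_iff.1 (hn ▸ hF.anti Nat.lt_two_pow_self.le)), Subgroup.mem_bot] at this
  have hsplit : (π1 x : Module.End k M) = ((x : LinearMap.GeneralLinearGroup k M) : Module.End k M) := by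
    have e := congrArg (fun u : LinearMap.GeneralLinearGroup k M => (u : Module.End k M)) hone
    simp only [π0, coe_cutHom, Units.val_one, sub_sub_cancel, mul_sub, mul_one] at e
    rw [coe_cutHom]
    calc _ = ((x : LinearMap.GeneralLinearGroup k M) : Module.End k M) * P + (1 - P) := rfl
      _ = _ := by rw [← sub_eq_zero] at e ⊢; rw [← neg_eq_zero]; rw [← e]; abel
  rw [← hxe, show π1 x = (x : LinearMap.GeneralLinearGroup k M) from Units.ext hsplit]
  exact hHG x (der_le H n hx)

end Corner

end Cfsg.Agent.QuadRoot
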