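import Cfsg.Agent.Lib.QuadRoot.QuasiSimple

/-!
Quadratic elements of arbitrary rank.
* `split` : an element opposite to a minimal one splits off a minimal piece
* `flat_centralizes` : an element opposite to no minimal one centralises `sigmaJoin G`
* `exists_split` : every member is a sum of pieces which are minimal or centralise `sigmaJoin G`
-/

set_option autoImplicit false
set_option linter.unusedSectionVars false
set_option linter.unusedSimpArgs false

namespace Cfsg.Agent.QuadRoot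

open Cfsg Module
open scoped MatrixGroups commutatorElement

universe u v

variable {k : Type u} [Field k] {M : Type v} [AddCommGroup M] [Module k M] [FiniteDimensional k M]
  {G : Subgroup (LinearMap.GeneralLinearGroup k M)} {a b q : Module.End k M}

local notation "GLM" => LinearMap.GeneralLinearGroup k M
local notation "ΣG" => quadraticRootSubgroups G

theorem split (hk2 : ringChar k ≠ 2) (hk3 : Nat.card k ≠ 3) (ha : InG G a) (hb : Dmin G b) (h : Opp a b) :
    ∃ P : Module.End k M, P * P = P ∧ Commute a P ∧ Dmin G (a * P) ∧ InG G (a * (1 - P)) ∧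
      finrank k (LinearMap.range (a * (1 - P))) < finrank k (LinearMap.range a) := by
  obtain ⟨L, _, _, _, ⟨c⟩⟩ := exists_corner ha.sq hb.inG.sq h
  obtain ⟨h1, hne, hle⟩ := corner_mixed hk2 hk3 c ha hb
  refine ⟨c.T 1, c.idem, c.comm_a, hb.of_rank_le h1 hne hle, ?_, ?_⟩
  · rw [mul_sub, mul_one, sub_eq_add_neg]
    refine ha.add h1.neg ?_ ?_
    · rw [mul_neg, ← mul_assoc, ha.sq, zero_mul, neg_zero]
    · rw [neg_mul, c.comm_a.eq, mul_assoc, ha.sq, mul_zero, neg_zero]
  · have hadd := finrank_map_add (c.T 1) (LinearMap.range a)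
    rw [← LinearMap.range_comp, ← Module.End.mul_eq_comp, ← c.comm_a.eq] at hadd
    have hsub : LinearMap.range (a * (1 - c.T 1)) ≤ LinearMap.range a ⊓ LinearMap.ker (c.T 1) := by
      refine le_inf (LinearMap.range_comp_le_range _ _) ?_
      rw [LinearMap.range_le_ker_iff, ← Module.End.mul_eq_comp, ← mul_assoc, ← c.comm_a.eq, mul_assoc, mul_sub,
        mul_one, c.idem, sub_self, mul_zero]
    have hpos : finrank k (LinearMap.range (a * c.T 1)) ≠ 0 := fun e =>
      hne (LinearMap.range_eq_bot.1 (Submodule.finrank_eq_zero.1 e))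
    have := Submodule.finrank_mono hsub
    omega

/-- Conjugation as a linear map. -/
def cjLin (g : GLM) : Module.End k M →ₗ[k] Module.End k M where
  toFun := cj g
  map_add' x y := cj_add g x y
  map_smul' c x := cj_smul g x c

/-- The elements `x` with `e x e = 0` for every minimal `e`. -/
def flatSpace (G : Subgroup GLM) : Submodule k (Module.End k M) where
  carrier := {x | ∀ e, Dmin G e → e * x * e = 0}
  zero_mem' := fun e _ => by simp
  add_mem' := fun hx hy e he => by rw [mul_add, add_mul, hx e he, hy e he, add_zero]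
  smul_mem' := fun c x hx e he => by rw [mul_smul_comm, smul_mul_assoc, hx e he, smul_zero]

/-- The span of the minimal elements. -/
def minSpan (G : Subgroup GLM) : Submodule k (Module.End k M) := Submodule.span k {e | Dmin G e}

theorem cj_mem_flatSpace {g : GLM} (hg : g ∈ G) {x : Module.End k M} (hx : x ∈ flatSpace G) :
    cj g x ∈ flatSpace G := by
  intro e he
  have h := congrArg (cj g) (hx _ (he.conj (inv_mem hg)))
  have e1 : cj g (cj g⁻¹ e) = e := by rw [cj_cj, mul_inv_cancel]; simp [cj]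
  rwa [cj_mul, cj_mul, cj_zero, e1] at h

theorem cj_mem_minSpan {g : GLM} (hg : g ∈ G) {x : Module.End k M} (hx : x ∈ minSpan G) : cj g x ∈ minSpan G := by
  have hle : minSpan G ≤ (minSpan G).comap (cjLin g) :=
    Submodule.span_le.2 fun e he => Submodule.subset_span (Dmin.conj he hg)
  exact hle hx

/-- The elements of `G` acting trivially on `minSpan G` modulo `flatSpace G`. -/
def flatKernel (G : Subgroup GLM) : Subgroup GLM where
  carrier := {g | g ∈ G ∧ ∀ x ∈ minSpan G, cj g x - x ∈ minSpan G ⊓ flatSpace G}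
  one_mem' := ⟨one_mem _, fun x _ => by rw [show cj 1 x = x by simp [cj], sub_self]; exact zero_mem _⟩
  mul_mem' := fun {g h} hg hh => ⟨mul_mem hg.1 hh.1, fun x hx => by
    rw [show cj (g * h) x - x = cj g (cj h x - x) + (cj g x - x) by rw [cj_sub, cj_cj]; abel]
    exact add_mem ⟨cj_mem_minSpan hg.1 (hh.2 x hx).1, cj_mem_flatSpace hg.1 (hh.2 x hx).2⟩ (hg.2 x hx)⟩
  inv_mem' := fun {g} hg => ⟨inv_mem hg.1, fun x hx => by
    rw [show cj g⁻¹ x - x = -cj g⁻¹ (cj g x - x) by rw [cj_sub, cj_inv_cj]; abel]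
    exact neg_mem ⟨cj_mem_minSpan (inv_mem hg.1) (hg.2 x hx).1, cj_mem_flatSpace (inv_mem hg.1) (hg.2 x hx).2⟩⟩

theorem flatKernel_conj : G ≤ Subgroup.normalizer (flatKernel G : Set GLM) := by
  refine RankOne.le_normalizer_of_conjBy_le fun g hg => ?_
  rintro _ ⟨h, hh, rfl⟩
  show g * h * g⁻¹ ∈ flatKernel G
  refine ⟨mul_mem (mul_mem hg hh.1) (inv_mem hg), fun x hx => ?_⟩
  have e : cj (g * h * g⁻¹) x - x = cj g (cj h (cj g⁻¹ x) - cj g⁻¹ x) := by
    rw [cj_sub, cj_cj, cj_cj, cj_cj, mul_inv_cancel]; simp [cj]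
  rw [e]
  have hy := hh.2 _ (cj_mem_minSpan (inv_mem hg) hx)
  exact ⟨cj_mem_minSpan hg hy.1, cj_mem_flatSpace hg hy.2⟩

theorem ex_mem_flatKernel (hk2 : ringChar k ≠ 2) (ha : InG G a) (h : ∀ e, Dmin G e → ¬ Opp e a) :
    ex a ∈ flatKernel G := by
  have h2 : (2 : k) ≠ 0 := Ring.two_ne_zero hk2
  have hflat : a ∈ flatSpace G := fun e he => unipotent_mixed hk2 ha he (h e he)
  let D : Module.End k M →ₗ[k] Module.End k M := LinearMap.mulLeft k a - LinearMap.mulRight k a
  have hD : ∀ x, D x = a * x - x * a := fun x => rfl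
  have hI : minSpan G ≤ (minSpan G ⊓ flatSpace G).comap D := by
    refine Submodule.span_le.2 fun e he => ?_
    show D e ∈ minSpan G ⊓ flatSpace G
    rw [hD]
    constructor
    · have h1 : cj (ex a) e - cj (ex (-a)) e = (2 : k) • (a * e - e * a) := by
        rw [cj_ex ha.sq, cj_ex (neg_sq' ha.sq), two_smul]
        simp [mul_add, add_mul, mul_sub, sub_mul]; abel
      have h1' : (2 : k) • (a * e - e * a) ∈ minSpan G := h1 ▸ sub_mem
        (Submodule.subset_span (Dmin.conj he ha.ex_mem)) (Submodule.subset_span (Dmin.conj he ha.neg.ex_mem))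
      simpa [smul_smul, inv_mul_cancel₀ h2] using Submodule.smul_mem _ (2 : k)⁻¹ h1'
    · have h1 : a - cj (ex e) a = a * e - e * a := by
        rw [cj_ex he.inG.sq]
        simp [mul_add, add_mul, mul_sub, sub_mul, hflat e he]
        abel
      rw [← h1]
      exact sub_mem hflat (cj_mem_flatSpace he.inG.ex_mem hflat)
  refine ⟨ha.ex_mem, fun x hx => ?_⟩
  have h1 : D x ∈ minSpan G ⊓ flatSpace G := hI hx
  have h3 : D (D x) ∈ minSpan G ⊓ flatSpace G := hI h1.1
  have h4 : (2 : k) • (cj (ex a) x - x) = (2 : k) • D x + D (D x) := by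
    rw [cj_ex ha.sq, hD, hD, two_smul, two_smul]
    simp [mul_add, add_mul, mul_sub, sub_mul, ← mul_assoc, ha.sq, mul_assoc x a a]
    abel
  have h5 := Submodule.smul_mem _ (2 : k)⁻¹ (h4 ▸ add_mem (Submodule.smul_mem _ (2 : k) h1) h3 :
    (2 : k) • (cj (ex a) x - x) ∈ minSpan G ⊓ flatSpace G)
  rwa [smul_smul, inv_mul_cancel₀ h2, one_smul] at h5

variable (hk2 : ringChar k ≠ 2) (hk3 : Nat.card k ≠ 3) (hirr : Reduced G)
include hk2 hk3 hirr

theorem sigmaJoin_perfect : ⁅sigmaJoin G, sigmaJoin G⁆ = sigmaJoin G := by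
  refine le_antisymm (Subgroup.commutator_le.2 fun x hx y hy =>
    mul_mem (mul_mem (mul_mem hx hy) (inv_mem hx)) (inv_mem hy)) ?_
  refine iSup₂_le fun B hB => ?_
  obtain ⟨D, hD, h⟩ := exists_partner hk2 hk3 hirr hB
  exact (member_le_derived hk2 hk3 hirr hB hD h).trans
    (Subgroup.commutator_mono (sup_le (le_sigmaJoin hB) (le_sigmaJoin hD))
      (sup_le (le_sigmaJoin hB) (le_sigmaJoin hD)))

theorem not_le_flatKernel {A : Subgroup GLM} (hA : A ∈ ΣG) : ¬ A ≤ flatKernel G := by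
  intro hle
  obtain ⟨e, he, rfl⟩ := mem_quadraticRootSubgroups.1 hA
  obtain ⟨d, hd, hop⟩ := exists_opp hk2 hk3 hirr he
  have h2 : (2 : k) ≠ 0 := Ring.two_ne_zero hk2
  have hmem : ∀ t : k, t ≠ 0 → cj (ex (t • e)) d - d ∈ flatSpace G := fun t ht =>
    ((hle (ex_mem_sameActionSubgroup he ((SameClass.refl he).smul ht))).2 d (Submodule.subset_span hd)).2
  have h1 := add_mem (hmem 1 one_ne_zero) (hmem (-1) (neg_ne_zero.2 one_ne_zero))
  have e1 : cj (ex ((1 : k) • e)) d - d + (cj (ex ((-1 : k) • e)) d - d) = (-2 : k) • (e * d * e) := by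
    rw [cj_ex (smul_sq he.inG.sq 1 1), cj_ex (smul_sq he.inG.sq (-1) (-1))]
    simp only [neg_smul, one_smul, mul_add, add_mul, mul_sub, sub_mul, neg_mul, mul_neg, neg_neg, mul_one, one_mul]
    module
  rw [e1] at h1
  have h3 := Submodule.smul_mem _ (-2 : k)⁻¹ h1
  rw [smul_smul, inv_mul_cancel₀ (neg_ne_zero.2 h2), one_smul] at h3
  refine hop ⟨3, ?_⟩
  calc (e * d) ^ 3 = e * (d * (e * d * e) * d) := by simp [pow_succ, mul_assoc]
    _ = 0 := by rw [h3 d hd, mul_zero]

theorem flat_centralizes (ha : InG G a) (h : ∀ e, Dmin G e → ¬ Opp e a) :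
    ex a ∈ Subgroup.centralizer (sigmaJoin G : Set GLM) := by
  set X := sigmaJoin G
  set K := flatKernel G
  have hKG : K ≤ G := fun g hg => hg.1
  have hKn : G ≤ Subgroup.normalizer (K : Set GLM) := flatKernel_conj
  have hY : ∀ A ∈ ΣG, ⁅K ⊓ X, A⁆ = ⊥ := by
    intro A hA
    set P := partGroup G A
    have hP : P ≤ X := partGroup_le
    have hXP : X ≤ Subgroup.normalizer (P : Set GLM) := RankOne.le_normalizer_of_conjBy_le fun g hg =>
      (partGroup_conj hk2 hk3 hirr hg).le
    have hAP : A ∈ part G A := ⟨hA, .refl⟩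
    have hperf : ⁅P, P⁆ = P := (Subgroup.isPerfect_iff (H := P)).1 (part_quasisimple hk2 hk3 hirr hA).1
    rcases normal_part hk2 hk3 hirr (N := K ⊓ P) (A := A) inf_le_right (RankOne.le_normalizer_of_conjBy_le
        fun g hg => by
          rw [RankOne.conjBy_inf, RankOne.conjBy_of_mem_normalizer (hKn (sigmaJoin_le (hP hg))),
            RankOne.conjBy_of_mem hg]) with hN | hN
    · exact absurd ((le_partGroup hAP).trans (hN.ge.trans inf_le_left : P ≤ K)) (not_le_flatKernel hk2 hk3 hirr hA)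
    have h1 : ⁅K ⊓ X, P⁆ ≤ K ⊓ P := le_inf
      ((Subgroup.commutator_mono inf_le_left le_rfl).trans
        (Subgroup.le_normalizer_iff_commutator_le_left.1 (hP.trans (sigmaJoin_le.trans hKn))))
      ((Subgroup.commutator_mono inf_le_right le_rfl).trans
        (Subgroup.le_normalizer_iff_commutator_le_right.1 hXP))
    have h2 : ⁅K ⊓ P, P⁆ = ⊥ := Subgroup.commutator_eq_bot_iff_le_centralizer.2
      (Subgroup.le_centralizer_iff.1 (iSup₂_le fun B hB => Subgroup.le_centralizer_iff.1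
        (Subgroup.commutator_eq_bot_iff_le_centralizer.1 (hN B hB))))
    have h3 : ⁅⁅K ⊓ X, P⁆, P⁆ = ⊥ := le_bot_iff.1 ((Subgroup.commutator_mono h1 le_rfl).trans h2.le)
    have h4 := Subgroup.commutator_commutator_eq_bot_of_rotate (H₁ := P) (H₂ := P) (H₃ := K ⊓ X)
      (by rwa [Subgroup.commutator_comm P (K ⊓ X)]) h3
    rw [hperf, Subgroup.commutator_comm] at h4
    exact le_bot_iff.1 ((Subgroup.commutator_mono le_rfl (le_partGroup hAP)).trans h4.le)
  have hYX : ⁅K ⊓ X, X⁆ = ⊥ := Subgroup.commutator_eq_bot_iff_le_centralizer.2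
    (Subgroup.le_centralizer_iff.1 (iSup₂_le fun A hA => Subgroup.le_centralizer_iff.1
      (Subgroup.commutator_eq_bot_iff_le_centralizer.1 (hY A hA))))
  set T := Subgroup.zpowers (ex a)
  have hT : T ≤ K := Subgroup.zpowers_le.2 (ex_mem_flatKernel hk2 ha h)
  have hTX : ⁅T, X⁆ ≤ K ⊓ X := le_inf
    ((Subgroup.commutator_mono hT le_rfl).trans
      (Subgroup.le_normalizer_iff_commutator_le_left.1 (sigmaJoin_le.trans hKn)))
    ((Subgroup.commutator_mono (hT.trans hKG) le_rfl).trans (Subgroup.le_normalizer_iff_commutator_le_right.1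
      (RankOne.le_normalizer_of_conjBy_le fun g hg => (sigmaJoin_conj hg).le)))
  have h3 : ⁅⁅T, X⁆, X⁆ = ⊥ := le_bot_iff.1 ((Subgroup.commutator_mono hTX le_rfl).trans hYX.le)
  have h4 := Subgroup.commutator_commutator_eq_bot_of_rotate (H₁ := X) (H₂ := X) (H₃ := T)
    (by rwa [Subgroup.commutator_comm X T]) h3
  rw [sigmaJoin_perfect hk2 hk3 hirr, Subgroup.commutator_comm] at h4
  exact Subgroup.commutator_eq_bot_iff_le_centralizer.1 h4 (Subgroup.mem_zpowers _)

theorem exists_split (ha : InG G a) : ∃ l : List (Module.End k M), l.sum = a ∧ ∀ q ∈ l, InG G q ∧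
    ((∃ E, q = a * E) ∧ ∃ E', q = E' * a) ∧
    (Dmin G q ∨ ∀ t : k, ex (t • q) ∈ Subgroup.centralizer (sigmaJoin G : Set GLM)) := by
  induction hn : finrank k (LinearMap.range a) using Nat.strong_induction_on generalizing a with
  | _ n ih =>
  by_cases hop : ∃ e, Dmin G e ∧ Opp a e
  · obtain ⟨e, he, hop⟩ := hop
    obtain ⟨P, hPP, hc, hP, hQ, hlt⟩ := split hk2 hk3 ha he hop
    obtain ⟨l, hl, hlq⟩ := ih _ (hn ▸ hlt) hQ rfl
    refine ⟨a * P :: l, by rw [List.sum_cons, hl, mul_sub, mul_one, add_sub_cancel], fun q hq => ?_⟩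
    rcases List.mem_cons.1 hq with rfl | hq
    · exact ⟨hP.inG, ⟨⟨P, rfl⟩, P, hc.eq⟩, Or.inl hP⟩
    obtain ⟨h1, ⟨⟨E, hE⟩, E', hE'⟩, h3⟩ := hlq q hq
    exact ⟨h1, ⟨⟨(1 - P) * E, by rw [hE, mul_assoc]⟩, E' * (1 - P), by
      rw [hE', ((Commute.one_right a).sub_right hc).eq, mul_assoc]⟩, h3⟩
  · push Not at hop
    refine ⟨[a], by simp, fun q hq => ?_⟩
    rw [List.mem_singleton.1 hq]
    refine ⟨ha, ⟨⟨1, by simp⟩, 1, by simp⟩, Or.inr fun t => ?_⟩
    refine flat_centralizes hk2 hk3 hirr (ha.smul t) fun e he ho => hop e he (Opp.symm fun hnil => ho ?_)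
    obtain ⟨m, hm⟩ := hnil
    exact ⟨m, by rw [mul_smul_comm, smul_pow, hm, smul_zero]⟩

end Cfsg.Agent.QuadRoot
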