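import Cfsg.Agent.Lib.QuadRoot.Corner
import Cfsg.Agent.Lib.QuadPair.GenDerived

/-!
Two minimal elements `a`, `b` with `a b` not nilpotent.
* `Model G a b L` : a `Corner` over a field `L` which exhausts `a` and `b`, with all `rho g` in `G`
* `exists_model`
* `opp_iff` : `Opp a b` depends only on kernels and ranges; `Opp.of_class`
-/

set_option autoImplicit false
set_option linter.unusedSectionVars false

namespace Cfsg.Agent.QuadRoot

open Cfsg Module
open Cfsg.Agent.QuadPair (upR loR genPairR coe_upR coe_loR upR_inv)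
open scoped MatrixGroups

universe u v

variable {k : Type u} [Field k] {M : Type v} [AddCommGroup M] [Module k M]
  {G : Subgroup (LinearMap.GeneralLinearGroup k M)}

/-- The image of `SL₂(L)` attached to a pair of minimal elements. -/
structure Model (G : Subgroup (LinearMap.GeneralLinearGroup k M)) (a b : Module.End k M) (L : Type u)
    [Field L] [Algebra k L] extends Corner a b L where
  whole_a : a * T 1 = a
  whole_b : b * T 1 = b
  mem : ∀ g : SL(2, L), toCorner.rho g ∈ G
  top : genPairR k pb.gen = ⊤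

theorem exists_annihilator {L : Type*} [CommRing L] [Algebra k L] [FiniteDimensional k L] {x : L}
    (hx : ¬ IsUnit x) : ∃ y, y ≠ 0 ∧ x * y = 0 := by
  by_contra! h
  refine hx ?_
  obtain ⟨y, hy⟩ := (LinearMap.injective_iff_surjective (f := LinearMap.mulLeft k x)).1
    (LinearMap.ker_eq_bot.1 (LinearMap.ker_eq_bot'.2 fun z hz => by_contra fun hz0 => h z hz0 hz)) 1
  exact isUnit_iff_exists_inv.2 ⟨y, hy⟩

namespace Corner

variable {L : Type u} [CommRing L] [Algebra k L] {a b : Module.End k M} (c : Corner a b L)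

theorem T_one_eq : ∃ W, c.T 1 = (a * b + b * a) * W := by
  obtain ⟨β, hβ⟩ := c.unit.exists_right_inv
  refine ⟨c.T 1 * c.T !![β, 0; 0, β], ?_⟩
  have e : (1 : Matrix (Fin 2) (Fin 2) L) = (!![0, 1; 0, 0] * !![0, 0; c.pb.gen, 0]
      + !![0, 0; c.pb.gen, 0] * !![0, 1; 0, 0]) * !![β, 0; 0, β] := by
    ext i j; fin_cases i <;> fin_cases j <;> simp [Matrix.mul_apply, Fin.sum_univ_two, hβ]
  conv_lhs => rw [e]
  rw [c.map_mul, map_add, c.map_mul, c.map_mul, c.map_a, c.map_b, ← mul_assoc (a * b + b * a)]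
  congr 1
  rw [add_mul, mul_assoc a b, mul_assoc b a, mul_assoc a, mul_assoc b (c.T 1), ← mul_assoc (c.T 1) b,
    ← c.comm_b.eq, ← mul_assoc (c.T 1) a, ← c.comm_a.eq, mul_assoc b (c.T 1), mul_assoc a (c.T 1), c.idem]

end Corner

variable [FiniteDimensional k M]

/-- A non-unit in `k[α]` contradicts the minimality of `b`. -/
theorem nonfield_false (hk2 : ringChar k ≠ 2) {a b : Module.End k M} {L : Type u} [CommRing L] [Nontrivial L]
    [Algebra k L] (c : Corner a b L) (hb : Dmin G b) {x : L} (hx0 : x ≠ 0) (hxu : ¬ IsUnit x)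
    (hxmem : c.rho (upR x) ∈ G) (ih : ∀ {b' : Module.End k M} {L' : Type u} [CommRing L'] [Nontrivial L']
      [Algebra k L'] (c' : Corner b b' L'), Dmin G b' →
      finrank k (LinearMap.range (c'.T 1)) < finrank k (LinearMap.range (c.T 1)) → b * c'.T 1 = b) : False := by
  set α := c.pb.gen
  haveI := c.pb.finite
  obtain ⟨y, hy0, hxy⟩ := exists_annihilator (k := k) hxu
  set g := c.rho (upR x)
  have hgG : g ∈ G := hxmem
  set B : Matrix (Fin 2) (Fin 2) L := !![0, 0; α, 0] with hBdef
  set X : Matrix (Fin 2) (Fin 2) L := !![x * α, -(x * x * α); 0, -(x * α)] with hXdef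
  have hBy : c.T !![0, 0; y * α, 0] = c.T !![y, 0; 0, y] * b := by
    rw [c.T_mul_b]; congr 1
    ext i j; fin_cases i <;> fin_cases j <;> simp [B, α]
  have hbne : c.T !![0, 0; y * α, 0] ≠ 0 := fun h => hy0 ((c.unit.mul_left_eq_zero).1
    (by simpa using congrFun (congrFun (c.inj _ h) 1) 0))
  -- the conjugate of `b`
  have hb'e : cj g b = b + c.T X := by
    rw [cj, show g⁻¹ = c.rho (upR (-x)) by rw [← upR_inv, map_inv], c.coe_rho_upR, c.coe_rho_upR]
    have : (!![0, -x; 0, 0] : Matrix (Fin 2) (Fin 2) L) = - !![0, x; 0, 0] := by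
      ext i j; fin_cases i <;> fin_cases j <;> simp
    rw [this, map_neg, add_mul, one_mul, c.T_mul_b, mul_add, mul_one, add_mul, mul_neg, mul_neg, c.b_mul_T,
      ← c.map_mul, add_assoc, add_right_inj, ← map_neg, ← map_neg, ← map_add, ← map_add]
    congr 1
    ext i j; fin_cases i <;> fin_cases j <;>
      simp [X, B, Matrix.mul_apply, Fin.sum_univ_two] <;> ring
  have hb' : Dmin G (b + c.T X) := hb'e ▸ hb.conj hgG
  set b' := b + c.T X
  have e1 : b * b' = c.T (B * X) := by rw [mul_add, hb.inG.sq, zero_add, c.b_mul_T]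
  have e2 : b' * b = c.T (X * B) := by rw [add_mul, hb.inG.sq, zero_add, c.T_mul_b]
  by_cases hopp : Opp b b'
  · -- smaller part
    obtain ⟨L', _, _, _, ⟨c'⟩⟩ := exists_corner hb.inG.sq hb'.inG.sq hopp
    have hR : b * b' + b' * b = c.T !![-(x * x * α * α), 0; 0, -(x * x * α * α)] := by
      rw [e1, e2, ← map_add]; congr 1
      ext i j; fin_cases i <;> fin_cases j <;> simp [X, B, Matrix.mul_apply, Fin.sum_univ_two] <;> ring
    obtain ⟨W, hW⟩ := c'.T_one_eq
    rw [hR] at hW
    have h1 : c.T 1 * c'.T 1 = c'.T 1 := by rw [hW, ← mul_assoc, c.one_mul_T]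
    have h2 : c.T !![y, 0; 0, y] * c'.T 1 = 0 := by
      rw [hW, ← mul_assoc, ← c.map_mul]
      have : (!![y, 0; 0, y] * !![-(x * x * α * α), 0; 0, -(x * x * α * α)] : Matrix (Fin 2) (Fin 2) L) = 0 := by
        have : y * (x * x * α * α) = 0 := by linear_combination (x * α * α) * hxy
        ext i j; fin_cases i <;> fin_cases j <;> simp [Matrix.mul_apply, Fin.sum_univ_two, this]
      rw [this, map_zero, zero_mul]
    have hlt : finrank k (LinearMap.range (c'.T 1)) < finrank k (LinearMap.range (c.T 1)) := by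
      refine Submodule.finrank_lt_finrank_of_lt (lt_of_le_of_ne ?_ fun he => hy0 ?_)
      · rw [← h1, Module.End.mul_eq_comp]; exact LinearMap.range_comp_le_range _ _
      · have hz : c.T !![y, 0; 0, y] = 0 := by
          rw [← c.T_mul_one]
          refine LinearMap.ext fun v => ?_
          obtain ⟨w, hw⟩ : c.T 1 v ∈ LinearMap.range (c'.T 1) := he ▸ LinearMap.mem_range_self _ v
          show c.T !![y, 0; 0, y] (c.T 1 v) = 0
          rw [← hw]
          exact LinearMap.congr_fun h2 w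
        simpa using congrFun (congrFun (c.inj _ hz) 0) 0
    have hbP := ih c' hb' hlt
    refine hbne ?_
    calc c.T !![0, 0; y * α, 0] = c.T !![y, 0; 0, y] * (b * c'.T 1) := by rw [hbP, hBy]
      _ = c.T !![y, 0; 0, y] * c'.T 1 * b := by rw [c'.comm_a.eq, mul_assoc]
      _ = 0 := by rw [h2, zero_mul]
  · obtain ⟨h3, h4⟩ := unipotent_pair hk2 hb hb' hopp
    have hxx : x * x = 0 := by
      rw [e1, c.T_mul_b] at h3
      have := congrFun (congrFun (c.inj _ h3) 1) 0
      simp [X, B, Matrix.mul_apply, Fin.sum_univ_two] at this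
      exact ((c.unit.mul c.unit).mul c.unit).mul_left_eq_zero.1 (by linear_combination this)
    have hzG := hb.inG.bracket hb'.inG h3 h4
    set D : Matrix (Fin 2) (Fin 2) L := !![2 * x * α, 0; 0, 2 * x * α]
    have hz : b * b' - b' * b = c.T D * b := by
      rw [e1, e2, ← map_sub, c.T_mul_b]; congr 1
      ext i j; fin_cases i <;> fin_cases j <;>
        simp [D, X, B, Matrix.mul_apply, Fin.sum_univ_two, hxx] <;> ring
    rw [hz] at hzG
    have hne : c.T D * b ≠ 0 := fun h => hx0 (by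
      rw [c.T_mul_b] at h
      have := congrFun (congrFun (c.inj _ h) 1) 0
      simp [D, B, Matrix.mul_apply, Fin.sum_univ_two] at this
      exact ((((QuadPair.two_unit (Ring.two_ne_zero hk2))).mul c.unit).mul c.unit).mul_left_eq_zero.1
        (by linear_combination this))
    have hd := hb.min _ hzG hne
    rw [Module.End.mul_eq_comp, LinearMap.range_comp] at hd
    have hadd := finrank_map_add (c.T D) (LinearMap.range b)
    have hker : LinearMap.range b ⊓ LinearMap.ker (c.T D) = ⊥ := Submodule.finrank_eq_zero.1 (by omega)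
    refine hbne (LinearMap.ext fun v => ?_)
    have hmem : c.T !![0, 0; y * α, 0] v ∈ LinearMap.range b ⊓ LinearMap.ker (c.T D) := by
      refine ⟨?_, ?_⟩
      · have : c.T !![0, 0; y * α, 0] = b * c.T !![y, 0; 0, y] := by
          rw [c.b_mul_T]; congr 1
          ext i j; fin_cases i <;> fin_cases j <;> simp [B, α, mul_comm]
        rw [this]; exact LinearMap.mem_range_self b _
      · rw [SetLike.mem_coe, LinearMap.mem_ker, ← Module.End.mul_apply, ← c.map_mul,
          show D * !![0, 0; y * α, 0] = 0 by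
            have : 2 * x * α * (y * α) = 0 := by linear_combination (2 * α * α) * hxy
            ext i j; fin_cases i <;> fin_cases j <;> simp [D, Matrix.mul_apply, Fin.sum_univ_two, this],
          map_zero, LinearMap.zero_apply]
    rw [hker, Submodule.mem_bot] at hmem
    exact hmem

theorem corner_field (hk2 : ringChar k ≠ 2) (hk3 : Nat.card k ≠ 3) : ∀ (n : ℕ) {a b : Module.End k M}
    {L : Type u} [CommRing L] [Nontrivial L] [Algebra k L] (c : Corner a b L), Dmin G a → Dmin G b →
    finrank k (LinearMap.range (c.T 1)) = n → IsField L ∧ a * c.T 1 = a ∧ b * c.T 1 = b ∧ ∀ g, c.rho g ∈ G := by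
  intro n
  induction n using Nat.strong_induction_on with
  | _ n ih =>
  intro a b L _ _ _ c ha hb hn
  obtain ⟨N, hN⟩ := c.exists_level ha.inG hb.inG
  set α := c.pb.gen
  have hα0 : α ≠ 0 := c.unit.ne_zero
  rcases QuadPair.derived_dichotomy c.pb hk2 hk3 c.unit with ⟨hF, hall⟩ | ⟨-, hx⟩
  · have hmem : ∀ x, c.rho (upR x) ∈ G ∧ c.rho (loR x) ∈ G :=
      fun x => ⟨hN _ (hall N x).1, hN _ (hall N x).2⟩
    have hsq : ∀ {z : Module.End k M}, z * z = 0 → Commute z (c.T 1) → z * c.T 1 * (z * c.T 1) = 0 := by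
      intro z hz hzc
      rw [mul_assoc, ← mul_assoc (c.T 1), ← hzc.eq, ← mul_assoc, ← mul_assoc, hz, zero_mul, zero_mul]
    have hA : InG G (a * c.T 1) := ⟨hsq ha.inG.sq c.comm_a, fun t => by
      rw [show ex (t • (a * c.T 1)) = c.rho (upR (algebraMap k L t)) from Units.ext (by
        rw [coe_ex (smul_sq (hsq ha.inG.sq c.comm_a) t t), c.coe_rho_upR, c.T_up_scalar])]
      exact (hmem _).1⟩
    have hB : InG G (b * c.T 1) := ⟨hsq hb.inG.sq c.comm_b, fun t => by
      rw [show ex (t • (b * c.T 1)) = c.rho (loR (algebraMap k L t * α)) from Units.ext (by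
        rw [coe_ex (smul_sq (hsq hb.inG.sq c.comm_b) t t), c.coe_rho_loR, c.T_lo_scalar])]
      exact (hmem _).2⟩
    have hwhole : ∀ {z : Module.End k M}, Dmin G z → Commute z (c.T 1) → InG G (z * c.T 1) → z * c.T 1 ≠ 0 →
        z * c.T 1 = z := by
      intro z hz hzc hzG hne
      have hle : LinearMap.range (z * c.T 1) ≤ LinearMap.range z := LinearMap.range_comp_le_range _ _
      have he := Submodule.eq_of_le_of_finrank_le hle (hz.min _ hzG hne)
      refine LinearMap.ext fun v => ?_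
      obtain ⟨w, hw⟩ : z v ∈ LinearMap.range (z * c.T 1) := he ▸ LinearMap.mem_range_self z v
      rw [hzc.eq] at hw ⊢
      show c.T 1 (z v) = z v
      rw [← hw, Module.End.mul_apply, ← Module.End.mul_apply, c.idem]
    refine ⟨hF, hwhole ha c.comm_a hA fun h => ?_, hwhole hb c.comm_b hB fun h => ?_, ?_⟩
    · rw [← c.map_a] at h
      simpa using congrFun (congrFun (c.inj _ h) 0) 1
    · rw [← c.map_b] at h
      exact hα0 (by simpa using congrFun (congrFun (c.inj _ h) 1) 0)
    · letI := hF.toField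
      intro g
      have htop : (⊤ : Subgroup SL(2, L)) ≤ G.comap c.rho := by
        rw [← RankOne.lower_sup_upper]
        refine sup_le (fun y hy => ?_) fun y hy => ?_
        · obtain ⟨t, rfl⟩ := RankOne.mem_lowerUnipotentSL2.1 hy
          exact (hmem t).2
        · obtain ⟨t, rfl⟩ := RankOne.mem_upperUnipotentSL2.1 hy
          exact (hmem t).1
      exact htop (Subgroup.mem_top g)
  obtain ⟨x, hx0, hxu, hxmem⟩ := hx N
  exact (nonfield_false hk2 c hb hx0 hxu (hN _ hxmem) fun c' hb' hlt =>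
    (ih _ (hn ▸ hlt) c' hb hb' rfl).2.1).elim

/-- An element `a` of arbitrary rank against a minimal `b`. -/
theorem corner_mixed (hk2 : ringChar k ≠ 2) (hk3 : Nat.card k ≠ 3) {a b : Module.End k M} {L : Type u}
    [CommRing L] [Nontrivial L] [Algebra k L] (c : Corner a b L) (ha : InG G a) (hb : Dmin G b) :
    InG G (a * c.T 1) ∧ a * c.T 1 ≠ 0 ∧
      finrank k (LinearMap.range (a * c.T 1)) ≤ finrank k (LinearMap.range b) := by
  obtain ⟨N, hN⟩ := c.exists_level ha hb.inG
  rcases QuadPair.derived_dichotomy c.pb hk2 hk3 c.unit with ⟨-, hall⟩ | ⟨-, hx⟩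
  · have hsq : a * c.T 1 * (a * c.T 1) = 0 := by
      rw [mul_assoc, ← mul_assoc (c.T 1), ← c.comm_a.eq, ← mul_assoc, ← mul_assoc, ha.sq, zero_mul, zero_mul]
    refine ⟨⟨hsq, fun t => ?_⟩, fun h => ?_, ?_⟩
    · rw [show ex (t • (a * c.T 1)) = c.rho (upR (algebraMap k L t)) from Units.ext (by
        rw [coe_ex (smul_sq hsq t t), c.coe_rho_upR, c.T_up_scalar])]
      exact hN _ (hall N _).1
    · rw [← c.map_a] at h
      simpa using congrFun (congrFun (c.inj _ h) 0) 1
    · obtain ⟨β, hβ⟩ := c.unit.exists_right_inv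
      have e : a * c.T 1 = c.T !![0, β; 0, 0] * b * a := by
        rw [c.T_mul_b, c.T_mul_a, ← c.map_a]; congr 1
        ext i j; fin_cases i <;> fin_cases j <;> simp [Matrix.mul_apply, Fin.sum_univ_two, mul_comm β, hβ]
      rw [e, mul_assoc, Module.End.mul_eq_comp, LinearMap.range_comp, Module.End.mul_eq_comp]
      exact (Submodule.finrank_map_le _ _).trans (Submodule.finrank_mono (LinearMap.range_comp_le_range _ _))
  · obtain ⟨x, hx0, hxu, hxmem⟩ := hx N
    exact (nonfield_false hk2 c hb hx0 hxu (hN _ hxmem) fun c' hb' _ =>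
      (corner_field hk2 hk3 _ c' hb hb' rfl).2.1).elim

theorem exists_model (hk2 : ringChar k ≠ 2) (hk3 : Nat.card k ≠ 3) {a b : Module.End k M} (ha : Dmin G a)
    (hb : Dmin G b) (h : Opp a b) :
    ∃ (L : Type u) (_ : Field L) (_ : Algebra k L), Nonempty (Model G a b L) := by
  obtain ⟨L, _, _, _, ⟨c⟩⟩ := exists_corner ha.inG.sq hb.inG.sq h
  obtain ⟨hF, h1, h2, h3⟩ := corner_field hk2 hk3 _ c ha hb rfl
  letI := hF.toField
  exact ⟨L, inferInstance, inferInstance,
    ⟨{ toCorner := c, whole_a := h1, whole_b := h2, mem := h3,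
       top := QuadPair.genPairR_unipotents_of_field c.pb hk2 hk3 c.unit.ne_zero }⟩⟩

theorem Opp.inf_eq_bot (hk2 : ringChar k ≠ 2) (hk3 : Nat.card k ≠ 3) {a b : Module.End k M} (ha : Dmin G a)
    (hb : Dmin G b) (h : Opp a b) : LinearMap.range a ⊓ LinearMap.ker b = ⊥ := by
  obtain ⟨L, _, _, ⟨c⟩⟩ := exists_model hk2 hk3 ha hb h
  refine (Submodule.eq_bot_iff _).2 ?_
  rintro _ ⟨⟨w, rfl⟩, hv⟩
  rw [SetLike.mem_coe, LinearMap.mem_ker] at hv
  have e : c.T !![0, c.pb.gen⁻¹; 0, 0] * b * a = a := by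
    rw [c.T_mul_b, c.T_mul_a]
    conv_rhs => rw [← c.whole_a, ← c.map_a]
    congr 1
    ext i j; fin_cases i <;> fin_cases j <;>
      simp [Matrix.mul_apply, Fin.sum_univ_two, inv_mul_cancel₀ c.unit.ne_zero]
  rw [← e, Module.End.mul_apply, Module.End.mul_apply, hv, map_zero]

theorem opp_iff (hk2 : ringChar k ≠ 2) (hk3 : Nat.card k ≠ 3) {a b : Module.End k M} (ha : Dmin G a)
    (hb : Dmin G b) : Opp a b ↔
      LinearMap.range a ⊓ LinearMap.ker b = ⊥ ∧ LinearMap.range b ⊓ LinearMap.ker a = ⊥ := by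
  refine ⟨fun h => ⟨h.inf_eq_bot hk2 hk3 ha hb, h.symm.inf_eq_bot hk2 hk3 hb ha⟩, fun h hn => ?_⟩
  obtain ⟨hab, hba⟩ := unipotent_pair hk2 ha hb (not_not.2 hn)
  have e1 := @rank_mul_add k _ M _ _ _ a b
  have l1 := Submodule.finrank_mono (range_mul_le hba)
  rw [h.1, finrank_bot] at l1
  rw [h.2, finrank_bot] at e1
  exact hb.ne (LinearMap.range_eq_bot.1 (Submodule.finrank_eq_zero.1 (by omega)))

theorem Opp.of_class (hk2 : ringChar k ≠ 2) (hk3 : Nat.card k ≠ 3) {a b a' b' : Module.End k M}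
    (ha : Dmin G a) (hb : Dmin G b) (h : Opp a b) (ha' : SameClass G a a') (hb' : SameClass G b b') :
    Opp a' b' := by
  rw [opp_iff hk2 hk3 ha hb] at h
  rw [opp_iff hk2 hk3 ha'.dmin hb'.dmin, ha'.range, ha'.ker, hb'.range, hb'.ker]
  exact h

theorem not_opp_of_class (hk2 : ringChar k ≠ 2) (hk3 : Nat.card k ≠ 3) {a b a' b' : Module.End k M}
    (ha : Dmin G a) (hb : Dmin G b) (h : ¬ Opp a b) (ha' : SameClass G a a') (hb' : SameClass G b b') :
    ¬ Opp a' b' := fun h' => h (h'.of_class hk2 hk3 ha'.dmin hb'.dmin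
      ⟨ha, ha'.ker.symm, ha'.range.symm⟩ ⟨hb, hb'.ker.symm, hb'.range.symm⟩)

theorem scalarFamily_ex {a : Module.End k M} (h : a * a = 0) :
    scalarFamily (ex a) = Set.range fun c : k => ex (c • a) := by
  ext τ
  constructor
  · rintro ⟨c, hc⟩
    rw [coe_sub_ex h] at hc
    exact ⟨c, Units.ext ((coe_ex (smul_sq h c c)).trans hc.symm)⟩
  · rintro ⟨c, rfl⟩
    exact ⟨c, (coe_ex (smul_sq h c c)).trans (by rw [coe_sub_ex h])⟩

theorem unipotent_closure {a b : Module.End k M} (ha : a * a = 0) (hb : b * b = 0) (h : IsNilpotent (a * b)) :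
    IsUnipotentOn (Subgroup.closure (scalarFamily (ex a) ∪ scalarFamily (ex b))) := by
  obtain ⟨F, hF, hlev⟩ := exists_flag ha hb h
  refine S5061.nil_iff_isUnipotentOn.1 ⟨F, hF, (Subgroup.closure_le _).2 ?_⟩
  rw [scalarFamily_ex ha, scalarFamily_ex hb]
  rintro _ (⟨c, rfl⟩ | ⟨c, rfl⟩)
  · exact (hlev c).1
  · exact (hlev c).2

namespace Model

variable {L : Type u} [Field L] [Algebra k L] {a b : Module.End k M} (c : Model G a b L)

theorem map_a' : c.T !![0, 1; 0, 0] = a := c.map_a.trans c.whole_a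

theorem map_b' : c.T !![0, 0; c.pb.gen, 0] = b := c.map_b.trans c.whole_b

theorem rho_injective : Function.Injective c.rho := by
  refine (injective_iff_map_eq_one _).2 fun g hg => Subtype.ext ?_
  have h := c.sub_one_rho g
  rw [hg, Units.val_one, sub_self] at h
  exact sub_eq_zero.1 (c.inj _ h.symm)

include c in
theorem sq_a : a * a = 0 := by
  rw [← c.map_a', ← c.map_mul, show (!![0, 1; 0, 0] * !![0, 1; 0, 0] : Matrix (Fin 2) (Fin 2) L) = 0 by
    ext i j; fin_cases i <;> fin_cases j <;> simp, map_zero]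

include c in
theorem sq_b : b * b = 0 := by
  rw [← c.map_b', ← c.map_mul, show (!![0, 0; c.pb.gen, 0] * !![0, 0; c.pb.gen, 0] : Matrix (Fin 2) (Fin 2) L) = 0
    by ext i j; fin_cases i <;> fin_cases j <;> simp, map_zero]

theorem rho_upR_scalar (t : k) : c.rho (upR (algebraMap k L t)) = ex (t • a) :=
  Units.ext (by rw [c.coe_rho_upR, c.T_up_scalar, c.whole_a, coe_ex (smul_sq c.sq_a t t)])

theorem rho_loR_scalar (t : k) : c.rho (loR (algebraMap k L t * c.pb.gen)) = ex (t • b) :=
  Units.ext (by rw [c.coe_rho_loR, c.T_lo_scalar, c.whole_b, coe_ex (smul_sq c.sq_b t t)])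

theorem range_rho : c.rho.range = Subgroup.closure (scalarFamily (ex a) ∪ scalarFamily (ex b)) := by
  rw [MonoidHom.range_eq_map, ← c.top, genPairR, MonoidHom.map_closure, Set.image_union, ← Set.range_comp,
    ← Set.range_comp, scalarFamily_ex c.sq_a, scalarFamily_ex c.sq_b]
  congr 3 <;> funext t
  · exact c.rho_upR_scalar t
  · exact c.rho_loR_scalar t

end Model

end Cfsg.Agent.QuadRoot
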