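import Cfsg.Agent.Lib.QuadRoot.Basic

/-!
Two minimal elements with nilpotent product (`¬ Opp`).
* `unipotent_pair` : then `a b a = 0` and `b a b = 0`
* `InG.bracket` : `a b - b a` is again a member; `bracket_facts` : its kernel and range
* `bracket_class` : if it is non-zero, so is the bracket of any pair from the same classes, of the same class
-/

set_option autoImplicit false
set_option linter.unusedSectionVars false

namespace Cfsg.Agent.QuadRoot

open Cfsg Module
open scoped commutatorElement

variable {k : Type*} [Field k] {M : Type*} [AddCommGroup M] [Module k M]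

/-- The product of `a` and `b` is not nilpotent. -/
def Opp (a b : Module.End k M) : Prop := ¬ IsNilpotent (a * b)

theorem isNilpotent_mul_comm {R : Type*} [MonoidWithZero R] {a b : R} (h : IsNilpotent (a * b)) :
    IsNilpotent (b * a) := by
  obtain ⟨n, hn⟩ := h
  refine ⟨n + 1, ?_⟩
  have e : ∀ m, b * (a * b) ^ m * a = (b * a) ^ (m + 1) := by
    intro m
    induction m with
    | zero => simp
    | succ m ih => rw [pow_succ, pow_succ _ (m + 1), ← ih]; simp [mul_assoc]
  rw [← e, hn, mul_zero, zero_mul]

theorem Opp.symm {a b : Module.End k M} (h : Opp a b) : Opp b a := fun h' => h (isNilpotent_mul_comm h')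

theorem commutator_ex {x y : Module.End k M} (hx : x * x = 0) (hy : y * y = 0) (hxy : x * y * x = 0)
    (hyx : y * x * y = 0) : ⁅ex x, ex y⁆ = ex (x * y - y * x) := by
  have hz : (x * y - y * x) * (x * y - y * x) = 0 := by
    simp [mul_sub, sub_mul, ← mul_assoc, hxy, hyx, hx, hy, mul_assoc x y y, mul_assoc y x x]
  rw [commutatorElement_def]
  refine Units.ext ?_
  rw [ex_inv hx, ex_inv hy, Units.val_mul, Units.val_mul, Units.val_mul, coe_ex hx, coe_ex hy,
    coe_ex (neg_sq' hx), coe_ex (neg_sq' hy), coe_ex hz]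
  simp [mul_add, add_mul, ← mul_assoc, hxy, hyx, hx, hy, mul_assoc x y y, mul_assoc y x x]
  abel

variable {G : Subgroup (LinearMap.GeneralLinearGroup k M)}

theorem InG.bracket {a b : Module.End k M} (ha : InG G a) (hb : InG G b) (hab : a * b * a = 0)
    (hba : b * a * b = 0) : InG G (a * b - b * a) := by
  refine ⟨by simp [mul_sub, sub_mul, ← mul_assoc, hab, hba, ha.sq, hb.sq, mul_assoc a b b, mul_assoc b a a],
    fun c => ?_⟩
  have h1 : (c • a) * b * (c • a) = 0 := by simp [hab]
  have h2 : b * (c • a) * b = 0 := by simp [hba]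
  have e : c • (a * b - b * a) = (c • a) * b - b * (c • a) := by
    simp [smul_sub, smul_mul_assoc, mul_smul_comm]
  rw [e, ← commutator_ex (smul_sq ha.sq c c) hb.sq h1 h2, commutatorElement_def]
  exact mul_mem (mul_mem (mul_mem (ha.mem c) hb.ex_mem) (inv_mem (ha.mem c))) (inv_mem hb.ex_mem)

section Induction

variable (hk2 : ringChar k ≠ 2) [FiniteDimensional k M]

theorem cj_ex {a y : Module.End k M} (hy : y * y = 0) : cj (ex y) a = (1 + y) * a * (1 - y) := by
  rw [cj, ex_inv hy, coe_ex hy, coe_ex (neg_sq' hy), sub_eq_add_neg (1 : Module.End k M) y]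

include hk2 in
theorem unipotent_step {a b : Module.End k M} (ha : Dmin G a) (hb : InG G b)
    (h1 : ∀ c : k, a * cj (ex (c • b)) a * a = 0) : a * b * a = 0 := by
  set g : k → LinearMap.GeneralLinearGroup k M := fun c => ex (c • b)
  have hbb : b * b = 0 := hb.sq
  have haa : a * a = 0 := ha.inG.sq
  have h5 : a * b * a * b * a = 0 := by
    have h := h1 1
    rw [one_smul, cj_ex hbb] at h
    simpa [mul_add, add_mul, mul_sub, sub_mul, ← mul_assoc, haa, hbb, mul_assoc a b b, mul_assoc b a a,
      mul_assoc (a * b * a * b) a a, mul_assoc (a * b) a a] using h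
  -- the brackets of `a` with its conjugates
  have hz : ∀ c : k, InG G (a * cj (g c) a - cj (g c) a * a) := fun c => by
    refine ha.inG.bracket (ha.inG.conj (hb.mem c)) (h1 c) ?_
    have h2 := h1 (-c)
    have e : cj (g c) (a * cj (g (-c)) a * a) = cj (g c) a * a * cj (g c) a := by
      rw [cj_mul, cj_mul, cj_cj, show g c * g (-c) = 1 by
        show ex _ * ex _ = 1
        rw [← ex_add_smul hbb, add_neg_cancel, zero_smul, ex_zero]]
      simp [cj]
    rw [← e, h2, cj_zero]
  have huv : (a * b * a) * (b * a * b * a - a * b * a * b) = 0 ∧ (b * a * b * a - a * b * a * b) * (a * b * a) = 0 ∧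
      (a * b * a) * (a * b * a) = 0 ∧ (b * a * b * a - a * b * a * b) * (b * a * b * a - a * b * a * b) = 0 := by
    have h6 : ∀ w, a * (a * w) = 0 := fun w => by rw [← mul_assoc, haa, zero_mul]
    have h7 : ∀ w, b * (b * w) = 0 := fun w => by rw [← mul_assoc, hbb, zero_mul]
    have h8 : a * (b * (a * (b * a))) = 0 := by simpa [mul_assoc] using h5
    have h9 : ∀ w, a * (b * (a * (b * (a * w)))) = 0 := fun w => by
      simpa [mul_assoc] using congrArg (· * w) h5
    refine ⟨?_, ?_, ?_, ?_⟩ <;> simp [mul_assoc, mul_sub, sub_mul, h6, h7, h8, h9, haa, hbb]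
  set u := a * b * a
  have ez : ∀ c : k, a * cj (g c) a - cj (g c) a * a
      = (2 * c) • u + (c * c) • (b * a * b * a - a * b * a * b) := fun c => by
    show a * cj (ex (c • b)) a - cj (ex (c • b)) a * a = _
    rw [cj_ex (smul_sq hbb c c), two_mul, add_smul]
    simp [u, mul_add, add_mul, mul_sub, sub_mul, ← mul_assoc, smul_mul_assoc, mul_smul_comm, smul_smul, haa,
      mul_assoc (_ : Module.End k M) a a, smul_sub]
    abel
  set v := b * a * b * a - a * b * a * b
  have h2 : (2 : k) ≠ 0 := Ring.two_ne_zero hk2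
  have hu : InG G u := by
    have hp : InG G ((2 : k) • u + v) := by
      have := hz 1; rwa [ez, mul_one, mul_one, one_smul] at this
    have hm : InG G (-((-2 : k) • u + v)) := by
      have := (hz (-1)).neg; rwa [ez, mul_neg, mul_one, neg_mul_neg, one_mul, one_smul] at this
    have h4 := (hp.add hm (by simp [mul_add, add_mul, huv]) (by simp [mul_add, add_mul, huv])).smul (4 : k)⁻¹
    have e : ((2 : k) • u + v) + -((-2 : k) • u + v) = (4 : k) • u := by
      rw [show (4 : k) = 2 + 2 by norm_num, add_smul, neg_smul]; abel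
    rwa [e, smul_smul, inv_mul_cancel₀ (by
      rw [show (4 : k) = 2 * 2 by norm_num]; exact mul_ne_zero h2 h2), one_smul] at h4
  by_contra hu0
  have hle : LinearMap.range u ≤ LinearMap.range a := by
    simp only [u, mul_assoc, Module.End.mul_eq_comp]
    exact LinearMap.range_comp_le_range _ _
  have he : LinearMap.range u = LinearMap.range a :=
    Submodule.eq_of_le_of_finrank_le hle (ha.min u hu hu0)
  have e5 : LinearMap.range (a * b * a * b * a) = LinearMap.range u := by
    rw [show a * b * a * b * a = (a * b) * u by simp [u, mul_assoc], Module.End.mul_eq_comp,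
      LinearMap.range_comp, he, ← LinearMap.range_comp, ← Module.End.mul_eq_comp]
    exact he
  rw [h5, LinearMap.range_zero] at e5
  exact hu0 (LinearMap.range_eq_bot.1 e5.symm)

theorem mul_cj_pow {a b : Module.End k M} (haa : a * a = 0) (hbb : b * b = 0) (c : k) (j : ℕ) :
    (a * cj (ex (c • b)) a) ^ j * a = (-(c * c)) ^ j • ((a * b) ^ (2 * j) * a) := by
  induction j with
  | zero => simp
  | succ j ihj =>
    have hA : a * cj (ex (c • b)) a * a = (-(c * c)) • ((a * b) ^ 2 * a) := by
      rw [cj_ex (smul_sq hbb c c), pow_two]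
      simp [mul_add, add_mul, mul_sub, sub_mul, ← mul_assoc, smul_mul_assoc, mul_smul_comm, smul_smul, haa,
        mul_assoc (_ : Module.End k M) a a, neg_smul]
    have e2 : (a * b) ^ (2 * j) * a = a * (b * a) ^ (2 * j) := mul_pow_mul _ _ _
    calc (a * cj (ex (c • b)) a) ^ (j + 1) * a
        = a * cj (ex (c • b)) a * ((-(c * c)) ^ j • (a * (b * a) ^ (2 * j))) := by
          rw [pow_succ', mul_assoc, ihj, e2]
      _ = (-(c * c)) ^ j • ((a * cj (ex (c • b)) a * a) * (b * a) ^ (2 * j)) := by
          rw [mul_smul_comm, mul_assoc (a * cj (ex (c • b)) a)]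
      _ = (-(c * c)) ^ (j + 1) • ((a * b) ^ (2 * (j + 1)) * a) := by
          rw [hA, smul_mul_assoc, smul_smul, ← pow_succ, mul_assoc, ← e2, ← mul_assoc, ← pow_add,
            show 2 + 2 * j = 2 * (j + 1) by omega]


include hk2 in
theorem unipotent_pair_aux : ∀ (n : ℕ) {a b : Module.End k M}, Dmin G a → Dmin G b → (a * b) ^ n * a = 0 →
    (b * a) ^ n * b = 0 → a * b * a = 0 ∧ b * a * b = 0 := by
  intro n
  induction n using Nat.strong_induction_on with
  | _ n ih =>
  intro a b ha hb h1 h2
  rcases Nat.lt_or_ge n 2 with hn | hn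
  · interval_cases n
    · simp at h1; exact absurd h1 ha.ne
    · simp [mul_assoc] at h1 h2 ⊢; exact ⟨h1, h2⟩
  have key : ∀ a b : Module.End k M, Dmin G a → Dmin G b → (a * b) ^ n * a = 0 → a * b * a = 0 := by
    intro a b ha hb hn0
    refine unipotent_step hk2 ha hb.inG fun c => ?_
    have hbb := hb.inG.sq
    have haa := ha.inG.sq
    have hbig : (a * b) ^ (2 * ((n + 1) / 2)) * a = 0 := by
      rw [show 2 * ((n + 1) / 2) = (2 * ((n + 1) / 2) - n) + n by omega, pow_add, mul_assoc, hn0, mul_zero]
    have hj : ∀ c : k, (a * cj (ex (c • b)) a) ^ ((n + 1) / 2) * a = 0 := by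
      intro c
      rw [mul_cj_pow haa hbb, hbig, smul_zero]
    refine (ih ((n + 1) / 2) (by omega) ha (ha.conj (hb.inG.mem c)) (hj c) ?_).1
    have e : cj (ex (c • b)) ((a * cj (ex ((-c) • b)) a) ^ ((n + 1) / 2) * a)
        = (cj (ex (c • b)) a * a) ^ ((n + 1) / 2) * cj (ex (c • b)) a := by
      rw [cj_mul, cj_pow, cj_mul, cj_cj, ← ex_add_smul hbb, add_neg_cancel, zero_smul, ex_zero]
      simp [cj]
    rw [← e, hj, cj_zero]
  exact ⟨key a b ha hb h1, key b a hb ha h2⟩

include hk2 in
/-- Minimal elements with nilpotent product. -/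
theorem unipotent_pair {a b : Module.End k M} (ha : Dmin G a) (hb : Dmin G b) (h : ¬ Opp a b) :
    a * b * a = 0 ∧ b * a * b = 0 := by
  have h' := not_not.1 h
  obtain ⟨n, hn⟩ := id h'
  obtain ⟨m, hm⟩ := isNilpotent_mul_comm h'
  refine unipotent_pair_aux hk2 (n + m) ha hb ?_ ?_
  · rw [pow_add, hn, zero_mul, zero_mul]
  · rw [pow_add, hm, mul_zero, zero_mul]

include hk2 in
/-- The minimal one of two elements with nilpotent product. -/
theorem unipotent_mixed {a b : Module.End k M} (ha : InG G a) (hb : Dmin G b) (h : ¬ Opp b a) :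
    b * a * b = 0 := by
  obtain ⟨n, hn⟩ := not_not.1 h
  refine unipotent_step hk2 hb ha fun c => (unipotent_pair hk2 hb (hb.conj (ha.mem c)) (not_not.2 ⟨n + 1, ?_⟩)).1
  rw [pow_succ, ← mul_assoc, mul_cj_pow hb.inG.sq ha.sq, two_mul, pow_add, hn, zero_mul, zero_mul, smul_zero,
    zero_mul]

end Induction

theorem not_opp_iff [FiniteDimensional k M] (hk2 : ringChar k ≠ 2) {a b : Module.End k M} (ha : Dmin G a)
    (hb : Dmin G b) : ¬ Opp a b ↔ a * b * a = 0 :=
  ⟨fun h => (unipotent_pair hk2 ha hb h).1, fun h => not_not.2 ⟨2, by rw [pow_two, ← mul_assoc, h, zero_mul]⟩⟩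

section Bracket

variable [FiniteDimensional k M]

theorem finrank_map_add (f : Module.End k M) (V : Submodule k M) :
    finrank k (V.map f) + finrank k ↥(V ⊓ LinearMap.ker f) = finrank k V := by
  have h := LinearMap.finrank_range_add_finrank_ker (f.domRestrict V)
  rw [LinearMap.range_domRestrict, LinearMap.ker_domRestrict] at h
  rwa [← (Submodule.comapSubtypeEquivOfLe (inf_le_left : V ⊓ LinearMap.ker f ≤ V)).finrank_eq,
    Submodule.comap_inf, Submodule.comap_subtype_self, top_inf_eq]

theorem rank_mul_add {a b : Module.End k M} :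
    finrank k (LinearMap.range (a * b)) + finrank k ↥(LinearMap.range b ⊓ LinearMap.ker a)
      = finrank k (LinearMap.range b) := by
  rw [Module.End.mul_eq_comp, LinearMap.range_comp]
  exact finrank_map_add a _

theorem range_mul_le {a b : Module.End k M} (hba : b * a * b = 0) :
    LinearMap.range (a * b) ≤ LinearMap.range a ⊓ LinearMap.ker b := by
  refine le_inf (LinearMap.range_comp_le_range _ _) ?_
  rw [LinearMap.range_le_ker_iff, ← Module.End.mul_eq_comp, ← mul_assoc, hba]

theorem ker_mul_ge {a b : Module.End k M} (ha : a * a = 0) (hab : a * b * a = 0) :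
    LinearMap.ker b ⊔ LinearMap.range a ≤ LinearMap.ker (a * b) :=
  sup_le (LinearMap.ker_le_ker_comp _ _) (LinearMap.range_le_ker_iff.2 hab)

/-- The kernel and range of a non-zero bracket. -/
structure BracketFacts (G : Subgroup (LinearMap.GeneralLinearGroup k M)) (a b z : Module.End k M) : Prop where
  dmin : Dmin G z
  range : LinearMap.range z = (LinearMap.range a ⊓ LinearMap.ker b) ⊔ (LinearMap.range b ⊓ LinearMap.ker a)
  ker : LinearMap.ker z = (LinearMap.ker b ⊔ LinearMap.range a) ⊓ (LinearMap.ker a ⊔ LinearMap.range b)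
  disjoint : (LinearMap.range a ⊓ LinearMap.ker b) ⊓ (LinearMap.range b ⊓ LinearMap.ker a) = ⊥
  sum : finrank k ↥(LinearMap.range a ⊓ LinearMap.ker b) + finrank k ↥(LinearMap.range b ⊓ LinearMap.ker a)
    = finrank k (LinearMap.range a)

theorem bracket_facts {a b : Module.End k M} (ha : Dmin G a) (hb : Dmin G b) (hab : a * b * a = 0)
    (hba : b * a * b = 0) (hz : a * b - b * a ≠ 0) : BracketFacts G a b (a * b - b * a) := by
  set z := a * b - b * a with hzdef
  have hzG : InG G z := ha.inG.bracket hb.inG hab hba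
  have hd := ha.min z hzG hz
  have hrk := ha.rank_eq hb
  have e1 : finrank k (LinearMap.range (a * b)) + finrank k ↥(LinearMap.range b ⊓ LinearMap.ker a) = finrank k (LinearMap.range b) := rank_mul_add
  have e2 : finrank k (LinearMap.range (b * a)) + finrank k ↥(LinearMap.range a ⊓ LinearMap.ker b) = finrank k (LinearMap.range a) := rank_mul_add
  have l1 : finrank k (LinearMap.range (a * b)) ≤ finrank k ↥(LinearMap.range a ⊓ LinearMap.ker b) := Submodule.finrank_mono (range_mul_le hba)
  have hr : LinearMap.range z ≤ LinearMap.range (a * b) ⊔ LinearMap.range (b * a) := by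
    rintro _ ⟨v, rfl⟩
    rw [hzdef, LinearMap.sub_apply]
    exact sub_mem (Submodule.mem_sup_left (LinearMap.mem_range_self _ v))
      (Submodule.mem_sup_right (LinearMap.mem_range_self _ v))
  have l2 := Submodule.finrank_mono hr
  have l3 := Submodule.finrank_add_le_finrank_add_finrank (LinearMap.range (a * b)) (LinearMap.range (b * a))
  have hle : LinearMap.range z ≤ (LinearMap.range a ⊓ LinearMap.ker b) ⊔ (LinearMap.range b ⊓ LinearMap.ker a) := hr.trans (sup_le_sup (range_mul_le hba) (range_mul_le hab))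
  have l4 := Submodule.finrank_mono hle
  have l5 := Submodule.finrank_sup_add_finrank_inf_eq (LinearMap.range a ⊓ LinearMap.ker b) (LinearMap.range b ⊓ LinearMap.ker a)
  have hrange : LinearMap.range z = (LinearMap.range a ⊓ LinearMap.ker b) ⊔ (LinearMap.range b ⊓ LinearMap.ker a) := Submodule.eq_of_le_of_finrank_le hle (by omega)
  refine ⟨ha.of_rank_le hzG hz (by omega), hrange, ?_, Submodule.finrank_eq_zero.1 (by omega), by omega⟩
  have hkle : LinearMap.ker (a * b) ⊓ LinearMap.ker (b * a) ≤ LinearMap.ker z := by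
    rintro v ⟨h1, h2⟩
    rw [SetLike.mem_coe, LinearMap.mem_ker] at h1 h2
    rw [LinearMap.mem_ker, hzdef, LinearMap.sub_apply, h1, h2, sub_zero]
  have k1 := LinearMap.finrank_range_add_finrank_ker z
  have k2 := LinearMap.finrank_range_add_finrank_ker (a * b)
  have k3 := LinearMap.finrank_range_add_finrank_ker (b * a)
  have k4 := Submodule.finrank_sup_add_finrank_inf_eq (LinearMap.ker (a * b)) (LinearMap.ker (b * a))
  have k5 := Submodule.finrank_le (LinearMap.ker (a * b) ⊔ LinearMap.ker (b * a))
  have ka := LinearMap.finrank_range_add_finrank_ker a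
  have kb := LinearMap.finrank_range_add_finrank_ker b
  have s1 := Submodule.finrank_sup_add_finrank_inf_eq (LinearMap.ker b) (LinearMap.range a)
  have s2 := Submodule.finrank_sup_add_finrank_inf_eq (LinearMap.ker a) (LinearMap.range b)
  rw [inf_comm (LinearMap.ker b)] at s1
  rw [inf_comm (LinearMap.ker a)] at s2
  have g1 : LinearMap.ker b ⊔ LinearMap.range a = LinearMap.ker (a * b) :=
    Submodule.eq_of_le_of_finrank_le (ker_mul_ge ha.inG.sq hab) (by omega)
  have g2 : LinearMap.ker a ⊔ LinearMap.range b = LinearMap.ker (b * a) :=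
    Submodule.eq_of_le_of_finrank_le (ker_mul_ge hb.inG.sq hba) (by omega)
  rw [g1, g2]
  exact (Submodule.eq_of_le_of_finrank_le hkle (by omega)).symm

theorem bracket_class {a b a' b' : Module.End k M} (ha : Dmin G a) (hb : Dmin G b) (hab : a * b * a = 0)
    (hba : b * a * b = 0) (hz : a * b - b * a ≠ 0) (ha' : SameClass G a a') (hb' : SameClass G b b')
    (hab' : a' * b' * a' = 0) (hba' : b' * a' * b' = 0) :
    a' * b' - b' * a' ≠ 0 ∧ SameClass G (a * b - b * a) (a' * b' - b' * a') := by
  have h := bracket_facts ha hb hab hba hz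
  have hne : a' * b' - b' * a' ≠ 0 := by
    intro h0
    have e := sub_eq_zero.1 h0
    have l1 := range_mul_le hba'
    have l2 := range_mul_le hab'
    have e1 := @rank_mul_add k _ M _ _ _ a' b'
    have e2 := @rank_mul_add k _ M _ _ _ b' a'
    rw [← e] at l2 e2
    rw [ha'.range, hb'.ker] at l1 e2
    rw [hb'.range, ha'.ker] at l2
    rw [ha'.ker, hb'.range] at e1
    have h0' : LinearMap.range (a' * b') = ⊥ := le_bot_iff.1 (h.disjoint ▸ le_inf l1 l2)
    rw [h0', finrank_bot] at e1 e2
    have := h.sum
    have := ha.rank_eq hb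
    exact ha.ne (LinearMap.range_eq_bot.1 (Submodule.finrank_eq_zero.1 (by omega)))
  have h' := bracket_facts ha'.dmin hb'.dmin hab' hba' hne
  exact ⟨hne, h'.dmin, by rw [h'.ker, h.ker, ha'.ker, hb'.ker, ha'.range, hb'.range],
    by rw [h'.range, h.range, ha'.ker, hb'.ker, ha'.range, hb'.range]⟩

end Bracket

end Cfsg.Agent.QuadRoot
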