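import Cfsg.Prelude.Def_RootSubgroups
import Cfsg.Agent.EqLemmas
import Cfsg.Agent.Lib.RankOne.Basic

/-!
A family of subgroups as a family of subgroups of the subgroup it generates.
* `sub_pair`, `sub_commutatorCase`, `isRootSubgroupSet_sub`
-/

set_option autoImplicit false

namespace Cfsg.Agent.QuadRoot

open Cfsg

variable {Γ : Type*} [Group Γ] {S : Set (Subgroup Γ)} {A B X : Subgroup Γ}

theorem map_sub (h : A ≤ X) : (A.subgroupOf X).map X.subtype = A := Subgroup.map_subgroupOf_eq_of_le h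

theorem sub_inj (hA : A ≤ X) (hB : B ≤ X) (h : A.subgroupOf X = B.subgroupOf X) : A = B := by
  rw [← map_sub hA, h, map_sub hB]

theorem eq_sub_of_map {K : Subgroup X} (h : K.map X.subtype = A) : K = A.subgroupOf X := by
  rw [← h, Subgroup.subgroupOf, Subgroup.comap_map_eq_self_of_injective X.subtype_injective]

theorem sub_conjBy (hA : A ≤ X) (g : X) : conjBy (A.subgroupOf X) g = (conjBy A g).subgroupOf X := by
  refine eq_sub_of_map ?_
  rw [RankOne.map_conjBy, map_sub hA]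
  rfl

theorem sub_commutator (hA : A ≤ X) (hB : B ≤ X) : ⁅A.subgroupOf X, B.subgroupOf X⁆ = ⁅A, B⁆.subgroupOf X := by
  refine eq_sub_of_map ?_
  rw [Subgroup.map_commutator, map_sub hA, map_sub hB]

theorem sub_pair (hA : A ≤ X) (hB : B ≤ X) (h : IsRankOnePair A B) :
    IsRankOnePair (A.subgroupOf X) (B.subgroupOf X) := by
  have key : ∀ {A B : Subgroup Γ}, A ≤ X → B ≤ X → RankOneCondition A B →
      RankOneCondition (A.subgroupOf X) (B.subgroupOf X) := by
    intro A B hA hB hc a ha ha1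
    obtain ⟨b, hb, hb1, e⟩ := hc (a : Γ) ha fun e => ha1 (Subtype.ext e)
    refine ⟨⟨b, hB hb⟩, hb, fun e => hb1 (congrArg Subtype.val e), ?_⟩
    rw [sub_conjBy hA, sub_conjBy hB]
    exact congrArg (fun K => Subgroup.subgroupOf K X) e
  refine ⟨fun e => h.ne (sub_inj hA hB e), ?_, ?_, key hA hB h.cond_left, key hB hA h.cond_right⟩
  · haveI := h.nilpotent_left
    exact Group.nilpotent_of_mulEquiv (Subgroup.subgroupOfEquivOfLe hA).symm
  · haveI := h.nilpotent_right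
    exact Group.nilpotent_of_mulEquiv (Subgroup.subgroupOfEquivOfLe hB).symm

theorem sub_commutatorCase (hle : ∀ C ∈ S, C ≤ X) (hA : A ≤ X) (hB : B ≤ X) (h : RootCommutatorCase S A B) :
    RootCommutatorCase ((fun C : Subgroup Γ => C.subgroupOf X) '' S) (A.subgroupOf X) (B.subgroupOf X) := by
  obtain ⟨h1, h2, h3, h4⟩ := h
  rw [RootCommutatorCase, sub_commutator hA hB]
  refine ⟨⟨_, h1, rfl⟩, fun c hc x hx => Subtype.ext (h2 c hc x ?_), fun a ha ha1 => ?_, fun b hb hb1 => ?_⟩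
  · rw [← Subgroup.subgroupOf_sup hA hB] at hx
    exact hx
  · refine eq_sub_of_map ?_
    rw [MonoidHom.map_closure, ← h3 (a : Γ) ha fun e => ha1 (Subtype.ext e), Set.image_image]
    congr 1
    ext x
    constructor
    · rintro ⟨b, hb, rfl⟩; exact ⟨b, hb, rfl⟩
    · rintro ⟨b, hb, rfl⟩; exact ⟨⟨b, hB hb⟩, hb, rfl⟩
  · refine eq_sub_of_map ?_
    rw [MonoidHom.map_closure, ← h4 (b : Γ) hb fun e => hb1 (Subtype.ext e), Set.image_image]
    congr 1
    ext x
    constructor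
    · rintro ⟨a, ha, rfl⟩; exact ⟨a, ha, rfl⟩
    · rintro ⟨a, ha, rfl⟩; exact ⟨⟨a, hA ha⟩, ha, rfl⟩

theorem isRootSubgroupSet_sub (X : Subgroup Γ) (hX : (⨆ C ∈ S, C) = X) (hcomm : ∀ C ∈ S, IsMulCommutative C)
    (hne : ∀ C ∈ S, C ≠ ⊥) (hconj : ∀ C ∈ S, ∀ g ∈ X, conjBy C g ∈ S)
    (hpair : ∀ A ∈ S, ∀ B ∈ S, ⁅A, B⁆ = ⊥ ∨ IsRankOnePair A B ∨ RootCommutatorCase S A B) :
    IsRootSubgroupSet ((fun C : Subgroup Γ => C.subgroupOf X) '' S) := by
  have hle : ∀ C ∈ S, C ≤ X := fun C hC => hX ▸ le_iSup₂_of_le C hC le_rfl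
  refine ⟨?_, ?_, ?_, ?_, ?_⟩
  · rintro _ ⟨C, hC, rfl⟩
    haveI := hcomm C hC
    refine ⟨⟨fun x y => Subtype.ext (Subtype.ext ?_)⟩⟩
    show x.1.1 * y.1.1 = y.1.1 * x.1.1
    exact congrArg Subtype.val (mul_comm' (⟨x.1.1, x.2⟩ : C) ⟨y.1.1, y.2⟩)
  · rintro _ ⟨C, hC, rfl⟩ e
    refine hne C hC ?_
    rw [← map_sub (hle C hC), show C.subgroupOf X = ⊥ from e, Subgroup.map_bot]
  · apply Subgroup.map_injective X.subtype_injective
    rw [Subgroup.map_iSup, ← MonoidHom.range_eq_map, Subgroup.range_subtype]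
    refine le_antisymm (iSup_le fun A => ?_) ?_
    · exact Subgroup.map_subtype_le _
    · conv_lhs => rw [← hX]
      refine iSup₂_le fun C hC => le_iSup_of_le (C.subgroupOf X) ?_
      rw [iSup_pos (show C.subgroupOf X ∈ (fun C : Subgroup Γ => C.subgroupOf X) '' S from ⟨C, hC, rfl⟩),
        map_sub (hle C hC)]
  · rintro _ ⟨C, hC, rfl⟩ g
    exact ⟨_, hconj C hC g g.2, (sub_conjBy (hle C hC) g).symm⟩
  · rintro _ ⟨A, hA, rfl⟩ _ ⟨B, hB, rfl⟩
    rcases hpair A hA B hB with h | h | h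
    · left
      rw [sub_commutator (hle A hA) (hle B hB), h, Subgroup.bot_subgroupOf]
    · exact Or.inr (Or.inl (sub_pair (hle A hA) (hle B hB) h))
    · exact Or.inr (Or.inr (sub_commutatorCase hle (hle A hA) (hle B hB) h))

end Cfsg.Agent.QuadRoot
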