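import Cfsg.Agent.Lib.QuadRoot.Trichotomy
import Cfsg.Agent.Lib.QuadRoot.RootSetSub
import Cfsg.Agent.Lib.RankOne.NonDeg

/-!
The components of the graph of opposite pairs on `quadraticRootSubgroups G`.
* `sigmaJoin G`, `part G A`, `partGroup G A`
* `reach_conj`, `commute_of_not_reach`, `partGroup_conj`, `exists_part_conj`, `le_derived`, `finite_parts`
-/

set_option autoImplicit false
set_option linter.unusedSectionVars false

namespace Cfsg.Agent.QuadRoot

open Cfsg Module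
open scoped MatrixGroups commutatorElement

universe u v

variable {k : Type u} [Field k] {M : Type v} [AddCommGroup M] [Module k M] [FiniteDimensional k M]
  {G : Subgroup (LinearMap.GeneralLinearGroup k M)} {a b : Module.End k M}
  {A B C : Subgroup (LinearMap.GeneralLinearGroup k M)}

local notation "GLM" => LinearMap.GeneralLinearGroup k M
local notation "E⟨" a "⟩" => sameActionSubgroup G (ex a)
local notation "ΣG" => quadraticRootSubgroups G

/-- The subgroup generated by all of `quadraticRootSubgroups G`. -/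
abbrev sigmaJoin (G : Subgroup GLM) : Subgroup GLM := ⨆ A ∈ quadraticRootSubgroups G, A

theorem le_sigmaJoin (hA : A ∈ ΣG) : A ≤ sigmaJoin G := le_iSup₂_of_le A hA le_rfl

theorem sigmaJoin_le : sigmaJoin G ≤ G := iSup₂_le fun _ hA => le_of_mem hA

theorem sigmaJoin_conj {g : GLM} (hg : g ∈ G) : conjBy (sigmaJoin G) g = sigmaJoin G := by
  have key : ∀ g ∈ G, conjBy (sigmaJoin G) g ≤ sigmaJoin G := fun g hg => by
    simp only [conjBy, Subgroup.map_iSup]
    exact iSup₂_le fun A hA => le_sigmaJoin (conj_mem hA hg)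
  refine le_antisymm (key g hg) ?_
  have := RankOne.conjBy_mono (key g⁻¹ (inv_mem hg)) g
  rwa [RankOne.conjBy_conjBy_inv] at this

theorem member_comm' (hA : A ∈ ΣG) : IsMulCommutative A := by
  obtain ⟨a, ha, rfl⟩ := mem_quadraticRootSubgroups.1 hA
  exact sameActionSubgroup_comm ha

theorem member_ne_bot (hA : A ∈ ΣG) : A ≠ ⊥ := by
  obtain ⟨a, ha, rfl⟩ := mem_quadraticRootSubgroups.1 hA
  exact sameActionSubgroup_ne_bot ha

/-- The members reachable from `A` through rank one pairs. -/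
def part (G : Subgroup GLM) (A : Subgroup GLM) : Set (Subgroup GLM) :=
  {B | B ∈ quadraticRootSubgroups G ∧ RankOne.FReach (quadraticRootSubgroups G) A B}

/-- The subgroup generated by a part. -/
abbrev partGroup (G : Subgroup GLM) (A : Subgroup GLM) : Subgroup GLM := ⨆ B ∈ part G A, B

theorem le_partGroup (hB : B ∈ part G A) : B ≤ partGroup G A := le_iSup₂_of_le B hB le_rfl

theorem partGroup_le : partGroup G A ≤ sigmaJoin G := iSup₂_le fun _ hB => le_sigmaJoin hB.1

section Transfer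

variable (hk2 : ringChar k ≠ 2) (hk3 : Nat.card k ≠ 3) (hirr : Reduced G)
include hk2 hk3 hirr

local notation "S₀" => (fun A : Subgroup GLM => A.subgroupOf (sigmaJoin G)) '' (quadraticRootSubgroups G)

theorem rootSet_sub : IsRootSubgroupSet S₀ :=
  isRootSubgroupSet_sub _ rfl (fun _ => member_comm') (fun _ => member_ne_bot)
    (fun _ hA _ hg => conj_mem hA (sigmaJoin_le hg)) (fun _ hA _ hB => pair_cases hk2 hk3 hirr hA hB)

theorem partner_sub : ∀ X ∈ S₀, ∃ D ∈ S₀, IsRankOnePair X D := by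
  rintro _ ⟨A, hA, rfl⟩
  obtain ⟨B, hB, h⟩ := exists_partner hk2 hk3 hirr hA
  exact ⟨_, ⟨B, hB, rfl⟩, sub_pair (le_sigmaJoin hA) (le_sigmaJoin hB) h⟩

theorem reach_of_sub {X Y : Subgroup (sigmaJoin G)} (h : RankOne.FReach S₀ X Y) :
    RankOne.FReach ΣG (X.map (sigmaJoin G).subtype) (Y.map (sigmaJoin G).subtype) := by
  induction h with
  | refl => exact .refl
  | tail _ e ih =>
    refine ih.tail ?_
    obtain ⟨⟨A, hA, rfl⟩, ⟨B, hB, rfl⟩, h⟩ := e
    rw [map_sub (le_sigmaJoin hA), map_sub (le_sigmaJoin hB)]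
    refine ⟨hA, hB, ?_⟩
    rcases RankOne.map_pair (rootSet_sub hk2 hk3 hirr) (sigmaJoin G).subtype h with h' | h'
    · exact absurd (Subgroup.map_injective (sigmaJoin G).subtype_injective h') h.ne
    · rwa [map_sub (le_sigmaJoin hA), map_sub (le_sigmaJoin hB)] at h'

theorem reach_conj (hA : A ∈ ΣG) {g : GLM} (hg : g ∈ sigmaJoin G) : RankOne.FReach ΣG A (conjBy A g) := by
  have := reach_of_sub hk2 hk3 hirr (RankOne.fReach_conj (rootSet_sub hk2 hk3 hirr)
    (partner_sub hk2 hk3 hirr) (⟨g, hg⟩ : sigmaJoin G) _ ⟨A, hA, rfl⟩)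
  rw [sub_conjBy (le_sigmaJoin hA), map_sub (le_sigmaJoin hA),
    map_sub (le_sigmaJoin (conj_mem hA (sigmaJoin_le hg)))] at this
  exact this

theorem reach_commutator (hA : A ∈ ΣG) (hB : B ∈ ΣG) (h : RootCommutatorCase ΣG A B) :
    RankOne.FReach ΣG A ⁅A, B⁆ := by
  have hS := rootSet_sub hk2 hk3 hirr
  have hc := sub_commutatorCase (X := sigmaJoin G) (fun _ => le_sigmaJoin) (le_sigmaJoin hA) (le_sigmaJoin hB) h
  obtain ⟨D, hD, hAD⟩ := partner_sub hk2 hk3 hirr _ ⟨A, hA, rfl⟩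
  have hline := RankOne.linePartner_of_case hS hAD ⟨A, hA, rfl⟩ hD ⟨B, hB, rfl⟩ hc
  have := reach_of_sub hk2 hk3 hirr (RankOne.fReach_of_line hS ⟨A, hA, rfl⟩ hc.1 ⟨D, hD, hAD⟩
    (partner_sub hk2 hk3 hirr _ hc.1) hline.1.2.1.symm hline)
  rw [Subgroup.map_commutator, map_sub (le_sigmaJoin hA), map_sub (le_sigmaJoin hB)] at this
  exact this

theorem commute_of_not_reach (hA : A ∈ ΣG) (hB : B ∈ ΣG) (h : ¬ RankOne.FReach ΣG A B) : ⁅A, B⁆ = ⊥ := by
  rcases pair_cases hk2 hk3 hirr hA hB with h' | h' | h'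
  · exact h'
  · exact absurd (RankOne.fReach_adj hA hB h') h
  · refine absurd ((reach_commutator hk2 hk3 hirr hA hB h').trans (RankOne.fReach_symm ?_)) h
    rw [Subgroup.commutator_comm]
    exact reach_commutator hk2 hk3 hirr hB hA (RankOne.case_symm h')

theorem part_conj {A : Subgroup GLM} (hB : B ∈ part G A) {g : GLM} (hg : g ∈ sigmaJoin G) :
    conjBy B g ∈ part G A :=
  ⟨conj_mem hB.1 (sigmaJoin_le hg), hB.2.trans (reach_conj hk2 hk3 hirr hB.1 hg)⟩

theorem partGroup_conj {g : GLM} (hg : g ∈ sigmaJoin G) : conjBy (partGroup G A) g = partGroup G A := by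
  have key : ∀ g ∈ sigmaJoin G, conjBy (partGroup G A) g ≤ partGroup G A := fun g hg => by
    simp only [conjBy, Subgroup.map_iSup]
    exact iSup₂_le fun B hB => le_partGroup (part_conj hk2 hk3 hirr hB hg)
  refine le_antisymm (key g hg) ?_
  have := RankOne.conjBy_mono (key g⁻¹ (inv_mem hg)) g
  rwa [RankOne.conjBy_conjBy_inv] at this

theorem partner_in_part (hB : B ∈ part G A) : ∃ D ∈ part G A, IsRankOnePair B D := by
  obtain ⟨D, hD, h⟩ := exists_partner hk2 hk3 hirr hB.1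
  exact ⟨D, ⟨hD, hB.2.trans (RankOne.fReach_adj hB.1 hD h)⟩, h⟩

theorem exists_part_conj (hB : B ∈ part G A) (hC : C ∈ part G A) : ∃ g ∈ partGroup G A, C = conjBy B g := by
  suffices h : ∀ {C}, RankOne.FReach ΣG A C → A ∈ ΣG → ∃ g ∈ partGroup G A, C = conjBy A g by
    have hA : A ∈ ΣG := by
      rcases hB.2.cases_head with rfl | ⟨D, e, -⟩
      · exact hB.1
      · exact e.1
    obtain ⟨g, hg, rfl⟩ := h hB.2 hA
    obtain ⟨g', hg', rfl⟩ := h hC.2 hA
    exact ⟨g' * g⁻¹, mul_mem hg' (inv_mem hg), by rw [RankOne.conjBy_conjBy, inv_mul_cancel_right]⟩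
  intro C hC hA
  induction hC with
  | refl => exact ⟨1, one_mem _, (RankOne.conjBy_one _).symm⟩
  | @tail P Q hP e ih =>
    obtain ⟨g, hg, rfl⟩ := ih
    obtain ⟨x, hx, hxe⟩ := RankOne.exists_conjBy_swap e.2.2
    refine ⟨x * g, mul_mem ?_ hg, ?_⟩
    · exact sup_le (le_partGroup ⟨e.1, hP⟩) (le_partGroup ⟨e.2.1, hP.tail e⟩) hx
    · rw [← RankOne.conjBy_conjBy, hxe]

end Transfer

theorem ex_mem_derived (hk2 : ringChar k ≠ 2) (hk3 : Nat.card k ≠ 3) (ha : Dmin G a) (hb : Dmin G b)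
    (h : Opp a b) : E⟨a⟩ ≤ ⁅E⟨a⟩ ⊔ E⟨b⟩, E⟨a⟩ ⊔ E⟨b⟩⁆ := by
  refine (Subgroup.closure_le _).2 fun x hx => ?_
  obtain ⟨p, hp, rfl⟩ := (class_iff ha).1 hx
  obtain ⟨L, _, _, ⟨c⟩⟩ := exists_model hk2 hk3 hp.dmin hb (h.of_class hk2 hk3 ha hb hp (SameClass.refl hb))
  have hU : c.rho (QuadPair.upR 1) = ex p :=
    Units.ext (by rw [c.coe_rho_upR, c.map_a', coe_ex hp.dmin.inG.sq])
  have h1 := (QuadPair.elem_mem_derived (k := k) hk2 hk3 (X := (⊤ : Subgroup SL(2, L))) (fun _ => trivial)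
    (fun _ => trivial) 1 (1 : L)).1
  have h2 : QuadPair.upR (1 : L) ∈ der (⊤ : Subgroup SL(2, L)) 1 := ⟨_, h1, rfl⟩
  have hle : c.rho.range ≤ E⟨a⟩ ⊔ E⟨b⟩ := by
    rintro _ ⟨g, rfl⟩
    rw [← sameActionSubgroup_congr ha hp]
    exact c.rho_mem_sup hp.dmin hb g
  have h3 : c.rho (QuadPair.upR 1) ∈ der c.rho.range (0 + 1) := by
    rw [MonoidHom.range_eq_map, der_map]; exact Subgroup.mem_map_of_mem _ h2
  have h4 := der_mono hle (0 + 1) h3
  rw [der_succ, der_zero, hU] at h4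
  exact h4

theorem member_le_derived (hk2 : ringChar k ≠ 2) (hk3 : Nat.card k ≠ 3) (hirr : Reduced G)
    (hA : A ∈ ΣG) (hB : B ∈ ΣG) (h : IsRankOnePair A B) : A ≤ ⁅A ⊔ B, A ⊔ B⁆ := by
  obtain ⟨a, ha, rfl⟩ := mem_quadraticRootSubgroups.1 hA
  obtain ⟨b, hb, rfl⟩ := mem_quadraticRootSubgroups.1 hB
  exact ex_mem_derived hk2 hk3 ha hb (opp_of_rankOne hk2 hk3 hirr ha hb h)

theorem finite_parts (hk2 : ringChar k ≠ 2) (hk3 : Nat.card k ≠ 3) (hirr : Reduced G) :
    Set.Finite {P : Set (Subgroup GLM) | ∃ A ∈ ΣG, P = part G A} := by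
  classical
  set T := {P : Set (Subgroup GLM) | ∃ A ∈ ΣG, P = part G A}
  have hrep : ∀ P : T, ∃ a, Dmin G a ∧ P.1 = part G E⟨a⟩ := fun P => by
    obtain ⟨A, hA, e⟩ := P.2
    obtain ⟨a, ha, rfl⟩ := mem_quadraticRootSubgroups.1 hA
    exact ⟨a, ha, e⟩
  choose f hf hfe using hrep
  have hli : LinearIndependent k f := by
    rw [linearIndependent_iff']
    intro s g hg i hi
    by_contra hgi
    obtain ⟨b, hb, hab⟩ := exists_opp hk2 hk3 hirr (hf i)
    have hc : ∀ j ∈ s, j ≠ i → f j * b = b * f j := by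
      intro j _ hji
      have hn : ¬ RankOne.FReach ΣG E⟨f j⟩ E⟨b⟩ := fun hr => hji (Subtype.ext (by
        have h2 := hr.trans (RankOne.fReach_symm (RankOne.fReach_adj (mem_rootSubgroups (hf i))
          (mem_rootSubgroups hb) (rankOne_pair hk2 hk3 (hf i) hb hab)))
        rw [hfe j, hfe i]
        ext B
        exact ⟨fun h => ⟨h.1, (RankOne.fReach_symm h2).trans h.2⟩, fun h => ⟨h.1, h2.trans h.2⟩⟩))
      have h0 := commute_of_not_reach hk2 hk3 hirr (mem_rootSubgroups (hf j)) (mem_rootSubgroups hb) hn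
      obtain ⟨h1, h2⟩ := not_opp_of_commute hk2 hk3 (hf j) hb (SameClass.refl (hf j)) (SameClass.refl hb)
        (RankOne.elem_commute h0 (ex_mem_sameActionSubgroup (hf j) (SameClass.refl (hf j)))
          (ex_mem_sameActionSubgroup hb (SameClass.refl hb))).eq
      exact sub_eq_zero.1 h2
    have e : g i • (f i * b - b * f i) = 0 := by
      calc g i • (f i * b - b * f i) = ∑ j ∈ s, g j • (f j * b - b * f j) :=
            (Finset.sum_eq_single (f := fun j => g j • (f j * b - b * f j)) i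
              (fun j hj hji => by simp [hc j hj hji]) (fun h => absurd hi h)).symm
        _ = (∑ j ∈ s, g j • f j) * b - b * ∑ j ∈ s, g j • f j := by
            simp [Finset.sum_mul, Finset.mul_sum, smul_sub, Finset.sum_sub_distrib]
        _ = 0 := by rw [hg, zero_mul, mul_zero, sub_zero]
    refine hab ⟨2, ?_⟩
    have hcom := sub_eq_zero.1 ((smul_eq_zero.1 e).resolve_left hgi)
    rw [pow_two]; conv_lhs => enter [2]; rw [hcom]
    rw [mul_assoc, ← mul_assoc b, hb.inG.sq, zero_mul, mul_zero]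
  haveI : Finite T := hli.finite
  exact Set.toFinite T

end Cfsg.Agent.QuadRoot
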