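import Cfsg.Agent.Lib.QuadRoot.Commutator

/-!
`quadraticRootSubgroups G` as a family of abstract root subgroups.
* `conj_mem`, `pair_cases`, `opp_of_rankOne`, `exists_partner`, `exists_sl2_subpair`
-/

set_option autoImplicit false
set_option linter.unusedSectionVars false

namespace Cfsg.Agent.QuadRoot

open Cfsg Module
open scoped MatrixGroups commutatorElement

universe u v

variable {k : Type u} [Field k] {M : Type v} [AddCommGroup M] [Module k M] [FiniteDimensional k M]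
  {G : Subgroup (LinearMap.GeneralLinearGroup k M)} {a b : Module.End k M}

local notation "E⟨" a "⟩" => sameActionSubgroup G (ex a)
local notation "ΣG" => quadraticRootSubgroups G

theorem mem_rootSubgroups (ha : Dmin G a) : E⟨a⟩ ∈ ΣG := mem_quadraticRootSubgroups.2 ⟨a, ha, rfl⟩

theorem le_of_mem {A : Subgroup (LinearMap.GeneralLinearGroup k M)} (hA : A ∈ ΣG) : A ≤ G := by
  obtain ⟨a, ha, rfl⟩ := mem_quadraticRootSubgroups.1 hA
  exact sameActionSubgroup_le ha

theorem conj_mem {A : Subgroup (LinearMap.GeneralLinearGroup k M)} (hA : A ∈ ΣG)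
    {g : LinearMap.GeneralLinearGroup k M} (hg : g ∈ G) : conjBy A g ∈ ΣG := by
  obtain ⟨a, ha, rfl⟩ := mem_quadraticRootSubgroups.1 hA
  rw [conjBy_sameActionSubgroup ha hg]
  exact mem_rootSubgroups (ha.conj hg)

theorem pair_cases (hk2 : ringChar k ≠ 2) (hk3 : Nat.card k ≠ 3) (hirr : Reduced G)
    {A B : Subgroup (LinearMap.GeneralLinearGroup k M)} (hA : A ∈ ΣG) (hB : B ∈ ΣG) :
    ⁅A, B⁆ = ⊥ ∨ IsRankOnePair A B ∨ RootCommutatorCase ΣG A B := by
  obtain ⟨a, ha, rfl⟩ := mem_quadraticRootSubgroups.1 hA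
  obtain ⟨b, hb, rfl⟩ := mem_quadraticRootSubgroups.1 hB
  by_cases h : Opp a b
  · exact Or.inr (Or.inl (rankOne_pair hk2 hk3 ha hb h))
  rcases unipotent_cases hk2 hk3 hirr ha hb h with h | ⟨z, hz⟩
  · exact Or.inl h
  · refine Or.inr (Or.inr ⟨hz.eq ▸ mem_rootSubgroups hz.dmin, hz.central, hz.left, hz.right⟩)

theorem not_rankOne_of_commutator {Γ : Type*} [Group Γ] {A B C : Subgroup Γ} (h : IsRankOnePair A B)
    (hC : ⁅A, B⁆ ≤ C) (hc : ∀ c ∈ C, ∀ x ∈ A ⊔ B, c * x = x * c) (hB : IsMulCommutative B) : False := by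
  -- `B ⊔ C` is normalised by `A`, so a partner equation puts `A` into it
  obtain ⟨a, ha, ha1⟩ := RankOne.exists_ne_one h
  obtain ⟨b, hb, -, e⟩ := h.cond_left a ha ha1
  have hA : ∀ x ∈ A, x ∈ B ⊔ C := by
    intro x hx
    have hx' : b⁻¹ * x * b ∈ conjBy B a⁻¹ := by
      rw [← e]; exact ⟨x, hx, by simp⟩
    obtain ⟨y, hy, he⟩ := hx'
    simp only [MulEquiv.coe_toMonoidHom, MulAut.conj_apply, inv_inv] at he
    have hy' : b⁻¹ * x * b ∈ B ⊔ C := by
      rw [← he, show a⁻¹ * y * a = ⁅a⁻¹, y⁆ * y by simp [commutatorElement_def, mul_assoc]]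
      exact mul_mem (Subgroup.mem_sup_right (hC (Subgroup.commutator_mem_commutator (inv_mem ha) hy)))
        (Subgroup.mem_sup_left hy)
    have := mul_mem (mul_mem (Subgroup.mem_sup_left (T := C) hb) hy') (inv_mem (Subgroup.mem_sup_left hb))
    simpa [mul_assoc] using this
  have hcomm : B ⊔ C ≤ Subgroup.centralizer (B : Set Γ) := by
    refine sup_le (fun x hx => Subgroup.mem_centralizer_iff.2 fun y hy => ?_)
      (fun x hx => Subgroup.mem_centralizer_iff.2 fun y hy => (hc x hx y (Subgroup.mem_sup_right hy)).symm)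
    exact congrArg Subtype.val (mul_comm' (⟨y, hy⟩ : B) ⟨x, hx⟩)
  refine RankOne.left_ne_bot h ((RankOne.inf_normalizer_eq_bot h).symm.trans ?_).symm
  exact inf_eq_left.2 fun x hx => Subgroup.centralizer_le_normalizer _ (hcomm (hA x hx))

theorem opp_of_rankOne (hk2 : ringChar k ≠ 2) (hk3 : Nat.card k ≠ 3) (hirr : Reduced G) (ha : Dmin G a)
    (hb : Dmin G b) (h : IsRankOnePair E⟨a⟩ E⟨b⟩) : Opp a b := by
  by_contra hno
  rcases unipotent_cases hk2 hk3 hirr ha hb hno with h' | ⟨z, hz⟩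
  · exact not_rankOne_of_commutator (C := ⊥) h (by rw [h'])
      (fun c hc x _ => by rw [Subgroup.mem_bot.1 hc, one_mul, mul_one]) (sameActionSubgroup_comm hb)
  · exact not_rankOne_of_commutator h le_rfl hz.central (sameActionSubgroup_comm hb)

theorem exists_partner (hk2 : ringChar k ≠ 2) (hk3 : Nat.card k ≠ 3) (hirr : Reduced G)
    {A : Subgroup (LinearMap.GeneralLinearGroup k M)} (hA : A ∈ ΣG) : ∃ B ∈ ΣG, IsRankOnePair A B := by
  obtain ⟨a, ha, rfl⟩ := mem_quadraticRootSubgroups.1 hA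
  obtain ⟨b, hb, h⟩ := exists_opp hk2 hk3 hirr ha
  exact ⟨_, mem_rootSubgroups hb, rankOne_pair hk2 hk3 ha hb h⟩

theorem three_lt_enatCard {L : Type u} [Field L] [Algebra k L] (hk2 : ringChar k ≠ 2) (hk3 : Nat.card k ≠ 3) :
    3 < ENat.card L := by
  cases finite_or_infinite L
  · haveI : Finite k := Finite.of_injective _ (algebraMap k L).injective
    rw [ENat.card_eq_coe_natCard]
    have h1 := Nat.card_le_card_of_injective _ (algebraMap k L).injective
    have h2 : 4 ≤ Nat.card k := by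
      have h1 := Finite.one_lt_card (α := k)
      by_contra h
      have h2 : Nat.card k = 2 := by omega
      haveI := ringChar.charP k
      haveI : Fact (ringChar k).Prime := ⟨CharP.char_is_prime k _⟩
      obtain ⟨e, -, hc⟩ := @FiniteField.card k _ (Fintype.ofFinite k) (ringChar k) _
      rw [Fintype.card_eq_nat_card, h2] at hc
      exact hk2 ((Nat.prime_dvd_prime_iff_eq Fact.out Nat.prime_two).1 (hc ▸ dvd_pow_self _ e.pos.ne'))
    exact_mod_cast (by omega : 3 < Nat.card L)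
  · rw [ENat.card_eq_top_of_infinite]; exact ENat.coe_lt_top 3

theorem exists_sl2_subpair (hk2 : ringChar k ≠ 2) (hk3 : Nat.card k ≠ 3) (ha : Dmin G a) (hb : Dmin G b)
    (h : Opp a b) : ∃ A₀ B₀ : Subgroup (LinearMap.GeneralLinearGroup k M), A₀ ≤ E⟨a⟩ ∧ B₀ ≤ E⟨b⟩ ∧
      ∃ (k₁ : Type u) (_ : Field k₁), 3 < ENat.card k₁ ∧ IsPSL2PairOver k₁ A₀ B₀ := by
  obtain ⟨L, _, _, ⟨c⟩⟩ := exists_model hk2 hk3 ha hb h
  refine ⟨(upperUnipotentSL2 L).map c.rho, (lowerUnipotentSL2 L).map c.rho, ?_, ?_, L, inferInstance,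
    three_lt_enatCard hk2 hk3, c.rho, ?_, ?_, rfl, rfl⟩
  · rintro _ ⟨g, hg, rfl⟩
    obtain ⟨t, rfl⟩ := RankOne.mem_upperUnipotentSL2.1 hg
    exact c.rho_upR_mem ha t
  · rintro _ ⟨g, hg, rfl⟩
    obtain ⟨t, rfl⟩ := RankOne.mem_lowerUnipotentSL2.1 hg
    exact c.rho_loR_mem hb t
  · rw [← Subgroup.map_sup, sup_comm, RankOne.lower_sup_upper, MonoidHom.range_eq_map]
  · rw [(MonoidHom.ker_eq_bot_iff _).2 c.rho_injective]; exact bot_le

end Cfsg.Agent.QuadRoot
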